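import Cfsg.Agent.Omega.NOThreeL.RTools.Many.Four
import Cfsg.Agent.Omega.NOThreeL.RTransv

/-!
# NO-3L, box R, case (A), `q = 2`, all `k`, symplectic case (#18037): (5), `[W, W^g] = 1`

`W = Wl S H e` : the product of the lines in `H` on `e`. `K = C_H(e)`.

* `SpK.K_perm`, `SpK.K_norm_Yk`, `SpK.K_norm_Lk` : `K` permutes the `z_i` and normalises `Y₁`, `L`;
* `Qk` : the elements of `H` trivial on `Y₁ / L` and `L`; `SpK.Qk_odd` : an odd element of `Qk` centralises `U`;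
  `SpK.Qk_mul` : `Qk ≤ S C(U)`; `SpK.Qk_norm` : `Qk` normalises every line of `W`;
* `SpK.w_Yk` : `Y₁^w ≤ Qk`; `SpK.Wl_w` : `[W, W^w] = 1`; **`SpK.WW`** : `[W, W^g] = 1`.

No Frattini argument: `Qk` is invariant under `K`.
-/

set_option autoImplicit false
set_option linter.unusedSectionVars false

namespace Cfsg.Agent.Omega.NOThreeL.RTools.Many

open Subgroup Cfsg Cfsg.Agent.Omega.MinPar Cfsg.Agent.Omega.NOThreeL.RTools
open Cfsg.Agent.ZN (zc zl o2)
open Cfsg.Agent.Omega.Frame Cfsg.Agent.Omega.FrameNOFF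
open Cfsg.Agent.Omega.Node.NO3L Cfsg.Agent.Omega.NOThreeL.Basic
open Cfsg.Agent.Omega.NoFF.Basic (conj_conj mem_conj conj_le_iff conj_le_centralizer comm_symm comm_mono)
open Cfsg.Agent.Omega.NOThreeL.Pair (conj_eq_of_mem conj_le_normalizer zl_abel)
open Cfsg.Agent.MinSimple.VModule (zl_le zc_le_zl le_normalizer_zl zc_le o2_isPGroup le_normalizer_o2 le_o2
  normalizer_le_normalizer_zc oddGen oddGen_def oddGen_le_of_sup le_normalizer_oddGen mem_oddGen)
open Cfsg.Agent.Omega.NOThreeL (mem_normalizer_of_conj_eq le_normalizer_of mem_sup_of_comm)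
open Cfsg.Agent.Omega.NOThreeL.RTransv (act mem_act conj_act conj_cent mem_normalizer_inf mem_of_odd sq_mem)
open scoped Pointwise

universe u

variable {G : Type u} [Group G]

/-- `Qk` : the elements of `H` which are trivial on `Y₁ / L` and on `L` -/
def Qk {k : ℕ} (S P H : Subgroup G) (z : Fin k → G) : Subgroup G :=
  H ⊓ (act (Yk S P H z) (Lk S P H z) ⊓ centralizer (Lk S P H z : Set G))

namespace SpK

variable [Finite G] {S : Sylow 2 G} {P H : Subgroup G} {k : ℕ} {z n : Fin k → G} {e w : G}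
variable {B : G → G → ℤˣ} {ω : Fin k → G}
variable (D : SpK S P H z n e w B ω)
include D

theorem e_LP : LP z = e := D.eprod.symm

theorem e_V : e ∈ zl (S : Subgroup G) P := zc_le_zl _ _ D.eZ

/-- `K = C_H(e)` permutes the `z_i` -/
theorem K_perm {c : G} (hc : c ∈ H ⊓ centralizer ({e} : Set G)) :
    ∃ σ : Equiv.Perm (Fin k), ∀ i, c * z i * c⁻¹ = z (σ i) :=
  D.sys.perm (mem_inf.mp hc).1 (by rw [D.e_LP]; exact (mem_centralizer_iff.mp (mem_inf.mp hc).2 e rfl).symm)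

theorem K_norm_Yk : H ⊓ centralizer ({e} : Set G) ≤ normalizer (Yk (S : Subgroup G) P H z : Set G) := by
  refine le_normalizer_of fun c hc x hx => ?_
  have hcH := (mem_inf.mp hc).1
  obtain ⟨h1, h2⟩ := (D.mem_Yk).mp hx
  obtain ⟨σ, hσ⟩ := D.K_perm (inv_mem hc)
  refine (D.mem_Yk).mpr ⟨D.conj_mem hcH h1, fun i => ?_⟩
  rw [D.sys.symm _ (z_mem_Uk H z i) _ (D.conj_mem hcH h1), D.B_conj hcH h1 (z_mem_Uk H z i)]
  have h3 := hσ i
  rw [inv_inv] at h3
  rw [h3, D.sys.symm _ h1 _ (z_mem_Uk H z _)]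
  exact h2 _

theorem K_norm_Lk : H ⊓ centralizer ({e} : Set G) ≤ normalizer (Lk (S : Subgroup G) P H z : Set G) := by
  refine le_normalizer_sup (le_normalizer_of fun c hc x hx => ?_) (inf_le_left.trans D.H_norm_Ik)
  obtain ⟨σ, hσ⟩ := D.K_perm hc
  refine closure_induction (p := fun x _ => c * x * c⁻¹ ∈ closure (Set.range z)) ?_ ?_ ?_ ?_ hx
  · rintro _ ⟨i, rfl⟩
    rw [hσ i]
    exact subset_closure ⟨_, rfl⟩
  · rw [mul_one, mul_inv_cancel]; exact one_mem _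
  · intro x y _ _ h1 h2
    have e1 : c * (x * y) * c⁻¹ = (c * x * c⁻¹) * (c * y * c⁻¹) := by group
    rw [e1]
    exact mul_mem h1 h2
  · intro x _ h1
    have e1 : c * x⁻¹ * c⁻¹ = (c * x * c⁻¹)⁻¹ := by group
    rw [e1]
    exact inv_mem h1

theorem K_norm_Qk : H ⊓ centralizer ({e} : Set G) ≤ normalizer (Qk (S : Subgroup G) P H z : Set G) := fun _ hc =>
  mem_normalizer_inf (Subgroup.le_normalizer (mem_inf.mp hc).1)
    (mem_normalizer_inf (conj_act (D.K_norm_Yk hc) (D.K_norm_Lk hc)) (conj_cent (D.K_norm_Lk hc)))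

/-- `S ≤ K` -/
theorem S_le_K : (S : Subgroup G) ≤ H ⊓ centralizer ({e} : Set G) := by
  refine le_inf D.SH fun s hs => ?_
  rw [mem_centralizer_iff]
  rintro _ rfl
  exact (zcomm D.eZ hs).symm

theorem C_le_K : centralizer (zl (S : Subgroup G) P : Set G) ≤ H ⊓ centralizer ({e} : Set G) := by
  refine le_inf D.C_le_H fun x hx => ?_
  rw [mem_centralizer_iff]
  rintro _ rfl
  exact mem_centralizer_iff.mp hx _ D.e_V

theorem Lk_le_Yk : Lk (S : Subgroup G) P H z ≤ Yk (S : Subgroup G) P H z := by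
  refine sup_le ?_ D.Ik_le_Yk
  rw [closure_le]
  rintro _ ⟨i, rfl⟩
  exact D.z_mem_Yk i

/-- **an odd element of `Qk` centralises `U`** -/
theorem Qk_odd {x : G} (hx : x ∈ Qk (S : Subgroup G) P H z) (ho : Odd (orderOf x)) :
    x ∈ centralizer (zl (S : Subgroup G) H : Set G) := by
  obtain ⟨hH, h1⟩ := mem_inf.mp hx
  obtain ⟨h1, h2⟩ := mem_inf.mp h1
  have h3 : x ∈ centralizer (Yk (S : Subgroup G) P H z : Set G) :=
    mem_of_odd ho (sq_mem D.Lk_le_Yk (fun u hu => D.Uk_sq (mem_inf.mp hu).1) h1 h2)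
  have h4 : x ∈ RTransv.act (Uk H z) (Yk (S : Subgroup G) P H z) := by
    refine mem_act.mpr ⟨le_normalizer_Uk H z hH, fun u hu => ?_⟩
    have h5 : x * u * x⁻¹ * u⁻¹ ∈ Uk H z := mul_mem (D.conj_mem hH hu) (inv_mem hu)
    refine (D.mem_Yk).mpr ⟨h5, fun i => ?_⟩
    have h6 : x * z i * x⁻¹ = z i := by
      have h7 := mem_centralizer_iff.mp h3 _ (D.z_mem_Yk i)
      rw [← h7, mul_inv_cancel_right]
    have h7 := D.sys.isom x hH _ (z_mem_Uk H z i) u hu
    rw [h6] at h7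
    rw [D.sys.mul _ (z_mem_Uk H z i) _ (D.conj_mem hH hu) _ (inv_mem hu), D.sys.toForm0.inv_right hu, h7,
      Symp.units_mul_self]
  have h5 : x ∈ centralizer (Uk H z : Set G) :=
    mem_of_odd ho (sq_mem inf_le_left (fun u hu => D.Uk_sq hu) h4 h3)
  exact D.cent_U (mem_inf.mpr ⟨hH, h5⟩)

/-- **`Qk ≤ S C(U)`** -/
theorem Qk_mul {g : G} (hg : g ∈ Qk (S : Subgroup G) P H z) :
    ∃ s ∈ (S : Subgroup G), ∃ d ∈ centralizer (zl (S : Subgroup G) H : Set G), g = s * d := by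
  set X := Qk (S : Subgroup G) P H z with hX
  have hSX : (S : Subgroup G) ≤ normalizer (X : Set G) := D.S_le_K.trans D.K_norm_Qk
  have hn : X ⊔ (S : Subgroup G) ≤ normalizer (X : Set G) := sup_le Subgroup.le_normalizer hSX
  have h1 : oddGen (X ⊔ (S : Subgroup G)) ≤ X :=
    oddGen_le_of_sup hn le_rfl le_sup_right le_sup_left S.isPGroup'
  have h2 : oddGen (X ⊔ (S : Subgroup G)) ≤ centralizer (zl (S : Subgroup G) H : Set G) := by
    rw [oddGen_def, closure_le]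
    rintro x ⟨hx, ho⟩
    exact D.Qk_odd (h1 (mem_oddGen hx ho)) ho
  have h3 := NoFF.LinesPlug.oddGen_sup (P := X ⊔ (S : Subgroup G)) le_sup_right
    (MinSimple.Basic.not_dvd_relIndex S le_sup_right)
  have h4 : g ∈ ((S : Subgroup G) ⊔ oddGen (X ⊔ (S : Subgroup G)) : Subgroup G) := by
    rw [sup_comm, h3]; exact (le_sup_left : X ≤ _) hg
  have h5 : (S : Subgroup G) ≤ normalizer (oddGen (X ⊔ (S : Subgroup G)) : Set G) :=
    le_sup_right.trans (le_normalizer_oddGen _)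
  have h6 : (g : G) ∈ (((S : Subgroup G) : Set G) * (oddGen (X ⊔ (S : Subgroup G)) : Set G)) := by
    rw [← coe_mul_of_left_le_normalizer_right _ _ h5]
    exact h4
  obtain ⟨s, hs, d, hd, rfl⟩ := Set.mem_mul.1 h6
  exact ⟨s, hs, d, h2 hd, rfl⟩

/-- **`Qk` normalises the lines of `W`** -/
theorem Qk_norm {P₁ : Subgroup G} (h1 : IsParS (S : Subgroup G) P₁) (h2 : P₁ ≤ H) {c : G}
    (hc : c ∈ H ⊓ centralizer ({e} : Set G)) :
    Qk (S : Subgroup G) P H z ≤ normalizer ((MulAut.conj c • zl (S : Subgroup G) P₁ : Subgroup G) : Set G) := by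
  have h3 : Qk (S : Subgroup G) P H z ≤ normalizer (zl (S : Subgroup G) P₁ : Set G) := by
    intro g hg
    obtain ⟨s, hs, d, hd, rfl⟩ := D.Qk_mul hg
    have h4 : zl (S : Subgroup G) P₁ ≤ zl (S : Subgroup G) H := by
      have h5 := D.line_le_U h2 H.one_mem
      rwa [map_one, one_smul] at h5
    exact mul_mem (le_normalizer_zl _ _ (h1.le hs)) (centralizer_le_normalizer _ (centralizer_le h4 hd))
  have h4 := conj_le_normalizer (g := c) h3
  rwa [conj_eq_of_mem (D.K_norm_Qk hc)] at h4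

/-- `Y₁^w ≤ Qk` -/
theorem w_Yk {y : G} (hy : y ∈ Yk (S : Subgroup G) P H z) : w * y * w⁻¹ ∈ Qk (S : Subgroup G) P H z := by
  have h1 : w * y * w⁻¹ ∈ MulAut.conj w • Uk H z ⊓ centralizer (zl (S : Subgroup G) P : Set G) := by
    refine mem_inf.mpr ⟨?_, conj_mem_of_mem (D.P_normC D.w_mem) (mem_inf.mp hy).2⟩
    rw [mem_conj]
    have e1 : w⁻¹ * (w * y * w⁻¹) * w = y := by group
    rw [e1]
    exact (mem_inf.mp hy).1
  have h2 := (mem_inf.mp h1).2
  refine mem_inf.mpr ⟨D.C_le_H h2, mem_inf.mpr ⟨mem_act.mpr ⟨D.K_norm_Yk (D.C_le_K h2), fun u hu => ?_⟩, ?_⟩⟩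
  · have h3 := D.comm_L hu h1
    rwa [cm_def] at h3
  · rw [mem_centralizer_iff]
    intro l hl
    have h3 : Lk (S : Subgroup G) P H z ≤ centralizer ({w * y * w⁻¹} : Set G) := by
      refine sup_le ?_ fun x hx => ?_
      · rw [closure_le]
        rintro _ ⟨i, rfl⟩
        refine mem_centralizer_iff.mpr fun a ha => ?_
        rw [Set.mem_singleton_iff.mp ha]
        exact (mem_centralizer_iff.mp h2 _ (D.zV i)).symm
      · refine mem_centralizer_iff.mpr fun a ha => ?_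
        rw [Set.mem_singleton_iff.mp ha]
        exact D.rad_comm hx h1
    exact (mem_centralizer_iff.mp (h3 hl) _ rfl).symm

/-- `w² ∈ C(V)` -/
theorem ww_mem : w * w ∈ centralizer (zl (S : Subgroup G) P : Set G) := by
  have h0 : closure (Set.range z ∪ Set.range n) ≤ centralizer ({w * w} : Set G) := by
    rw [closure_le]
    rintro _ (⟨i, rfl⟩ | ⟨i, rfl⟩)
    · refine mem_centralizer_iff.mpr fun y hy => ?_
      rw [Set.mem_singleton_iff.mp hy]
      have h1 : w * w * z i * (w * w)⁻¹ = z i := by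
        calc w * w * z i * (w * w)⁻¹ = w * (w * z i * w⁻¹) * w⁻¹ := by group
          _ = z i := by rw [D.wz, D.wn]
      rwa [mul_inv_eq_iff_eq_mul] at h1
    · refine mem_centralizer_iff.mpr fun y hy => ?_
      rw [Set.mem_singleton_iff.mp hy]
      have h1 : w * w * n i * (w * w)⁻¹ = n i := by
        calc w * w * n i * (w * w)⁻¹ = w * (w * n i * w⁻¹) * w⁻¹ := by group
          _ = n i := by rw [D.wn, D.wz]
      rwa [mul_inv_eq_iff_eq_mul] at h1
  rw [mem_centralizer_iff]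
  intro v hv
  obtain ⟨x, hx, ε, hε, rfl⟩ := D.cov v hv
  have h1 : w * w * ε = ε * (w * w) := (mem_centralizer_iff.mp (mem_inf.mp hε).2 _ (mul_mem D.w_mem D.w_mem))
  have h2 : w * w * x = x * (w * w) := mem_centralizer_iff.mp (h0 hx) _ rfl
  calc x * ε * (w * w) = x * (ε * (w * w)) := by group
    _ = (x * (w * w)) * ε := by rw [← h1]; group
    _ = w * w * (x * ε) := by rw [← h2]; group

/-- `Y₁^(w⁻¹) ≤ Qk` -/
theorem winv_Yk {y : G} (hy : y ∈ Yk (S : Subgroup G) P H z) : w⁻¹ * y * w ∈ Qk (S : Subgroup G) P H z := by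
  have h1 : (w * w)⁻¹ * y * (w * w) ∈ Yk (S : Subgroup G) P H z := by
    have h2 := conj_mem_of_mem (D.K_norm_Yk (D.C_le_K (inv_mem D.ww_mem))) hy
    rwa [inv_inv] at h2
  have h2 := D.w_Yk h1
  have e1 : w * ((w * w)⁻¹ * y * (w * w)) * w⁻¹ = w⁻¹ * y * w := by group
  rwa [e1] at h2

/-- an element of `W` is `y ε`, `y ∈ Y₁`, `ε ∈ E` -/
theorem exists_Wl {x : G} (hx : x ∈ Wl (S : Subgroup G) H e) :
    ∃ y ∈ Yk (S : Subgroup G) P H z, ∃ ε ∈ zc (S : Subgroup G) ⊓ centralizer (P : Set G), x = y * ε := by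
  have hV := D.Wl_cent_V D.eZ D.e_not hx
  obtain ⟨y, hy, ε, hε, rfl⟩ := D.exists_mulE (D.Wl_le_U hx)
  refine ⟨y, mem_inf.mpr ⟨hy, ?_⟩, ε, hε, rfl⟩
  rw [mem_centralizer_iff]
  intro v hv
  have h1 := mem_centralizer_iff.mp hV v hv
  have h2 : ε * v = v * ε := (zcomm (mem_inf.mp hε).1 (D.VS hv)).symm
  have h3 : (v * y) * ε = (y * v) * ε := by
    calc (v * y) * ε = v * (y * ε) := by group
      _ = y * (ε * v) := by rw [h1]; group
      _ = (y * v) * ε := by rw [h2]; group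
  exact mul_right_cancel h3

/-- **`[W, W^w] = 1`** -/
theorem Wl_w : Wl (S : Subgroup G) H e ≤
    centralizer ((MulAut.conj w • Wl (S : Subgroup G) H e : Subgroup G) : Set G) := by
  -- `W^w` and `W^(w⁻¹)` normalise the lines of `W`
  have n1 : ∀ {P₁ : Subgroup G}, IsParS (S : Subgroup G) P₁ → P₁ ≤ H →
      ∀ {c : G}, c ∈ H ⊓ centralizer ({e} : Set G) → ∀ x ∈ Wl (S : Subgroup G) H e,
      w * x * w⁻¹ ∈ normalizer ((MulAut.conj c • zl (S : Subgroup G) P₁ : Subgroup G) : Set G) ∧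
      w⁻¹ * x * w ∈ normalizer ((MulAut.conj c • zl (S : Subgroup G) P₁ : Subgroup G) : Set G) := by
    intro P₁ h1 h2 c hc x hx
    obtain ⟨y, hy, ε, hε, rfl⟩ := D.exists_Wl hx
    have h3 : ε ∈ normalizer ((MulAut.conj c • zl (S : Subgroup G) P₁ : Subgroup G) : Set G) := by
      refine centralizer_le_normalizer _ (centralizer_le (D.line_le_U h2 (mem_inf.mp hc).1) ?_)
      rw [mem_centralizer_iff]
      intro u hu
      exact D.commU hu (HypK.ZU (mem_inf.mp hε).1)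
    have h4 : w * ε = ε * w := (mem_centralizer_iff.mp (mem_inf.mp hε).2 _ D.w_mem)
    have e1 : w * (y * ε) * w⁻¹ = (w * y * w⁻¹) * ε := by
      calc w * (y * ε) * w⁻¹ = w * y * w⁻¹ * (w * ε) * w⁻¹ := by group
        _ = (w * y * w⁻¹) * ε := by rw [h4]; group
    have e2 : w⁻¹ * (y * ε) * w = (w⁻¹ * y * w) * ε := by
      calc w⁻¹ * (y * ε) * w = w⁻¹ * y * (ε * w) := by group
        _ = (w⁻¹ * y * w) * ε := by rw [← h4]; group
    rw [e1, e2]
    exact ⟨mul_mem (D.Qk_norm h1 h2 hc (D.w_Yk hy)) h3, mul_mem (D.Qk_norm h1 h2 hc (D.winv_Yk hy)) h3⟩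
  -- lines
  have n2 : ∀ {P₁ P₂ : Subgroup G}, IsParS (S : Subgroup G) P₁ → P₁ ≤ H → IsParS (S : Subgroup G) P₂ → P₂ ≤ H →
      ∀ {c d : G}, c ∈ H ⊓ centralizer ({e} : Set G) → d ∈ H ⊓ centralizer ({e} : Set G) →
      MulAut.conj c • zl (S : Subgroup G) P₁ ≤
        centralizer ((MulAut.conj (w * d) • zl (S : Subgroup G) P₂ : Subgroup G) : Set G) := by
    intro P₁ P₂ h1 h2 h3 h4 c d hc hd
    refine D.noff' h1 h3 ?_ ?_
    · -- `ℓ ≤ N(ℓ'^w)`
      rw [← conj_conj]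
      have h5 : MulAut.conj w⁻¹ • (MulAut.conj c • zl (S : Subgroup G) P₁ : Subgroup G) ≤
          normalizer ((MulAut.conj d • zl (S : Subgroup G) P₂ : Subgroup G) : Set G) := by
        intro x hx
        rw [mem_conj, inv_inv] at hx
        have h6 := (n1 h3 h4 hd _ (line_le_Wl h1 h2 hc hx)).2
        have e1 : w⁻¹ * (w * x * w⁻¹) * w = x := by group
        rwa [e1] at h6
      have h6 := conj_le_normalizer (g := w) h5
      rwa [conj_conj, mul_inv_cancel, map_one, one_smul] at h6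
    · rw [← conj_conj]
      intro x hx
      rw [mem_conj] at hx
      have h6 := (n1 h1 h2 hc _ (line_le_Wl h3 h4 hd hx)).1
      have e1 : w * (w⁻¹ * x * w) * w⁻¹ = x := by group
      rwa [e1] at h6
  refine Wl_le fun P₁ h1 h2 c hc => ?_
  refine comm_symm ?_
  have h3 : Wl (S : Subgroup G) H e ≤
      MulAut.conj w⁻¹ • centralizer ((MulAut.conj c • zl (S : Subgroup G) P₁ : Subgroup G) : Set G) := by
    refine Wl_le fun P₂ h3 h4 d hd => ?_
    have h5 := comm_symm (n2 h1 h2 h3 h4 hc hd)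
    have h6 := (conj_le_iff (g := w⁻¹)).2 h5
    rwa [conj_conj, inv_mul_cancel_left] at h6
  have h4 := (conj_le_iff (g := w)).2 h3
  rwa [conj_conj, mul_inv_cancel, map_one, one_smul] at h4

/-- `w⁻¹ g ∈ K` -/
theorem wg_mem : w⁻¹ * gk ω w ∈ H ⊓ centralizer ({e} : Set G) := by
  have h1 : w⁻¹ * gk ω w ∈ CZ (S : Subgroup G) := by
    rw [D.Cz _ (mul_mem (inv_mem D.w_mem) D.gP)]
    intro i
    refine ⟨i, ?_⟩
    calc w⁻¹ * gk ω w * z i * (w⁻¹ * gk ω w)⁻¹ = w⁻¹ * (gk ω w * z i * (gk ω w)⁻¹) * w := by group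
      _ = z i := by rw [D.gz i, D.winv_n i]
  exact mem_inf.mpr ⟨D.CH h1, centralizer_le (Set.singleton_subset_iff.2 D.eZ) h1⟩

theorem conj_g_Wl : MulAut.conj (gk ω w) • Wl (S : Subgroup G) H e = MulAut.conj w • Wl (S : Subgroup G) H e := by
  have h1 := conj_eq_of_mem (K_norm_Wl (S := (S : Subgroup G)) D.wg_mem)
  calc MulAut.conj (gk ω w) • Wl (S : Subgroup G) H e
      = MulAut.conj w • (MulAut.conj (w⁻¹ * gk ω w) • Wl (S : Subgroup G) H e) := by
        rw [conj_conj, mul_inv_cancel_left]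
    _ = MulAut.conj w • Wl (S : Subgroup G) H e := by rw [h1]

/-- **(5)** `[W, W^g] = 1` -/
theorem WW {x y : G} (hx : x ∈ Wl (S : Subgroup G) H e) (hy : y ∈ Wl (S : Subgroup G) H e) :
    x * (gk ω w * y * (gk ω w)⁻¹) = (gk ω w * y * (gk ω w)⁻¹) * x := by
  have h1 : gk ω w * y * (gk ω w)⁻¹ ∈ MulAut.conj w • Wl (S : Subgroup G) H e := by
    rw [← D.conj_g_Wl, mem_conj]
    have e1 : (gk ω w)⁻¹ * (gk ω w * y * (gk ω w)⁻¹) * gk ω w = y := by group
    rwa [e1]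
  exact (mem_centralizer_iff.mp (D.Wl_w hx) _ h1).symm

end SpK

end Cfsg.Agent.Omega.NOThreeL.RTools.Many
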