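import Cfsg.Agent.Omega.NOThreeL.RTools.Many.Four

/-!
# NO-3L, box R, case (A), `q = 2`, all `k`, symplectic case: the frame of (9') (#18224, helper401)

`p = e^h ∈ T`: `R = U_{C_G(p)} = ⟨Z^{C_G(e)}⟩^h` is abelian, normalised by `C_G(p)`, and `Z^h` contains some `y ε`,
`y ∈ U₁ - T`, `ε ∈ E`.

* `SpK.not_X_le` : `X = ⟨U₁, U₁^w⟩` is not contained in `H`; **`SpK.frame`**.
-/

set_option autoImplicit false
set_option linter.unusedSectionVars false

namespace Cfsg.Agent.Omega.NOThreeL.RTools.Many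

open Subgroup Cfsg Cfsg.Agent.Omega.MinPar Cfsg.Agent.Omega.NOThreeL.RTools
open Cfsg.Agent.ZN (zc zl o2)
open Cfsg.Agent.Omega.Frame Cfsg.Agent.Omega.FrameNOFF
open Cfsg.Agent.Omega.Node.NO3L Cfsg.Agent.Omega.NOThreeL.Basic
open Cfsg.Agent.Omega.NoFF.Basic (conj_conj mem_conj conj_le_iff conj_le_centralizer comm_symm comm_mono)
open Cfsg.Agent.Omega.NOThreeL.Pair (conj_eq_of_mem conj_le_normalizer zl_abel)
open Cfsg.Agent.MinSimple.VModule (zl_le zc_le_zl le_normalizer_zl zc_le o2_isPGroup le_normalizer_o2 le_o2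
  normalizer_le_normalizer_zc)
open Cfsg.Agent.Omega.NOThreeL (mem_normalizer_of_conj_eq le_normalizer_of mem_sup_of_comm)
open scoped Pointwise

universe u

variable {G : Type u} [Group G]

namespace SpK

variable [Finite G] {S : Sylow 2 G} {P H : Subgroup G} {k : ℕ} {z n : Fin k → G} {e w : G}
variable {B : G → G → ℤˣ} {ω : Fin k → G}
variable (D : SpK S P H z n e w B ω)
include D

theorem e_ne : e ≠ 1 := by
  rintro rfl
  apply D.e_not
  intro h _
  rw [mem_centralizer_iff]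
  intro y hy
  rw [Set.mem_singleton_iff.mp hy, one_mul, mul_one]

theorem gk_not : gk ω w ∉ H := by
  intro h
  obtain ⟨i, -⟩ := D.exists_i
  have h1 : n i ∈ Uk H z := by
    rw [← D.gz i]
    exact D.conj_mem h (z_mem_Uk H z i)
  have h2 := D.un i
  rw [D.Uk_comm D.uU h1, mul_inv_cancel_right] at h2
  exact D.z1 i (mul_eq_right.1 h2.symm)

/-- **`X ≰ H`** -/
theorem not_X_le : ¬ Uk H z ⊔ MulAut.conj w • Uk H z ≤ H := fun h => D.gk_not (h D.gX)

/-- the frame of (9'), for every `p = e^h` -/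
theorem frame₀ {h : G} (hh : h ∈ H) :
    ∃ R : Subgroup G, (∀ a ∈ R, ∀ b ∈ R, a * b = b * a) ∧
    (∀ c : G, c * (h * e * h⁻¹) = (h * e * h⁻¹) * c → ∀ r ∈ R, c * r * c⁻¹ ∈ R) ∧
    ∃ y ∈ Uk H z, ∃ ε ∈ zc (S : Subgroup G) ⊓ centralizer (P : Set G), y * ε ∈ R ∧ y ∉ Tk H z w := by
  have hL : IsLong (S : Subgroup G) (centralizer ({e} : Set G)) := isLong S D.eZ D.e_ne
  refine ⟨MulAut.conj h • zl (S : Subgroup G) (centralizer ({e} : Set G)), ?_, ?_, ?_⟩
  · intro a ha b hb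
    rw [mem_conj] at ha hb
    have h1 := mem_centralizer_iff.mp ((zl_abel D.hc S hL.loc).1 hb) _ ha
    calc a * b = h * ((h⁻¹ * a * h) * (h⁻¹ * b * h)) * h⁻¹ := by group
      _ = h * ((h⁻¹ * b * h) * (h⁻¹ * a * h)) * h⁻¹ := by rw [h1]
      _ = b * a := by group
  · intro c hc r hr
    rw [mem_conj] at hr ⊢
    have h1 : h⁻¹ * c * h ∈ centralizer ({e} : Set G) := by
      rw [mem_centralizer_iff]
      intro y hy
      rw [Set.mem_singleton_iff.mp hy]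
      calc e * (h⁻¹ * c * h) = h⁻¹ * ((h * e * h⁻¹) * c) * h := by group
        _ = h⁻¹ * (c * (h * e * h⁻¹)) * h := by rw [hc]
        _ = h⁻¹ * c * h * e := by group
    have h2 := conj_mem_of_mem (le_normalizer_zl (S : Subgroup G) _ h1) hr
    have e1 : h⁻¹ * c * h * (h⁻¹ * r * h) * (h⁻¹ * c * h)⁻¹ = h⁻¹ * (c * r * c⁻¹) * h := by group
    rwa [e1] at h2
  · have h1 : ∃ x ∈ Uk H z ⊔ MulAut.conj w • Uk H z, ∃ y ∈ zc (S : Subgroup G),
        x * (h * y * h⁻¹) ≠ (h * y * h⁻¹) * x := by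
      by_contra hcon
      push Not at hcon
      apply D.not_X_le
      intro x hx
      have h2 : h⁻¹ * x * h ∈ CZ (S : Subgroup G) := by
        refine mem_centralizer_iff.mpr fun y hy => ?_
        have h3 := hcon x hx y hy
        calc y * (h⁻¹ * x * h) = h⁻¹ * ((h * y * h⁻¹) * x) * h := by group
          _ = h⁻¹ * (x * (h * y * h⁻¹)) * h := by rw [h3]
          _ = h⁻¹ * x * h * y := by group
      have h3 := mul_mem (mul_mem hh (D.CH h2)) (inv_mem hh)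
      have e1 : h * (h⁻¹ * x * h) * h⁻¹ = x := by group
      rwa [e1] at h3
    obtain ⟨x, hx, v, hv, hne⟩ := h1
    have h2 : h * v * h⁻¹ ∈ zl (S : Subgroup G) H := conj_mem_of_mem (le_normalizer_zl _ _ hh) (HypK.ZU hv)
    obtain ⟨y, hy, ε, hε, h3⟩ := D.exists_mulE h2
    refine ⟨y, hy, ε, hε, ?_, fun hyT => hne ?_⟩
    · rw [← h3, mem_conj]
      have e1 : h⁻¹ * (h * v * h⁻¹) * h = v := by group
      rw [e1]
      exact zc_le_zl _ _ hv
    · have h4 := mem_centralizer_iff.mp (D.X_T hx) y hyT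
      have h5 := mem_centralizer_iff.mp (mem_inf.mp hε).2 x (D.X_le hx)
      rw [h3]
      calc x * (y * ε) = x * y * ε := by group
        _ = y * (x * ε) := by rw [← h4]; group
        _ = y * ε * x := by rw [h5]; group

/-- **the frame of (9')**, as used in `End` -/
theorem frame {h : G} (hh : h ∈ H) (hT : h * LP z * h⁻¹ ∈ Tk H z w) :
    ∃ R : Subgroup G, (∀ a ∈ R, ∀ b ∈ R, a * b = b * a) ∧
    (∀ c ∈ H, c * (h * LP z * h⁻¹) = (h * LP z * h⁻¹) * c → ∀ r ∈ R, c * r * c⁻¹ ∈ R) ∧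
    (∀ r ∈ R, gk ω w * r * (gk ω w)⁻¹ ∈ R) ∧
    ∃ y ∈ Uk H z, ∃ ε : G, (∀ m ∈ Uk H z, ε * m = m * ε) ∧ ε * gk ω w = gk ω w * ε ∧ y * ε ∈ R ∧
      y ∉ Tk H z w := by
  obtain ⟨R, h1, h2, y, hy, ε, hε, h3, h4⟩ := D.frame₀ hh
  have he : LP z = e := D.eprod.symm
  rw [he] at hT ⊢
  refine ⟨R, h1, fun c _ => h2 c, h2 _ (D.g_T hT), y, hy, ε, fun m hm => ?_, (D.g_E (mem_inf.mp hε).2).symm, h3, h4⟩
  exact D.commU (HypK.ZU (mem_inf.mp hε).1) (D.Uk_le hm)

end SpK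

end Cfsg.Agent.Omega.NOThreeL.RTools.Many
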