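import Cfsg.Agent.Omega.NOThreeL.RTools.Many.Mk
import Cfsg.Agent.Omega.FFMutual

/-!
# NO-3L, box R ∩ (A), `q = 2`, all `k`: the system `Sys` from the frame

* `HypK.exists_sys` : `Sys`, the action of the `n i` and the transvections; `HypK.syl`.
-/

set_option autoImplicit false
set_option linter.unusedSectionVars false
set_option linter.unusedVariables false

namespace Cfsg.Agent.Omega.NOThreeL.RTools.Many

open Subgroup Cfsg Cfsg.Agent.Omega.MinPar Cfsg.Agent.Omega.NOThreeL.RTools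
open Cfsg.Agent.ZN (zc zl o2)
open Cfsg.Agent.Omega.Frame Cfsg.Agent.Omega.FrameNOFF
open Cfsg.Agent.Omega.Node.NO3L Cfsg.Agent.Omega.NOThreeL.Basic
open Cfsg.Agent.Omega.NoFF.Basic (conj_conj mem_conj conj_le_iff conj_le_centralizer comm_symm comm_mono)
open Cfsg.Agent.Omega.NOThreeL.Pair (conj_eq_of_mem conj_le_normalizer zl_abel)
open Cfsg.Agent.MinSimple.VModule (zl_le zc_le_zl le_normalizer_zl zc_le o2_isPGroup le_normalizer_o2 le_o2
  normalizer_le_normalizer_zc)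
open Cfsg.Agent.Omega.NOThreeL (mem_normalizer_of_conj_eq le_normalizer_of mem_sup_of_comm)
open scoped Pointwise

universe u

variable {G : Type u} [Group G]

/-- the radical of the form -/
def radS {U : Subgroup G} {PP : Set G} {B : G → G → ℤˣ} (F : Form0 U PP B) : Subgroup G where
  carrier := {x | x ∈ U ∧ ∀ y ∈ U, B x y = 1}
  mul_mem' := by
    rintro x y ⟨hx, h1⟩ ⟨hy, h2⟩
    exact ⟨U.mul_mem hx hy, fun m hm => by rw [F.mul_left hx hy hm, h1 m hm, h2 m hm, one_mul]⟩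
  one_mem' := ⟨U.one_mem, fun m hm => F.one_left hm⟩
  inv_mem' := by
    rintro x ⟨hx, h1⟩
    exact ⟨U.inv_mem hx, fun m hm => by rw [F.inv hx]; exact h1 m hm⟩

theorem mem_radS {U : Subgroup G} {PP : Set G} {B : G → G → ℤˣ} (F : Form0 U PP B) {x : G} :
    x ∈ radS F ↔ x ∈ U ∧ ∀ y ∈ U, B x y = 1 := Iff.rfl

namespace HypK

variable [Finite G] {S : Sylow 2 G} {P H : Subgroup G} {k : ℕ} {z n : Fin k → G} {e w : G}
variable (D : HypK S P H z n e w)
include D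

/-- `H` normalises the radical -/
theorem H_norm_rad {B : G → G → ℤˣ} (F : Form0 (Uk H z) (PPk H z) B)
    (hi : ∀ h ∈ H, ∀ u ∈ Uk H z, ∀ v ∈ Uk H z, B (h * u * h⁻¹) (h * v * h⁻¹) = B u v) :
    H ≤ normalizer (radS F : Set G) := by
  refine le_normalizer_of fun h hh x hx => ?_
  obtain ⟨hx1, hx2⟩ := (mem_radS F).1 hx
  refine (mem_radS F).2 ⟨D.nU hh hx1, fun y hy => ?_⟩
  have hy' := D.nU' hh hy
  have e1 : h * (h⁻¹ * y * h) * h⁻¹ = y := by group
  rw [← e1, hi h hh x hx1 _ hy']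
  exact hx2 _ hy'

/-- **(0)(d)** for the form -/
theorem core {B : G → G → ℤˣ} (F : Form0 (Uk H z) (PPk H z) B)
    (hi : ∀ h ∈ H, ∀ u ∈ Uk H z, ∀ v ∈ Uk H z, B (h * u * h⁻¹) (h * v * h⁻¹) = B u v) {h : G} (hh : h ∈ H)
    (h1 : ∀ m ∈ Uk H z, ∀ y ∈ Uk H z, B (h * m * h⁻¹ * m⁻¹) y = 1)
    (h2 : ∀ m ∈ Uk H z, (∀ y ∈ Uk H z, B m y = 1) → h * m * h⁻¹ = m) : ∀ m ∈ Uk H z, h * m * h⁻¹ = m := by
  intro m hm
  have h3 := D.triv (I := radS F) (fun x hx => ((mem_radS F).1 hx).1) (D.H_norm_rad F hi) hh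
    (fun x hx => (mem_radS F).2 ⟨D.cm_mem hh (D.Uk_le hx), fun y hy => h1 x hx y hy⟩)
    (fun x hx => by
      have h4 := (mem_radS F).1 hx
      rw [cm_def, h2 x h4.1 h4.2, mul_inv_cancel]) m hm
  rwa [cm_def, mul_inv_eq_one] at h3

/-- `N` fixes the components -/
theorem comp_N {B : G → G → ℤˣ} (F : Form0 (Uk H z) (PPk H z) B)
    (hi : ∀ h ∈ H, ∀ u ∈ Uk H z, ∀ v ∈ Uk H z, B (h * u * h⁻¹) (h * v * h⁻¹) = B u v)
    (htv : ∀ i, ∀ h ∈ H, Tv (Uk H z) B (h * z i * h⁻¹) (h * n i * h⁻¹)) {m : G}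
    (hm : m ∈ NN (S : Subgroup G) P H) {p : G} (hp : p ∈ PPk H z) : m * p * m⁻¹ ∈ Comp (PPk H z) B p := by
  have hPH : ∀ h ∈ H, ∀ p ∈ PPk H z, h * p * h⁻¹ ∈ PPk H z := fun h hh p hp => PPk_conj hh hp
  let M₁ : Subgroup G :=
    { carrier := {x | x ∈ H ∧ ∀ p ∈ PPk H z, x * p * x⁻¹ ∈ Comp (PPk H z) B p}
      mul_mem' := by
        rintro x y ⟨hx, h1⟩ ⟨hy, h2⟩
        refine ⟨H.mul_mem hx hy, fun p hp => ?_⟩
        have e1 : x * y * p * (x * y)⁻¹ = x * (y * p * y⁻¹) * x⁻¹ := by group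
        rw [e1]
        exact Form0.comp_trans (h2 p hp) (h1 _ (hPH y hy p hp))
      one_mem' := ⟨H.one_mem, fun p _ => by rw [one_mul, inv_one, mul_one]; exact Form0.comp_self p⟩
      inv_mem' := by
        rintro x ⟨hx, h1⟩
        refine ⟨H.inv_mem hx, fun p hp => ?_⟩
        have h2 := h1 _ (hPH _ (H.inv_mem hx) p hp)
        have e1 : x * (x⁻¹ * p * x⁻¹⁻¹) * x⁻¹ = p := by group
        rw [e1] at h2
        exact F.comp_symm h2 }
  -- elements of `U_H` and transvections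
  have hUM : ∀ x ∈ zl (S : Subgroup G) H, x ∈ M₁ := by
    intro x hx
    refine ⟨D.SH (D.US hx), fun p hp => ?_⟩
    rw [D.commU hx (D.Uk_le (PPk_sub hp)), mul_inv_cancel_right]
    exact Form0.comp_self p
  have hTM : ∀ i, ∀ h ∈ H, h * n i * h⁻¹ ∈ M₁ := by
    intro i h hh
    refine ⟨H.mul_mem (H.mul_mem hh (D.nH i)) (H.inv_mem hh), fun p hp => ?_⟩
    have h1 := htv i h hh p (PPk_sub hp)
    have hqP : h * z i * h⁻¹ ∈ PPk H z := ⟨i, h, hh, rfl⟩
    rcases Int.units_eq_one_or (B (h * z i * h⁻¹) p) with h2 | h2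
    · rw [h1.1 h2]; exact Form0.comp_self p
    · rw [h1.2 h2]
      have h3 : B p (h * z i * h⁻¹) = -1 := by rw [F.symm _ (PPk_sub hp) _ (PPk_sub hqP)]; exact h2
      refine Form0.comp_adj hp (Form0.comp_self p) (F.tr p hp _ hqP h3) ?_
      rw [F.mul _ (PPk_sub hp) _ (PPk_sub hp) _ (PPk_sub hqP), F.self _ (PPk_sub hp), h3, one_mul]
  have hle : NN (S : Subgroup G) P H ≤ M₁ := by
    refine NN_le fun h hh v' hv' => ?_
    rw [mem_conj] at hv'
    obtain ⟨x, hx, ε, hε, h1⟩ := D.cov _ hv'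
    have e1 : v' = (h * x * h⁻¹) * (h * ε * h⁻¹) := by
      have e2 : v' = h * (h⁻¹ * v' * h) * h⁻¹ := by group
      rw [e2, h1]; group
    have h2 : h * x * h⁻¹ ∈ M₁ := by
      refine closure_induction (p := fun x _ => h * x * h⁻¹ ∈ M₁) ?_ ?_ ?_ ?_ hx
      · rintro _ (⟨i, rfl⟩ | ⟨i, rfl⟩)
        · exact hUM _ (conj_mem_of_mem (le_normalizer_zl _ _ hh) (D.zU i))
        · exact hTM i h hh
      · rw [mul_one, mul_inv_cancel]; exact one_mem _
      · intro a b _ _ ha hb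
        have e3 : h * (a * b) * h⁻¹ = (h * a * h⁻¹) * (h * b * h⁻¹) := by group
        rw [e3]; exact mul_mem ha hb
      · intro a _ ha
        have e3 : h * a⁻¹ * h⁻¹ = (h * a * h⁻¹)⁻¹ := by group
        rw [e3]; exact inv_mem ha
    rw [e1]
    exact mul_mem h2 (hUM _ (conj_mem_of_mem (le_normalizer_zl _ _ hh) (ZU (mem_inf.1 hε).1)))
  exact (hle hm).2 p hp

/-- some element of `U_1` is moved by the transvection at `h z_i h⁻¹` -/
theorem exists_moved {B : G → G → ℤˣ} (F : Form0 (Uk H z) (PPk H z) B)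
    (hi : ∀ h ∈ H, ∀ u ∈ Uk H z, ∀ v ∈ Uk H z, B (h * u * h⁻¹) (h * v * h⁻¹) = B u v)
    (hc : ∀ i, ∀ v ∈ Uk H z, B (z i) v = 1 ↔ v * n i = n i * v) {h : G} (hh : h ∈ H) (i : Fin k) :
    ∃ m ∈ Uk H z, B (h * z i * h⁻¹) m = -1 := by
  obtain ⟨f, hf, h1⟩ := D.exists_f i
  refine ⟨h * f * h⁻¹, D.nU hh hf, ?_⟩
  rw [hi h hh _ (D.zU1 i) _ hf]
  by_contra h2
  have h3 := (hc i f hf).1 (ne_neg h2)
  rw [h3, mul_inv_cancel_right] at h1
  exact D.z1 i (mul_eq_right.1 h1.symm)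

/-- `PP ∩ p Rad = {p}` -/
theorem ppr {B : G → G → ℤˣ} (F : Form0 (Uk H z) (PPk H z) B)
    (hi : ∀ h ∈ H, ∀ u ∈ Uk H z, ∀ v ∈ Uk H z, B (h * u * h⁻¹) (h * v * h⁻¹) = B u v)
    (hc : ∀ i, ∀ v ∈ Uk H z, B (z i) v = 1 ↔ v * n i = n i * v)
    (htv : ∀ i, ∀ h ∈ H, Tv (Uk H z) B (h * z i * h⁻¹) (h * n i * h⁻¹)) {p q : G} (hp : p ∈ PPk H z)
    (hq : q ∈ PPk H z) (hr : ∀ y ∈ Uk H z, B (p * q) y = 1) : p = q := by
  have hpU := PPk_sub hp
  have hqU := PPk_sub hq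
  obtain ⟨i, h, hh, hpe⟩ := hp
  obtain ⟨j, h', hh', hqe⟩ := hq
  have ht := htv i h hh
  have ht' := htv j h' hh'
  rw [← hpe] at ht
  rw [← hqe] at ht'
  set t := h * n i * h⁻¹ with htdef
  set t' := h' * n j * h'⁻¹ with htdef'
  have htH : t ∈ H := H.mul_mem (H.mul_mem hh (D.nH i)) (H.inv_mem hh)
  have htH' : t' ∈ H := H.mul_mem (H.mul_mem hh' (D.nH j)) (H.inv_mem hh')
  have hpq := (Uk H z).mul_mem hpU hqU
  have hBpq : ∀ m ∈ Uk H z, B p m = B q m := by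
    intro m hm
    have h1 := hr m hm
    rw [F.mul_left hpU hqU hm] at h1
    rcases Int.units_eq_one_or (B p m) with h2 | h2 <;> rcases Int.units_eq_one_or (B q m) with h3 | h3 <;>
      rw [h2, h3] at h1 ⊢ <;> first | rfl | exact absurd h1 (by decide)
  have hact : ∀ m ∈ Uk H z, (B p m = 1 → (t * t') * m * (t * t')⁻¹ = m) ∧
      (B p m = -1 → (t * t') * m * (t * t')⁻¹ = m * (p * q)) := by
    intro m hm
    have e1 : (t * t') * m * (t * t')⁻¹ = t * (t' * m * t'⁻¹) * t⁻¹ := by group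
    rw [e1]
    refine ⟨fun h1 => ?_, fun h1 => ?_⟩
    · rw [(ht' m hm).1 (by rw [← hBpq m hm]; exact h1), (ht m hm).1 h1]
    · rw [(ht' m hm).2 (by rw [← hBpq m hm]; exact h1)]
      have h2 : B p q = 1 := by rw [hBpq q hqU, F.self q hqU]
      have e2 : t * (m * q) * t⁻¹ = (t * m * t⁻¹) * (t * q * t⁻¹) := by group
      rw [e2, (ht m hm).2 h1, (ht q hqU).1 h2, mul_assoc]
  have h1 := D.core F hi (H.mul_mem htH htH') (fun m hm y hy => by
    rcases Int.units_eq_one_or (B p m) with h2 | h2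
    · rw [(hact m hm).1 h2, mul_inv_cancel, F.one_left hy]
    · rw [(hact m hm).2 h2, D.Uk_comm hm hpq, mul_inv_cancel_right]
      exact hr y hy) (fun m hm hm' => (hact m hm).1 (by rw [F.symm p hpU m hm]; exact hm' p hpU))
  obtain ⟨m, hm, hBm⟩ := D.exists_moved F hi hc hh i
  rw [← hpe] at hBm
  have h2 := h1 m hm
  rw [(hact m hm).2 hBm] at h2
  have h3 : p * q = 1 := mul_eq_left.1 h2
  calc p = p * (q * q) := by rw [D.Uk_sq hqU, mul_one]
    _ = p * q * q := by group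
    _ = q := by rw [h3, one_mul]

/-- **the symplectic system** -/
theorem exists_sys (hY : D.NY) : ∃ (B : G → G → ℤˣ) (ω : Fin k → G), Sys H (Uk H z) (PPk H z) B z ω ∧
    (∀ u ∈ Uk H z, ∀ i, B (z i) u = 1 ↔ n i * u = u * n i) ∧
    (∀ q ∈ PPk H z, ∃ t ∈ H, t * t = 1 ∧
      ∀ m ∈ Uk H z, (B q m = 1 → t * m * t⁻¹ = m) ∧ (B q m = -1 → t * m * t⁻¹ = m * q)) := by
  obtain ⟨B, F, hi, hc, htv⟩ := D.exists_form hY
  have hzP : ∀ i, z i ∈ PPk H z := fun i => ⟨i, 1, H.one_mem, by group⟩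
  have hω : ∀ i, ∃ q ∈ PPk H z, B q (z i) = -1 := by
    intro i
    by_contra hcon
    push Not at hcon
    obtain ⟨m, hm, hBm⟩ := D.exists_moved F hi hc H.one_mem i
    rw [one_mul, inv_one, mul_one] at hBm
    have h1 := F.rad_of_pts (D.zU1 i) (fun p hp => by
      rw [F.symm _ (D.zU1 i) _ (PPk_sub hp)]; exact ne_neg (hcon p hp)) m hm
    rw [h1] at hBm
    exact absurd hBm (by decide)
  choose ω hω1 hω2 using hω
  refine ⟨B, ω, ?_, fun u hu i => (hc i u hu).trans eq_comm, ?_⟩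
  · exact
      { toForm0 := F
        nU := fun h hh u hu => D.nU hh hu
        nP := fun h hh p hp => PPk_conj hh hp
        isom := hi
        ppr := fun p hp q hq hr => D.ppr F hi hc htv hp hq hr
        zP := hzP
        zi := fun i j hij => D.disj i j (z i) (Or.inl rfl) (by rw [hij]; exact Or.inl rfl)
        wP := hω1
        wz := hω2
        hash := D.hash F hi htv
        fac := by
          intro h hh
          obtain ⟨m, hm, c, hcC, rfl⟩ := D.exists_nc hh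
          refine ⟨m, D.NN_le_H hm, c, D.CH hcC, rfl, fun p hp => D.comp_N F hi htv hm hp, ?_⟩
          have h1 : LP z = e := D.eprod.symm
          rw [h1]
          exact mul_inv_eq_iff_eq_mul.1 (C_cent D.eZ hcC)
        tz := by
          rintro _ ⟨i, h, hh, rfl⟩
          exact ⟨h, hh, i, rfl⟩ }
  · rintro _ ⟨i, h, hh, rfl⟩
    refine ⟨h * n i * h⁻¹, H.mul_mem (H.mul_mem hh (D.nH i)) (H.inv_mem hh), ?_, htv i h hh⟩
    calc h * n i * h⁻¹ * (h * n i * h⁻¹) = h * (n i * n i) * h⁻¹ := by group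
      _ = 1 := by rw [D.n_sq]; group

/-- Sylow's theorem in `K = C_H(e)` -/
theorem syl {t : G} (ht : t ∈ H) (hte : t * LP z = LP z * t) (htt : t * t = 1) :
    ∃ h ∈ H, h * LP z = LP z * h ∧ h * t * h⁻¹ ∈ (S : Subgroup G) := by
  have he : LP z = e := D.eprod.symm
  rw [he] at hte ⊢
  have hSK : (S : Subgroup G) ≤ H ⊓ centralizer ({e} : Set G) :=
    le_inf D.SH (fun s hs => mem_centralizer_singleton_iff.2 (zcomm D.eZ hs))
  have hp : IsPGroup 2 (zpowers t) := by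
    by_cases h : t = 1
    · refine IsPGroup.of_card (n := 0) ?_
      rw [Nat.card_zpowers, h, orderOf_one, pow_zero]
    · refine IsPGroup.of_card (n := 1) ?_
      rw [Nat.card_zpowers, pow_one]
      exact orderOf_eq_prime (by rw [pow_two]; exact htt) h
  obtain ⟨m, hm, hle⟩ := Cfsg.Agent.Omega.FFThm.exists_conj_le S hSK hp
    (zpowers_le.2 (mem_inf.2 ⟨ht, mem_centralizer_singleton_iff.2 hte⟩))
  refine ⟨m, (mem_inf.1 hm).1, mem_centralizer_singleton_iff.1 (mem_inf.1 hm).2, hle ?_⟩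
  exact ⟨t, mem_zpowers t, rfl⟩

end HypK

end Cfsg.Agent.Omega.NOThreeL.RTools.Many
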