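import Cfsg.Agent.Omega.NOThreeL.RTools.Many.Sys

/-!
# NO-3L, box R ∩ (A), `q = 2`, all `k`, symplectic case: the end ((8')-(10') of #18224)

`End H U PP B z w g S T W` : `U = U_1`, `W` here is `W ∩ U_1`, `g` maps `z_i` to `a_i`, `T = U_1 ∩ U_1^g`;
`End.false` : contradiction.
-/

set_option autoImplicit false

namespace Cfsg.Agent.Omega.NOThreeL.RTools.Many

open Subgroup Cfsg.Agent.Omega.NOThreeL.RTools.Symp

variable {G : Type*} [Group G]

/-- the data of the end -/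
structure End (H U : Subgroup G) (PP : Set G) (B : G → G → ℤˣ) {k : ℕ} (z w : Fin k → G) (g : G)
    (S T W : Subgroup G) : Prop extends Sys H U PP B z w where
  UH : U ≤ H
  /-- the transvections are induced by involutions of `H` -/
  tv : ∀ q ∈ PP, ∃ t ∈ H, t * t = 1 ∧
    ∀ m ∈ U, (B q m = 1 → t * m * t⁻¹ = m) ∧ (B q m = -1 → t * m * t⁻¹ = m * q)
  /-- (0)(d) -/
  core : ∀ h ∈ H, (∀ m ∈ U, ∀ n ∈ U, B (h * m * h⁻¹ * m⁻¹) n = 1) →
    (∀ m ∈ U, (∀ n ∈ U, B m n = 1) → h * m * h⁻¹ = m) → ∀ m ∈ U, h * m * h⁻¹ = m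
  WU : W ≤ U
  WY : ∀ x ∈ W, ∀ i, B (z i) x = 1
  WK : ∀ h ∈ H, h * LP z = LP z * h → ∀ x ∈ W, h * x * h⁻¹ ∈ W
  Wne : ∃ h ∈ H, h * LP z * h⁻¹ ∈ W ∧ h * LP z * h⁻¹ ≠ LP z
  /-- (5) -/
  WW : ∀ x ∈ W, ∀ y ∈ W, x * (g * y * g⁻¹) = (g * y * g⁻¹) * x
  gH : ∀ x ∈ W, g * x * g⁻¹ ∈ H
  gz : ∀ x ∈ W, ∀ i, z i * (g * x * g⁻¹) = (g * x * g⁻¹) * z i
  gI : ∀ x ∈ W, ∀ r ∈ U, (∀ n ∈ U, B r n = 1) → r * (g * x * g⁻¹) = (g * x * g⁻¹) * r
  gzH : ∀ i, g * z i * g⁻¹ ∈ H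
  /-- `a_i = g z_i g⁻¹` acts as the transvection at `z_i` -/
  av : ∀ i, ∀ m ∈ U, (B (z i) m = 1 → (g * z i * g⁻¹) * m * (g * z i * g⁻¹)⁻¹ = m) ∧
    (B (z i) m = -1 → (g * z i * g⁻¹) * m * (g * z i * g⁻¹)⁻¹ = m * z i)
  TU : ∀ t ∈ T, t ∈ U ∧ ∀ i, B (z i) t = 1
  /-- `C_{U_1^g}(U_1) ≤ T` -/
  coreT : ∀ x ∈ U, (∀ m ∈ U, (g * x * g⁻¹) * m * (g * x * g⁻¹)⁻¹ = m) → x ∈ T
  gT : ∀ t ∈ T, g * t * g⁻¹ = t
  zT : ∀ i, z i ∉ T
  SK : ∀ x ∈ S, x ∈ H ∧ x * LP z = LP z * x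
  ST : ∀ x ∈ S, ∀ t ∈ T, x * t * x⁻¹ ∈ T
  Str : ∀ i j, ∃ x ∈ S, x * z i * x⁻¹ = z j
  /-- `S` is Sylow in `K = C_H(e)` -/
  syl : ∀ t ∈ H, t * LP z = LP z * t → t * t = 1 → ∃ h ∈ H, h * LP z = LP z * h ∧ h * t * h⁻¹ ∈ S
  /-- (9'): `R = U_{C_G(p)}`, `y ε ∈ Z^h` -/
  frame : ∀ h ∈ H, h * LP z * h⁻¹ ∈ T → ∃ R : Subgroup G, (∀ a ∈ R, ∀ b ∈ R, a * b = b * a) ∧
    (∀ c ∈ H, c * (h * LP z * h⁻¹) = (h * LP z * h⁻¹) * c → ∀ r ∈ R, c * r * c⁻¹ ∈ R) ∧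
    (∀ r ∈ R, g * r * g⁻¹ ∈ R) ∧
    ∃ y ∈ U, ∃ ε : G, (∀ m ∈ U, ε * m = m * ε) ∧ ε * g = g * ε ∧ y * ε ∈ R ∧ y ∉ T

namespace End

variable {H U : Subgroup G} {PP : Set G} {B : G → G → ℤˣ} {k : ℕ} {z w : Fin k → G} {g : G} {S T W : Subgroup G}
  (s : End H U PP B z w g S T W)
include s

theorem z_ne_one (i : Fin k) : z i ≠ 1 := by
  intro h
  have h1 := s.wz i
  rw [h, s.toForm0.one_right (s.wU i)] at h1
  exact neg_ne h1.symm

theorem Y_U {P : G → Prop} (hp : ∀ p ∈ PP, (∀ i, B (z i) p = 1) → P p) (h1 : P 1)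
    (hm : ∀ x ∈ U, ∀ y ∈ U, P x → P y → P (x * y)) {u : G} (hu : u ∈ U) (h : ∀ i, B (z i) u = 1) : P u := by
  have h2 : ∀ x ∈ closure {p | p ∈ PP ∧ ∀ i, B (z i) p = 1}, x ∈ U ∧ P x := by
    intro x hx
    refine closure_induction (p := fun x _ => x ∈ U ∧ P x) ?_ ?_ ?_ ?_ hx
    · exact fun x hx => ⟨s.sub x hx.1, hp x hx.1 hx.2⟩
    · exact ⟨U.one_mem, h1⟩
    · rintro x y _ _ ⟨hx, h3⟩ ⟨hy, h4⟩
      exact ⟨U.mul_mem hx hy, hm x hx y hy h3 h4⟩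
    · rintro x _ ⟨hx, h3⟩
      rw [s.toForm0.inv hx]
      exact ⟨hx, h3⟩
  exact (h2 u (s.Y_le hu h)).2

/-- the transvections at points of `Y1` lie in `K` -/
theorem tv_K {q t : G} (hq : q ∈ PP) (hqY : ∀ i, B (z i) q = 1)
    (ht : ∀ m ∈ U, (B q m = 1 → t * m * t⁻¹ = m) ∧ (B q m = -1 → t * m * t⁻¹ = m * q)) :
    t * LP z = LP z * t := by
  obtain ⟨i, hi⟩ := s.occ hq
  have h1 : B q (LP z) = 1 := by
    rw [s.B_e hi, s.symm q (s.sub q hq) _ (s.zU i)]; exact hqY i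
  exact mul_inv_eq_iff_eq_mul.1 ((ht _ s.eU).1 h1)

/-- absorption -/
theorem habs : ∀ p ∈ PP, (∀ i, B (z i) p = 1) → (∃ x ∈ W, B p x = -1) → p ∈ W := by
  rintro p hp hpY ⟨x, hx, hpx⟩
  obtain ⟨t, htH, _, ht⟩ := s.tv p hp
  have h1 := s.WK t htH (s.tv_K hp hpY ht) x hx
  rw [(ht x (s.WU hx)).2 hpx] at h1
  have h2 := W.mul_mem (W.inv_mem hx) h1
  rwa [inv_mul_cancel_left] at h2

/-- a point of `Y1` not perpendicular to `W` -/
theorem exists_pt : ∃ p ∈ PP, (∀ i, B (z i) p = 1) ∧ ∃ x ∈ W, B p x = -1 := by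
  obtain ⟨h, hh, h1, h2⟩ := s.Wne
  exact s.six s.WU hh h1 h2

/-- **(7)** -/
theorem seven' {i : Fin k} {p : G} (hp : p ∈ Comp PP B (z i)) (hp1 : B (z i) p = 1) (hne : p ≠ z i) : p ∈ W := by
  obtain ⟨x, hx, hxY, y, hy, hxy⟩ := s.exists_pt
  obtain ⟨j, hj⟩ := s.occ hx
  obtain ⟨c, hc, hcz⟩ := s.Str j i
  obtain ⟨hcH, hce⟩ := s.SK c hc
  have h1 : c * x * c⁻¹ ∈ Comp PP B (z i) := by
    have := s.conj_comp hcH hj
    rwa [hcz] at this
  have h2 : B (z i) (c * x * c⁻¹) = 1 := by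
    rw [← hcz, s.isom c hcH _ (s.zU j) _ (s.sub x hx)]
    exact hxY j
  refine (s.seven s.WU s.WY s.habs h1 h2 ⟨c * y * c⁻¹, s.WK c hcH hce y hy, ?_⟩ hp hp1 hne).1
  rw [s.isom c hcH _ (s.sub x hx) _ (s.WU hy)]
  exact hxy

theorem a_Y {i : Fin k} {m : G} (hm : m ∈ U) (h : B (z i) m = 1) :
    (g * z i * g⁻¹) * m * (g * z i * g⁻¹)⁻¹ = m := (s.av i m hm).1 h

/-- `c ∈ H` centralising `Y1`: `[w_i, c]` is in `Rad` or `z_i Rad` -/
theorem comm_w {c : G} (hc : c ∈ H) (hcY : ∀ m ∈ U, (∀ i, B (z i) m = 1) → c * m * c⁻¹ = m) (i : Fin k) :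
    (∀ y ∈ U, B (c * w i * c⁻¹ * (w i)⁻¹) y = 1) ∨ ∀ y ∈ U, B (c * w i * c⁻¹ * (w i)⁻¹ * z i) y = 1 := by
  have F := s.toForm0.comp (s.zP i)
  have hzc : c * z i * c⁻¹ = z i := hcY _ (s.zU i) fun j => s.zz j i
  have h1 : c * w i * c⁻¹ ∈ Comp PP B (z i) := by
    have := s.conj_comp hc (s.w_comp i)
    rwa [hzc] at this
  have hwcU := s.sub _ (Form0.comp_sub (s.zP i) h1)
  have hsU : c * w i * c⁻¹ * (w i)⁻¹ ∈ U := U.mul_mem hwcU (U.inv_mem (s.wU i))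
  have hsC : c * w i * c⁻¹ * (w i)⁻¹ ∈ closure (Comp PP B (z i)) :=
    mul_mem (subset_closure h1) (inv_mem (subset_closure (s.w_comp i)))
  have h2 : ∀ q ∈ Comp PP B (z i), B (z i) q = 1 → B (c * w i * c⁻¹ * (w i)⁻¹) q = 1 := by
    intro q hq hq1
    have hqP := Form0.comp_sub (s.zP i) hq
    have hqU := s.sub q hqP
    have h3 := s.isom c hc _ (s.wU i) q hqU
    rw [hcY q hqU (s.pt_Y hqP hq hq1)] at h3
    rw [s.toForm0.inv (s.wU i), s.toForm0.mul_left hwcU (s.wU i) hqU, h3, units_mul_self]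
  -- extend from the component to `U`
  have ext : ∀ x ∈ closure (Comp PP B (z i)), (∀ y ∈ closure (Comp PP B (z i)), B x y = 1) → ∀ y ∈ U, B x y = 1 := by
    intro x hx hxy
    have hxU := s.toForm0.span_le (s.zP i) hx
    refine s.toForm0.rad_of_pts hxU fun p hp => ?_
    by_cases h4 : p ∈ Comp PP B (z i)
    · exact hxy p (subset_closure h4)
    · have h5 := (s.toForm0.eq_one_of_closure (A := Comp PP B (z i)) (u := p)
        (fun a ha => s.sub a (Form0.comp_sub (s.zP i) ha)) (s.sub p hp) (fun a ha => by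
          rw [s.symm p (s.sub p hp) a (s.sub a (Form0.comp_sub (s.zP i) ha))]
          exact s.toForm0.perp (s.zP i) ha hp h4) hx).2
      rw [s.symm x hxU p (s.sub p hp)]
      exact h5
  rcases F.rad_or' (Form0.comp_self _) hsC h2 with h3 | h3
  · exact Or.inl (ext _ hsC h3)
  · exact Or.inr (ext _ (mul_mem hsC (subset_closure (Form0.comp_self _))) h3)

/-- **(8')** general form: `x ∈ U`, `g x g⁻¹ ∈ H` centralises `Y1` -/
theorem eight_aux : ∀ n : ℕ, ∀ x ∈ U, g * x * g⁻¹ ∈ H →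
    (∀ m ∈ U, (∀ i, B (z i) m = 1) → (g * x * g⁻¹) * m * (g * x * g⁻¹)⁻¹ = m) →
    Nat.card {i : Fin k // ¬ ∀ y ∈ U, B ((g * x * g⁻¹) * w i * (g * x * g⁻¹)⁻¹ * (w i)⁻¹) y = 1} = n →
    x ∈ closure (Set.range z ∪ (T : Set G)) := by
  classical
  intro n
  induction n with
  | zero =>
    intro x hx hcH hcY h0
    have h1 : ∀ i, ∀ y ∈ U, B ((g * x * g⁻¹) * w i * (g * x * g⁻¹)⁻¹ * (w i)⁻¹) y = 1 := by
      intro i
      by_contra h
      have : IsEmpty {i : Fin k // ¬ ∀ y ∈ U, B ((g * x * g⁻¹) * w i * (g * x * g⁻¹)⁻¹ * (w i)⁻¹) y = 1} :=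
        Finite.card_eq_zero_iff.1 h0
      exact this.false ⟨i, h⟩
    set c := g * x * g⁻¹ with hc
    have h2 : ∀ m ∈ U, ∀ n ∈ U, B (c * m * c⁻¹ * m⁻¹) n = 1 := by
      intro m hm
      refine s.ind (P := fun m => ∀ n ∈ U, B (c * m * c⁻¹ * m⁻¹) n = 1) ?_ ?_ hm
      · intro u hu hY n hn
        rw [hcY u hu hY, mul_inv_cancel]
        exact s.toForm0.one_left hn
      · intro u hu j h3 n hn
        have hw := s.wU j
        have huw := U.mul_mem hu hw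
        have e1 : c * u * c⁻¹ * u⁻¹ = (c * (u * w j) * c⁻¹ * (u * w j)⁻¹) * (c * w j * c⁻¹ * (w j)⁻¹) := by
          have hcu := s.nU c hcH _ hu
          have hcw := s.nU c hcH _ hw
          rw [s.toForm0.inv hu, s.toForm0.inv hw, s.toForm0.inv huw]
          have e2 : c * (u * w j) * c⁻¹ = (c * u * c⁻¹) * (c * w j * c⁻¹) := by group
          rw [e2]
          have e3 := s.comm _ huw _ hcw
          have e4 := s.comm _ (U.mul_mem hcw hu) _ hw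
          calc c * u * c⁻¹ * u = (c * u * c⁻¹) * u * 1 * 1 := by group
            _ = (c * u * c⁻¹) * u * (w j * w j) * ((c * w j * c⁻¹) * (c * w j * c⁻¹)) := by
                rw [s.sq _ hw, s.sq _ hcw]
            _ = (c * u * c⁻¹) * (u * w j) * (w j * (c * w j * c⁻¹)) * (c * w j * c⁻¹) := by group
            _ = (c * u * c⁻¹) * (u * w j) * ((c * w j * c⁻¹) * w j) * (c * w j * c⁻¹) := by
                rw [s.comm _ hw _ hcw]
            _ = (c * u * c⁻¹) * ((u * w j) * (c * w j * c⁻¹)) * (w j * (c * w j * c⁻¹)) := by group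
            _ = (c * u * c⁻¹) * ((c * w j * c⁻¹) * (u * w j)) * ((c * w j * c⁻¹) * w j) := by
                rw [e3, s.comm _ hw _ hcw]
            _ = _ := by group
        have hA : c * (u * w j) * c⁻¹ * (u * w j)⁻¹ ∈ U := U.mul_mem (s.nU c hcH _ huw) (U.inv_mem huw)
        have hB' : c * w j * c⁻¹ * (w j)⁻¹ ∈ U := U.mul_mem (s.nU c hcH _ hw) (U.inv_mem hw)
        rw [e1, s.toForm0.mul_left hA hB' hn, h3 n hn, h1 j n hn, one_mul]
    have h3 := s.core c hcH h2 fun m hm hm' => hcY m hm fun i => by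
      rw [s.symm _ (s.zU i) m hm]; exact hm' _ (s.zU i)
    exact subset_closure (Or.inr (s.coreT x hx h3))
  | succ n ih =>
    intro x hx hcH hcY h0
    obtain ⟨⟨i, hi⟩⟩ : Nonempty {i : Fin k // ¬ ∀ y ∈ U,
        B ((g * x * g⁻¹) * w i * (g * x * g⁻¹)⁻¹ * (w i)⁻¹) y = 1} := by
      by_contra h
      rw [not_nonempty_iff] at h
      rw [Nat.card_of_isEmpty] at h0
      omega
    have hi2 := (s.comm_w hcH hcY i).resolve_left hi
    have ec : g * (x * z i) * g⁻¹ = (g * x * g⁻¹) * (g * z i * g⁻¹) := by group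
    have hc'H : g * (x * z i) * g⁻¹ ∈ H := by rw [ec]; exact H.mul_mem hcH (s.gzH i)
    have hconj : ∀ m, (g * (x * z i) * g⁻¹) * m * (g * (x * z i) * g⁻¹)⁻¹ =
        (g * x * g⁻¹) * ((g * z i * g⁻¹) * m * (g * z i * g⁻¹)⁻¹) * (g * x * g⁻¹)⁻¹ := fun m => by
      rw [ec]; group
    have hzY : (g * x * g⁻¹) * z i * (g * x * g⁻¹)⁻¹ = z i := hcY _ (s.zU i) fun j => s.zz j i
    have h1 : x * z i ∈ closure (Set.range z ∪ (T : Set G)) := by
      refine ih (x * z i) (U.mul_mem hx (s.zU i)) hc'H (fun m hm hm' => ?_) ?_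
      · rw [hconj, s.a_Y hm (hm' i)]
        exact hcY m hm hm'
      · -- the bad set loses `i`
        have hbad : ∀ j, (∀ y ∈ U, B ((g * (x * z i) * g⁻¹) * w j * (g * (x * z i) * g⁻¹)⁻¹ * (w j)⁻¹) y = 1) ↔
            (j = i ∨ ∀ y ∈ U, B ((g * x * g⁻¹) * w j * (g * x * g⁻¹)⁻¹ * (w j)⁻¹) y = 1) := by
          intro j
          rw [hconj]
          by_cases hji : j = i
          · subst hji
            refine iff_of_true ?_ (Or.inl rfl)
            rw [(s.av j _ (s.wU j)).2 (s.z_w_self j)]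
            have e1 : (g * x * g⁻¹) * (w j * z j) * (g * x * g⁻¹)⁻¹ * (w j)⁻¹ =
                (g * x * g⁻¹) * w j * (g * x * g⁻¹)⁻¹ * (w j)⁻¹ * z j := by
              have e2 : (g * x * g⁻¹) * (w j * z j) * (g * x * g⁻¹)⁻¹ =
                  ((g * x * g⁻¹) * w j * (g * x * g⁻¹)⁻¹) * ((g * x * g⁻¹) * z j * (g * x * g⁻¹)⁻¹) := by group
              rw [e2, hzY, mul_assoc _ (z j), s.comm _ (s.zU j) _ (U.inv_mem (s.wU j)), ← mul_assoc]
            rw [e1]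
            exact hi2
          · rw [s.a_Y (s.wU j) (s.z_w (fun h => hji h.symm))]
            simp [hji]
        have e3 : Nat.card {j : Fin k // ¬ ∀ y ∈ U, B ((g * (x * z i) * g⁻¹) * w j * (g * (x * z i) * g⁻¹)⁻¹ *
            (w j)⁻¹) y = 1} = ((Finset.univ.filter fun j => ¬ ∀ y ∈ U,
              B ((g * x * g⁻¹) * w j * (g * x * g⁻¹)⁻¹ * (w j)⁻¹) y = 1).erase i).card := by
          rw [Nat.card_eq_fintype_card, Fintype.card_subtype]
          congr 1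
          ext j
          rw [Finset.mem_erase, Finset.mem_filter, Finset.mem_filter, hbad j, not_or]
          simp
        rw [e3, Finset.card_erase_of_mem (Finset.mem_filter.2 ⟨Finset.mem_univ i, hi⟩),
          ← Fintype.card_subtype, ← Nat.card_eq_fintype_card, h0]
        rfl
    have h2 := mul_mem h1 (subset_closure (Or.inl ⟨i, rfl⟩ : z i ∈ Set.range z ∪ (T : Set G)))
    rwa [mul_assoc, s.sq _ (s.zU i), mul_one] at h2

/-- **(8')** -/
theorem eight {x : G} (hx : x ∈ W) : x ∈ closure (Set.range z ∪ (T : Set G)) := by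
  refine s.eight_aux _ x (s.WU hx) (s.gH x hx) (fun m hm hm' => ?_) rfl
  refine s.Y_U (P := fun m => (g * x * g⁻¹) * m * (g * x * g⁻¹)⁻¹ = m) ?_ ?_ ?_ hm hm'
  · intro p hp hpY
    obtain ⟨i, hi⟩ := s.occ hp
    by_cases h : p = z i
    · rw [h, ← s.gz x hx i, mul_inv_cancel_right]
    · rw [← s.WW p (s.seven' hi (hpY i) h) x hx, mul_inv_cancel_right]
  · rw [mul_one, mul_inv_cancel]
  · intro a _ b _ h1 h2
    have e1 : (g * x * g⁻¹) * (a * b) * (g * x * g⁻¹)⁻¹ =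
        ((g * x * g⁻¹) * a * (g * x * g⁻¹)⁻¹) * ((g * x * g⁻¹) * b * (g * x * g⁻¹)⁻¹) := by group
    rw [e1, h1, h2]

/-- (8'): `Y1 ≤ ⟨z_1, .., z_k⟩ T` -/
theorem Y_le_T {u : G} (hu : u ∈ U) (h : ∀ i, B (z i) u = 1) : u ∈ closure (Set.range z ∪ (T : Set G)) := by
  refine s.Y_U (P := fun m => m ∈ closure (Set.range z ∪ (T : Set G))) ?_ (one_mem _)
    (fun a _ b _ h1 h2 => mul_mem h1 h2) hu h
  intro p hp hpY
  obtain ⟨i, hi⟩ := s.occ hp
  by_cases h : p = z i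
  · rw [h]; exact subset_closure (Or.inl ⟨i, rfl⟩)
  · exact s.eight (s.seven' hi (hpY i) h)

/-- the action of `g y g⁻¹` on `U` for `y ∈ Y1` -/
theorem act {y : G} (hy : y ∈ closure (Set.range z ∪ (T : Set G))) :
    y ∈ U ∧ (∀ m ∈ U, (∀ i, B (z i) m = 1) → (g * y * g⁻¹) * m * (g * y * g⁻¹)⁻¹ = m) ∧
      ∀ j, (g * y * g⁻¹) * w j * (g * y * g⁻¹)⁻¹ = w j ∨ (g * y * g⁻¹) * w j * (g * y * g⁻¹)⁻¹ = w j * z j := by
  refine closure_induction (p := fun y _ => y ∈ U ∧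
      (∀ m ∈ U, (∀ i, B (z i) m = 1) → (g * y * g⁻¹) * m * (g * y * g⁻¹)⁻¹ = m) ∧
      ∀ j, (g * y * g⁻¹) * w j * (g * y * g⁻¹)⁻¹ = w j ∨ (g * y * g⁻¹) * w j * (g * y * g⁻¹)⁻¹ = w j * z j)
      ?_ ?_ ?_ ?_ hy
  · rintro x (⟨i, rfl⟩ | hx)
    · refine ⟨s.zU i, fun m hm hm' => s.a_Y hm (hm' i), fun j => ?_⟩
      by_cases h : i = j
      · subst h
        exact Or.inr ((s.av i _ (s.wU i)).2 (s.z_w_self i))
      · exact Or.inl (s.a_Y (s.wU j) (s.z_w h))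
    · have hxU := (s.TU x hx).1
      rw [s.gT x hx]
      have h1 : ∀ m ∈ U, x * m * x⁻¹ = m := fun m hm => by rw [s.comm x hxU m hm, mul_inv_cancel_right]
      exact ⟨hxU, fun m hm _ => h1 m hm, fun j => Or.inl (h1 _ (s.wU j))⟩
  · refine ⟨U.one_mem, fun m _ _ => by group, fun j => Or.inl (by group)⟩
  · rintro a b _ _ ⟨ha, ha1, ha2⟩ ⟨hb, hb1, hb2⟩
    have e1 : ∀ m, (g * (a * b) * g⁻¹) * m * (g * (a * b) * g⁻¹)⁻¹ =
        (g * a * g⁻¹) * ((g * b * g⁻¹) * m * (g * b * g⁻¹)⁻¹) * (g * a * g⁻¹)⁻¹ := fun m => by group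
    refine ⟨U.mul_mem ha hb, fun m hm hm' => by rw [e1, hb1 m hm hm', ha1 m hm hm'], fun j => ?_⟩
    have hz : (g * a * g⁻¹) * z j * (g * a * g⁻¹)⁻¹ = z j := ha1 _ (s.zU j) fun i => s.zz i j
    have e2 : (g * a * g⁻¹) * (w j * z j) * (g * a * g⁻¹)⁻¹ =
        ((g * a * g⁻¹) * w j * (g * a * g⁻¹)⁻¹) * ((g * a * g⁻¹) * z j * (g * a * g⁻¹)⁻¹) := by group
    rw [e1]
    rcases hb2 j with h | h <;> rcases ha2 j with h' | h'
    · rw [h, h']; exact Or.inl rfl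
    · rw [h, h']; exact Or.inr rfl
    · rw [h, e2, hz, h']; exact Or.inr rfl
    · rw [h, e2, hz, h', mul_assoc, s.sq _ (s.zU j), mul_one]; exact Or.inl rfl
  · rintro a _ ⟨ha, h⟩
    rw [s.toForm0.inv ha]
    exact ⟨ha, h⟩

/-- `y ∈ Y1 - T` : some `[w_j, y^g] = z_j` -/
theorem exists_j {y : G} (hy : y ∈ closure (Set.range z ∪ (T : Set G))) (hT : y ∉ T) :
    ∃ j, (g * y * g⁻¹) * w j * (g * y * g⁻¹)⁻¹ = w j * z j := by
  by_contra hcon
  push Not at hcon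
  obtain ⟨hyU, h1, h2⟩ := s.act hy
  refine hT (s.coreT y hyU fun m hm => ?_)
  refine s.ind (P := fun m => (g * y * g⁻¹) * m * (g * y * g⁻¹)⁻¹ = m) h1 ?_ hm
  intro u _ j h3
  have h4 := (h2 j).resolve_right (hcon j)
  have e1 : (g * y * g⁻¹) * (u * w j) * (g * y * g⁻¹)⁻¹ =
      ((g * y * g⁻¹) * u * (g * y * g⁻¹)⁻¹) * ((g * y * g⁻¹) * w j * (g * y * g⁻¹)⁻¹) := by group
  rw [e1, h4] at h3
  exact mul_right_cancel h3

/-- moving `z_j` inside its component -/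
theorem move (j : Fin k) {q : G} (hq : q ∈ Comp PP B (z j)) :
    ∃ n ∈ H, n * z j * n⁻¹ = q ∧ ∀ r ∈ PP, r ∉ Comp PP B (z j) → n * r * n⁻¹ = r := by
  induction hq with
  | refl => exact ⟨1, H.one_mem, by group, fun r _ _ => by group⟩
  | @tail b c hb h ih =>
    obtain ⟨n, hn, h1, h2⟩ := ih
    obtain ⟨hbP, hcP, hbc⟩ := h
    obtain ⟨t, ht, _, ht'⟩ := s.tv b hbP
    obtain ⟨t', ht2, _, ht2'⟩ := s.tv c hcP
    have hbU := s.sub b hbP
    have hcU := s.sub c hcP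
    have hcC : c ∈ Comp PP B (z j) := Form0.comp_adj (s.zP j) hb hcP hbc
    refine ⟨t * t' * n, H.mul_mem (H.mul_mem ht ht2) hn, ?_, fun r hr hr' => ?_⟩
    · have e1 : t * t' * n * z j * (t * t' * n)⁻¹ = t * (t' * (n * z j * n⁻¹) * t'⁻¹) * t⁻¹ := by group
      rw [e1, h1, (ht2' b hbU).2 (by rw [s.symm c hcU b hbU]; exact hbc), (ht' _ (U.mul_mem hbU hcU)).2 (by
        rw [s.mul b hbU b hbU c hcU, s.self b hbU, hbc, one_mul])]
      rw [s.comm b hbU c hcU, mul_assoc, s.sq b hbU, mul_one]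
    · have hrU := s.sub r hr
      have e1 : t * t' * n * r * (t * t' * n)⁻¹ = t * (t' * (n * r * n⁻¹) * t'⁻¹) * t⁻¹ := by group
      rw [e1, h2 r hr hr', (ht2' r hrU).1 (s.toForm0.perp (s.zP j) hcC hr hr'),
        (ht' r hrU).1 (s.toForm0.perp (s.zP j) hb hr hr')]

/-- `x_j ∈ Γ_j` : some `h ∈ H` maps all `z_j` to `x_j` -/
theorem move_all (x : Fin k → G) (hx : ∀ j, x j ∈ Comp PP B (z j)) : ∃ h ∈ H, ∀ j, h * z j * h⁻¹ = x j := by
  classical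
  have key : ∀ A : Finset (Fin k), ∃ h ∈ H, ∀ j, h * z j * h⁻¹ = if j ∈ A then x j else z j := by
    intro A
    induction A using Finset.induction_on with
    | empty => exact ⟨1, H.one_mem, fun j => by simp⟩
    | insert a A ha ih =>
      obtain ⟨h, hh, h1⟩ := ih
      obtain ⟨n, hn, h2, h3⟩ := s.move a (hx a)
      refine ⟨n * h, H.mul_mem hn hh, fun j => ?_⟩
      have e1 : n * h * z j * (n * h)⁻¹ = n * (h * z j * h⁻¹) * n⁻¹ := by group
      rw [e1, h1 j]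
      by_cases hja : j = a
      · subst hja
        rw [if_neg ha, if_pos (Finset.mem_insert_self _ _)]
        exact h2
      · have hzj : z j ∉ Comp PP B (z a) := s.notComp hja
        have hxj : x j ∉ Comp PP B (z a) := fun h4 => hzj (Form0.comp_trans h4 (s.toForm0.comp_symm (hx j)))
        by_cases hjA : j ∈ A
        · rw [if_pos hjA, if_pos (Finset.mem_insert_of_mem hjA)]
          exact h3 _ (Form0.comp_sub (s.zP j) (hx j)) hxj
        · rw [if_neg hjA, if_neg (by simp [hja, hjA])]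
          exact h3 _ (s.zP j) hzj
  obtain ⟨h, hh, h1⟩ := key Finset.univ
  exact ⟨h, hh, fun j => by rw [h1 j, if_pos (Finset.mem_univ j)]⟩

/-- **(9')** : no point lies in `T` -/
theorem nine {x : G} (hx : x ∈ PP) (hxT : x ∈ T) : False := by
  classical
  obtain ⟨i, hi⟩ := s.occ hx
  choose c hcS hcz using fun j => s.Str i j
  set X : Fin k → G := fun j => c j * x * (c j)⁻¹ with hX
  have hXC : ∀ j, X j ∈ Comp PP B (z j) := fun j => by
    have := s.conj_comp (s.SK _ (hcS j)).1 hi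
    rwa [hcz j] at this
  have hXT : ∀ j, X j ∈ T := fun j => s.ST _ (hcS j) x hxT
  obtain ⟨h, hh, hhz⟩ := s.move_all X hXC
  have hpe : h * LP z * h⁻¹ = LP X := by
    rw [LP_conj]; exact congrArg LP (funext hhz)
  have hpT : h * LP z * h⁻¹ ∈ T := by rw [hpe]; exact LP_mem hXT
  obtain ⟨R, hRc, hRH, hRg, y, hyU, ε, hεU, hεg, hyR, hyT⟩ := s.frame h hh hpT
  have hpU := (s.TU _ hpT).1
  have hpY := (s.TU _ hpT).2
  -- the `a_i` and `U` normalise `R`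
  have hεg' : g * ε * g⁻¹ = ε := by rw [← hεg, mul_inv_cancel_right]
  have hεa : ∀ i, ε * (g * z i * g⁻¹) = (g * z i * g⁻¹) * ε := by
    intro i
    calc ε * (g * z i * g⁻¹) = (g * ε * g⁻¹) * (g * z i * g⁻¹) := by rw [hεg']
      _ = g * (ε * z i) * g⁻¹ := by group
      _ = g * (z i * ε) * g⁻¹ := by rw [hεU _ (s.zU i)]
      _ = (g * z i * g⁻¹) * (g * ε * g⁻¹) := by group
      _ = _ := by rw [hεg']
  have haR : ∀ i, ∀ r ∈ R, (g * z i * g⁻¹) * r * (g * z i * g⁻¹)⁻¹ ∈ R := fun i r hr =>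
    hRH _ (s.gzH i) (mul_inv_eq_iff_eq_mul.1 (s.a_Y hpU (hpY i))) r hr
  have hUR : ∀ u ∈ U, ∀ r ∈ R, u * r * u⁻¹ ∈ R := fun u hu r hr => hRH u (s.UH hu) (s.comm u hu _ hpU) r hr
  -- `z_j ∈ R` implies `R ∩ U ≤ z_j^⊥`
  have hzR : ∀ j, z j ∈ R → ∀ f ∈ U, ∀ ε', ε' * (g * z j * g⁻¹) = (g * z j * g⁻¹) * ε' → f * ε' ∈ R →
      B (z j) f = 1 := by
    intro j hj f hf ε' hε' hfR
    by_contra h1
    have h2 := (s.av j f hf).2 (ne_one h1)
    have h3 := hRc _ (hRg _ hj) _ hfR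
    have h4 : (g * z j * g⁻¹) * (f * ε') * (g * z j * g⁻¹)⁻¹ = f * z j * ε' := by
      have e1 : (g * z j * g⁻¹) * (f * ε') * (g * z j * g⁻¹)⁻¹ =
          ((g * z j * g⁻¹) * f * (g * z j * g⁻¹)⁻¹) * ((g * z j * g⁻¹) * ε' * (g * z j * g⁻¹)⁻¹) := by group
      rw [e1, h2, ← hε', mul_inv_cancel_right]
    rw [h3, mul_inv_cancel_right] at h4
    have h5 : f = f * z j := mul_right_cancel h4
    exact s.z_ne_one j (mul_eq_left.1 h5.symm)
  -- `y ∈ Y1`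
  have hyY : ∀ i, B (z i) y = 1 := by
    intro i
    by_contra h1
    have h2 := (s.av i y hyU).2 (ne_one h1)
    have h3 := haR i _ hyR
    have h4 : (g * z i * g⁻¹) * (y * ε) * (g * z i * g⁻¹)⁻¹ = z i * (y * ε) := by
      have e1 : (g * z i * g⁻¹) * (y * ε) * (g * z i * g⁻¹)⁻¹ =
          ((g * z i * g⁻¹) * y * (g * z i * g⁻¹)⁻¹) * ((g * z i * g⁻¹) * ε * (g * z i * g⁻¹)⁻¹) := by group
      rw [e1, h2, ← hεa i, mul_inv_cancel_right, s.comm y hyU _ (s.zU i), mul_assoc]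
    rw [h4] at h3
    have h5 : z i ∈ R := by
      have := R.mul_mem h3 (R.inv_mem hyR)
      rwa [mul_inv_cancel_right] at this
    exact h1 (hzR i h5 y hyU ε (hεa i) hyR)
  obtain ⟨j, hj⟩ := s.exists_j (s.Y_le_T hyU hyY) hyT
  -- `z_j ∈ R`
  have hzjR : z j ∈ R := by
    have h1 : g * (y * ε) * g⁻¹ ∈ R := hRg _ hyR
    have h2 : g * (y * ε) * g⁻¹ = (g * y * g⁻¹) * ε := by
      have e1 : g * (y * ε) * g⁻¹ = (g * y * g⁻¹) * (g * ε * g⁻¹) := by group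
      rw [e1, hεg']
    rw [h2] at h1
    have h3 := hUR _ (s.wU j) _ h1
    have h4 : w j * ((g * y * g⁻¹) * ε) * (w j)⁻¹ = z j * ((g * y * g⁻¹) * ε) := by
      have h5 : (g * y * g⁻¹) * w j = w j * z j * (g * y * g⁻¹) := mul_inv_eq_iff_eq_mul.1 hj
      have hw1 : (w j)⁻¹ = w j := s.toForm0.inv (s.wU j)
      calc w j * ((g * y * g⁻¹) * ε) * (w j)⁻¹ = w j * (g * y * g⁻¹) * (ε * w j) := by rw [hw1]; group
        _ = w j * ((g * y * g⁻¹) * w j) * ε := by rw [hεU _ (s.wU j)]; group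
        _ = w j * (w j * z j * (g * y * g⁻¹)) * ε := by rw [h5]
        _ = (w j * w j) * z j * (g * y * g⁻¹) * ε := by group
        _ = _ := by rw [s.sq _ (s.wU j), one_mul, mul_assoc]
    rw [h4] at h3
    have := R.mul_mem h3 (R.inv_mem h1)
    rwa [mul_inv_cancel_right] at this
  have hRY : ∀ f ∈ U, f ∈ R → B (z j) f = 1 := fun f hf hfR =>
    hzR j hzjR f hf 1 (by rw [one_mul, mul_one]) (by rwa [mul_one])
  -- `z_j = x_j`
  have F := s.toForm0.comp (s.zP j)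
  have hXP : X j ∈ PP := Form0.comp_sub (s.zP j) (hXC j)
  have hXU := s.sub _ hXP
  have hBp : ∀ q ∈ Comp PP B (z j), B q (LP X) = B q (X j) := by
    intro q hq
    have hqU := s.sub q (Form0.comp_sub (s.zP j) hq)
    rw [s.B_LP hqU X fun i => s.sub _ (Form0.comp_sub (s.zP i) (hXC i))]
    refine Finset.prod_eq_single j (fun i _ hij => ?_) fun h => absurd (Finset.mem_univ j) h
    refine s.toForm0.perp (s.zP j) hq (Form0.comp_sub (s.zP i) (hXC i)) fun h4 => ?_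
    exact s.notComp hij (Form0.comp_trans h4 (s.toForm0.comp_symm (hXC i)))
  have key : ∀ q ∈ Comp PP B (z j), B (X j) q = 1 → B (z j) q = 1 := by
    intro q hq hq1
    have hqP := Form0.comp_sub (s.zP j) hq
    have hqU := s.sub q hqP
    by_contra h1
    have h1 := ne_one h1
    obtain ⟨t, ht, _, ht'⟩ := s.tv q hqP
    have h2 : t * (h * LP z * h⁻¹) = (h * LP z * h⁻¹) * t := by
      refine mul_inv_eq_iff_eq_mul.1 ((ht' _ hpU).1 ?_)
      rw [hpe, hBp q hq, s.symm q hqU _ hXU]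
      exact hq1
    have h3 := hRH t ht h2 _ hzjR
    rw [(ht' _ (s.zU j)).2 (by rw [s.symm q hqU _ (s.zU j)]; exact h1)] at h3
    have h4 : q ∈ R := by
      have := R.mul_mem (R.inv_mem hzjR) h3
      rwa [inv_mul_cancel_left] at this
    rw [hRY q hqU h4] at h1
    exact neg_ne h1.symm
  have hzX : z j = X j := by
    have hF := F.rad_or' (hXC j) (subset_closure (Form0.comp_self _)) key
    rcases hF with h1 | h1
    · exfalso
      have := h1 _ (subset_closure (s.w_comp j))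
      rw [s.z_w_self] at this
      exact neg_ne this
    · refine s.ppr _ (s.zP j) _ hXP (s.toForm0.rad_of_pts (U.mul_mem (s.zU j) hXU) fun r hr => ?_)
      by_cases h2 : r ∈ Comp PP B (z j)
      · exact h1 r (subset_closure h2)
      · rw [s.toForm0.mul_left (s.zU j) hXU (s.sub r hr), s.toForm0.perp (s.zP _) (Form0.comp_self _) hr h2,
          s.toForm0.perp (s.zP _) (hXC j) hr h2, one_mul]
  exact s.zT j (by rw [hzX]; exact hXT j)

/-- **(10')** : contradiction -/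
theorem false : False := by
  obtain ⟨q, hq, hqY, x, hx, hqx⟩ := s.exists_pt
  obtain ⟨t, htH, htt, ht⟩ := s.tv q hq
  obtain ⟨h, hh, hhe, hS⟩ := s.syl t htH (s.tv_K hq hqY ht) htt
  obtain ⟨σ, hσ⟩ := s.perm hh hhe
  have hq1 := s.nP h hh q hq
  have hq1U := s.sub _ hq1
  have hqU := s.sub q hq
  have hq1Y : ∀ i, B (z i) (h * q * h⁻¹) = 1 := by
    intro i
    obtain ⟨j, rfl⟩ := σ.surjective i
    rw [← hσ j, s.isom h hh _ (s.zU j) _ hqU]
    exact hqY j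
  have hx1 : h * x * h⁻¹ ∈ W := s.WK h hh hhe x hx
  have hB1 : B (h * q * h⁻¹) (h * x * h⁻¹) = -1 := by rw [s.isom h hh q hqU x (s.WU hx)]; exact hqx
  -- some `τ ∈ T` is not perpendicular to `q1`
  obtain ⟨τ, hτ, hτ1⟩ : ∃ τ ∈ T, B (h * q * h⁻¹) τ = -1 := by
    by_contra hcon
    push Not at hcon
    have h1 := (s.toForm0.eq_one_of_closure (A := Set.range z ∪ (T : Set G)) (u := h * q * h⁻¹) (by
      rintro a (⟨i, rfl⟩ | ha)
      · exact s.zU i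
      · exact (s.TU a ha).1) hq1U (by
      rintro a (⟨i, rfl⟩ | ha)
      · rw [s.symm _ hq1U _ (s.zU i)]; exact hq1Y i
      · exact ne_neg (hcon a ha)) (s.eight hx1)).2
    rw [h1] at hB1
    exact neg_ne hB1.symm
  have h2 := s.ST _ hS τ hτ
  -- `h t h⁻¹` acts as the transvection at `q1`
  have hτU := (s.TU τ hτ).1
  have h3 : (h * t * h⁻¹) * τ * (h * t * h⁻¹)⁻¹ = τ * (h * q * h⁻¹) := by
    have hτ' : h⁻¹ * τ * h ∈ U := by
      have := s.nU _ (H.inv_mem hh) τ hτU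
      rwa [inv_inv] at this
    have h4 : B q (h⁻¹ * τ * h) = -1 := by
      rw [← s.isom h hh q hqU _ hτ']
      have e1 : h * (h⁻¹ * τ * h) * h⁻¹ = τ := by group
      rw [e1]
      exact hτ1
    have h5 := (ht _ hτ').2 h4
    have e1 : (h * t * h⁻¹) * τ * (h * t * h⁻¹)⁻¹ = h * (t * (h⁻¹ * τ * h) * t⁻¹) * h⁻¹ := by group
    rw [e1, h5]
    group
  rw [h3] at h2
  have h4 : h * q * h⁻¹ ∈ T := by
    have := T.mul_mem (T.inv_mem hτ) h2
    rwa [inv_mul_cancel_left] at this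
  exact s.nine hq1 h4

end End

end Cfsg.Agent.Omega.NOThreeL.RTools.Many
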