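import Cfsg.Agent.Omega.NOThreeL.RTools.Many.Four
import Cfsg.Agent.Omega.NOThreeL.RTools.Many.End

/-!
# NO-3L, box R, case (A), `q = 2`, all `k`, symplectic case: the fields of `End` mentioning `g` and `T`

`W = Wk S H z e = W ∩ U₁`, `g = gk ω w`, `T = Tk H z w`.  `SpK.mkEnd` : `End` from the other fields.
-/

set_option autoImplicit false
set_option linter.unusedSectionVars false

namespace Cfsg.Agent.Omega.NOThreeL.RTools.Many

open Subgroup Cfsg Cfsg.Agent.Omega.MinPar Cfsg.Agent.Omega.NOThreeL.RTools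
open Cfsg.Agent.ZN (zc zl o2)
open Cfsg.Agent.Omega.Frame Cfsg.Agent.Omega.FrameNOFF
open Cfsg.Agent.Omega.Node.NO3L Cfsg.Agent.Omega.NOThreeL.Basic
open Cfsg.Agent.Omega.NoFF.Basic (conj_conj mem_conj conj_le_iff conj_le_centralizer comm_symm comm_mono)
open scoped Pointwise

universe u

variable {G : Type u} [Group G]

namespace SpK

variable [Finite G] {S : Sylow 2 G} {P H : Subgroup G} {k : ℕ} {z n : Fin k → G} {e w : G}
variable {B : G → G → ℤˣ} {ω : Fin k → G}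
variable (D : SpK S P H z n e w B ω)
include D

/-- `W ≤ Y₁` -/
theorem W_Yk {x : G} (hx : x ∈ Wl (S : Subgroup G) H e) (hx1 : x ∈ Uk H z) : x ∈ Yk (S : Subgroup G) P H z :=
  mem_inf.mpr ⟨hx1, D.Wl_cent_V D.eZ D.e_not hx⟩

theorem gH {x : G} (hx : x ∈ Yk (S : Subgroup G) P H z) : gk ω w * x * (gk ω w)⁻¹ ∈ H :=
  D.C_le_H (mem_inf.mp (D.mem_Yw hx)).2

theorem g_z {x : G} (hx : x ∈ Yk (S : Subgroup G) P H z) (i : Fin k) :
    z i * (gk ω w * x * (gk ω w)⁻¹) = (gk ω w * x * (gk ω w)⁻¹) * z i :=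
  mem_centralizer_iff.mp (mem_inf.mp (D.mem_Yw hx)).2 _ (D.zV i)

theorem gI {x r : G} (hx : x ∈ Yk (S : Subgroup G) P H z) (hr : r ∈ Ik (S : Subgroup G) P H z) :
    r * (gk ω w * x * (gk ω w)⁻¹) = (gk ω w * x * (gk ω w)⁻¹) * r :=
  (D.rad_comm hr (D.mem_Yw hx)).symm

/-- `n_i` acts as the transvection at `z_i` -/
theorem av (i : Fin k) {m : G} (hm : m ∈ Uk H z) :
    (B (z i) m = 1 → n i * m * (n i)⁻¹ = m) ∧ (B (z i) m = -1 → n i * m * (n i)⁻¹ = m * z i) := by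
  rcases D.act' hm i with ⟨h1, h2⟩ | ⟨h1, h2⟩
  · refine ⟨fun _ => ?_, fun h => ?_⟩
    · rw [(D.act m hm i).mp h1, mul_inv_cancel_right]
    · rw [h1] at h; exact absurd h (by decide)
  · refine ⟨fun h => ?_, fun _ => ?_⟩
    · rw [h1] at h; exact absurd h (by decide)
    · have h3 : m * n i = z i * n i * m := by rw [← h2, inv_mul_cancel_right]
      have h4 : n i * m = z i * (m * n i) := by
        rw [h3, ← mul_assoc, ← mul_assoc, D.z_sq, one_mul]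
      rw [h4, ← mul_assoc, mul_inv_cancel_right]
      exact (D.Uz m (D.Uk_le hm) i).symm

theorem coreT {x : G} (hx : x ∈ Uk H z)
    (h : ∀ m ∈ Uk H z, (gk ω w * x * (gk ω w)⁻¹) * m * (gk ω w * x * (gk ω w)⁻¹)⁻¹ = m) : x ∈ Tk H z w := by
  have h1 : gk ω w * x * (gk ω w)⁻¹ ∈ MulAut.conj w • Uk H z := by
    rw [← D.conj_g, mem_conj]
    have e1 : (gk ω w)⁻¹ * (gk ω w * x * (gk ω w)⁻¹) * gk ω w = x := by group
    rwa [e1]
  have h2 : gk ω w * x * (gk ω w)⁻¹ ∈ Tk H z w := by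
    refine D.core h1 ?_
    have h3 := h _ D.uU
    rw [mul_inv_eq_iff_eq_mul] at h3
    exact h3.symm
  have h3 := D.g_T h2
  have h4 : x = gk ω w * x * (gk ω w)⁻¹ := by
    calc x = (gk ω w)⁻¹ * ((gk ω w * x * (gk ω w)⁻¹) * gk ω w) := by group
      _ = (gk ω w)⁻¹ * (gk ω w * (gk ω w * x * (gk ω w)⁻¹)) := by rw [h3]
      _ = gk ω w * x * (gk ω w)⁻¹ := by group
  rw [h4]
  exact h2

theorem gT {t : G} (ht : t ∈ Tk H z w) : gk ω w * t * (gk ω w)⁻¹ = t := by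
  rw [D.g_T ht, mul_inv_cancel_right]

/-- **`End`** -/
theorem mkEnd {S₀ : Subgroup G} (hS₀ : S₀ = (S : Subgroup G))
    (tv : ∀ q ∈ PPk H z, ∃ t ∈ H, t * t = 1 ∧
      ∀ m ∈ Uk H z, (B q m = 1 → t * m * t⁻¹ = m) ∧ (B q m = -1 → t * m * t⁻¹ = m * q))
    (syl : ∀ t ∈ H, t * LP z = LP z * t → t * t = 1 →
      ∃ h ∈ H, h * LP z = LP z * h ∧ h * t * h⁻¹ ∈ S₀)
    (WW : ∀ x ∈ Wl (S : Subgroup G) H e, ∀ y ∈ Wl (S : Subgroup G) H e,
      x * (gk ω w * y * (gk ω w)⁻¹) = (gk ω w * y * (gk ω w)⁻¹) * x)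
    (frame : ∀ h ∈ H, h * LP z * h⁻¹ ∈ Tk H z w → ∃ R : Subgroup G, (∀ a ∈ R, ∀ b ∈ R, a * b = b * a) ∧
      (∀ c ∈ H, c * (h * LP z * h⁻¹) = (h * LP z * h⁻¹) * c → ∀ r ∈ R, c * r * c⁻¹ ∈ R) ∧
      (∀ r ∈ R, gk ω w * r * (gk ω w)⁻¹ ∈ R) ∧
      ∃ y ∈ Uk H z, ∃ ε : G, (∀ m ∈ Uk H z, ε * m = m * ε) ∧ ε * gk ω w = gk ω w * ε ∧ y * ε ∈ R ∧
        y ∉ Tk H z w) :
    End H (Uk H z) (PPk H z) B z ω (gk ω w) S₀ (Tk H z w) (Wl (S : Subgroup G) H e ⊓ Uk H z) where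
  toSys := D.sys
  UH := D.Uk_le.trans (D.US.trans D.SH)
  tv := tv
  core := by
    intro h hh h1 h2 m hm
    have h3 := D.triv (I := Ik (S : Subgroup G) P H z) inf_le_left D.H_norm_Ik hh
      (fun x hx => (D.mem_Ik).mpr ⟨D.cm_mem hh (D.Uk_le hx), fun y hy => h1 x hx y hy⟩)
      (fun x hx => by
        have h4 := (D.mem_Ik).mp hx
        rw [cm_def, h2 x h4.1 h4.2, mul_inv_cancel]) m hm
    rwa [cm_def, mul_inv_eq_one] at h3
  WU := inf_le_right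
  WY := fun x hx => ((D.mem_Yk).mp (D.W_Yk (mem_inf.mp hx).1 (mem_inf.mp hx).2)).2
  WK := by
    intro h hh he x hx
    have he' : h ∈ H ⊓ centralizer ({e} : Set G) := by
      refine mem_inf.mpr ⟨hh, ?_⟩
      rw [mem_centralizer_iff]
      intro y hy
      rw [Set.mem_singleton_iff.mp hy, D.eprod]
      exact he.symm
    exact mem_inf.mpr ⟨conj_mem_of_mem (K_norm_Wl he') (mem_inf.mp hx).1, D.conj_mem hh (mem_inf.mp hx).2⟩
  Wne := by
    obtain ⟨h, hh, h1, h2⟩ := D.exists_ne D.eZ D.e_not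
    have he : LP z = e := D.eprod.symm
    rw [he]
    exact ⟨h, hh, mem_inf.mpr ⟨h1, D.conj_mem hh D.e_mem⟩, h2⟩
  WW := fun x hx y hy => WW x (mem_inf.mp hx).1 y (mem_inf.mp hy).1
  gH := fun x hx => D.gH (D.W_Yk (mem_inf.mp hx).1 (mem_inf.mp hx).2)
  gz := fun x hx i => D.g_z (D.W_Yk (mem_inf.mp hx).1 (mem_inf.mp hx).2) i
  gI := fun x hx r hr h => D.gI (D.W_Yk (mem_inf.mp hx).1 (mem_inf.mp hx).2) ((D.mem_Ik).mpr ⟨hr, h⟩)
  gzH := fun i => by rw [D.gz i]; exact D.VH (D.nV i)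
  av := fun i m hm => by rw [D.gz i]; exact D.av i hm
  TU := fun t ht => (D.mem_Yk).mp (D.T_le_Yk ht)
  coreT := fun x hx h => D.coreT hx h
  gT := fun t ht => D.gT ht
  zT := D.z_not
  SK := by
    subst hS₀
    intro x hx
    refine ⟨D.SH hx, ?_⟩
    have he : LP z = e := D.eprod.symm
    rw [he]
    exact zcomm D.eZ hx
  ST := by
    subst hS₀
    exact fun x hx t ht => conj_mem_of_mem (D.S_T hx) ht
  Str := by
    subst hS₀
    exact D.Str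
  syl := syl
  frame := frame

end SpK

end Cfsg.Agent.Omega.NOThreeL.RTools.Many
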