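import Cfsg.Agent.Omega.NOThreeL.RTools.Many.SL
import Cfsg.Agent.Omega.NOThreeL.RTools.Many.MkSys
import Cfsg.Agent.Omega.NOThreeL.RTools.Many.SpEnd
import Cfsg.Agent.Omega.NOThreeL.RTools.Many.Fr
import Cfsg.Agent.Omega.NOThreeL.RTools.Many.Five
import Cfsg.Agent.Omega.NOThreeL.RTools.Many.Nat

/-!
# NO-3L, box R, case (A), `q = 2`, all `k`: the case is dead (#18037, helper850; end #18224, helper401)

* `HypK.false` : the frame hypotheses `HypK` are contradictory;
* `false_of_nat` : `G` of characteristic 2 type, `DataLow S` (no mutual pair, `V_P ≤ Q`), `P ∈ P*(S)`, `H` long, `[V_P, U_H] ≠ 1`;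
  then `V_P` is not a natural `SL₂(2)^k`-module modulo `D ≤ V_P` (`C_Z(P)` arbitrary; nothing about offenders).
-/

set_option autoImplicit false

namespace Cfsg.Agent.Omega.NOThreeL.RTools.Many

open Subgroup Cfsg Cfsg.Agent.ZN Cfsg.Agent.Omega.MinPar Cfsg.Agent.Omega.Frame Cfsg.Agent.Omega.FrameNOFF
open Cfsg.Agent.Omega.Node.NO3L Cfsg.Agent.Omega.NOThreeL.Basic
open Cfsg.Agent.Omega.FFThm (Off NatK)

universe u

variable {G : Type u} [Group G] [Finite G]

/-- **The frame hypotheses are contradictory.** -/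
theorem HypK.false {S : Sylow 2 G} {P H : Subgroup G} {k : ℕ} {z n : Fin k → G} {e w : G}
    (D : HypK S P H z n e w) : False := by
  have hY : D.NY := fun i h hh hz y hy hn => (D.norm_Y i hh hz hy hn.symm).symm
  obtain ⟨B, ω, hs, hact, htv⟩ := D.exists_sys hY
  have s : SpK S P H z n e w B ω := ⟨D, hs, hact⟩
  exact (s.mkEnd (S₀ := (S : Subgroup G)) rfl htv (fun t ht hte htt => D.syl ht hte htt)
    (fun x hx y hy => s.WW hx hy) (fun h hh hT => s.frame hh hT)).false

/-- **`R ∩ (A)`, `q = 2`, all `k`, is dead** (nothing about offenders). -/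
theorem false_of_nat {S : Sylow 2 G} {P H D : Subgroup G} {F : Type} [Field F] [CharP F 2] {k : ℕ}
    (hc : IsCharacteristicTwoType G) (Da : DataLow (S : Subgroup G)) (hPH : PairA (S : Subgroup G) P H)
    (hF : ∀ x : F, x = 0 ∨ x = 1)
    (M : NatK F (S : Subgroup G) P (zl (S : Subgroup G) P) D k) (hDV : D ≤ zl (S : Subgroup G) P) : False := by
  obtain ⟨H₁, _, z, n, e, w, hD⟩ := exists_hypK_of_natK hc Da hPH hF M hDV
  exact hD.false

/-- The same, with the superfluous hypothesis that `U_H` is an offender. -/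
theorem false_of_natK {S : Sylow 2 G} {P H D : Subgroup G} {F : Type} [Field F] [CharP F 2] {k : ℕ}
    (hc : IsCharacteristicTwoType G) (Da : DataLow (S : Subgroup G)) (hPH : PairA (S : Subgroup G) P H)
    (_ : Off (zl (S : Subgroup G) P) (zl (S : Subgroup G) H)) (hF : ∀ x : F, x = 0 ∨ x = 1)
    (M : NatK F (S : Subgroup G) P (zl (S : Subgroup G) P) D k) (hDV : D ≤ zl (S : Subgroup G) P) : False :=
  false_of_nat hc Da hPH hF M hDV

end Cfsg.Agent.Omega.NOThreeL.RTools.Many
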