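import Cfsg.Agent.Omega.NOThreeL.RTools.Symp

/-!
# NO-3L, box R ∩ (A), `q = 2`, all `k`: the components of the form (#18037 (3), (b), (7)), pure algebra

`Form0` : alternating form on the elementary abelian `U = ⟨PP⟩` with `p p' ∈ PP` for non-perpendicular points
(no connectedness). `Comp PP B p` : the component of `p` for 'not perpendicular'.

* `Form0.comp` : each component is a `Symp.Form` on its span;
* `Form0.diam` : components have diameter 2;
* `Form0.claim` : the CLAIM of #18037 (3).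
-/

set_option autoImplicit false

namespace Cfsg.Agent.Omega.NOThreeL.RTools.Many

open Subgroup Cfsg.Agent.Omega.NOThreeL.RTools.Symp

variable {G : Type*} [Group G]

/-- An alternating form with points. -/
structure Form0 (U : Subgroup G) (PP : Set G) (B : G → G → ℤˣ) : Prop where
  sq : ∀ u ∈ U, u * u = 1
  comm : ∀ u ∈ U, ∀ v ∈ U, u * v = v * u
  sub : ∀ p ∈ PP, p ∈ U
  gen : U ≤ closure PP
  mul : ∀ u ∈ U, ∀ v ∈ U, ∀ v' ∈ U, B u (v * v') = B u v * B u v'
  symm : ∀ u ∈ U, ∀ v ∈ U, B u v = B v u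
  self : ∀ u ∈ U, B u u = 1
  tr : ∀ p ∈ PP, ∀ p' ∈ PP, B p p' = -1 → p * p' ∈ PP

/-- the adjacency 'not perpendicular' on points -/
def Adj (PP : Set G) (B : G → G → ℤˣ) (a b : G) : Prop := a ∈ PP ∧ b ∈ PP ∧ B a b = -1

/-- the component of `p` -/
def Comp (PP : Set G) (B : G → G → ℤˣ) (p : G) : Set G := {q | Relation.ReflTransGen (Adj PP B) p q}

theorem neg_ne : ¬ (-1 : ℤˣ) = 1 := by decide

theorem ne_one {a : ℤˣ} (h : ¬ a = 1) : a = -1 := (Int.units_eq_one_or a).resolve_left h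

theorem ne_neg {a : ℤˣ} (h : ¬ a = -1) : a = 1 := (Int.units_eq_one_or a).resolve_right h

namespace Form0

variable {U : Subgroup G} {PP : Set G} {B : G → G → ℤˣ} (F : Form0 U PP B)
include F

theorem inv {u : G} (hu : u ∈ U) : u⁻¹ = u := inv_eq_of_mul_eq_one_left (F.sq u hu)

theorem one_right {u : G} (hu : u ∈ U) : B u 1 = 1 := by
  have h := F.mul u hu 1 U.one_mem 1 U.one_mem
  rw [mul_one, units_mul_self] at h
  exact h

theorem one_left {u : G} (hu : u ∈ U) : B 1 u = 1 := by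
  rw [F.symm 1 U.one_mem u hu, F.one_right hu]

theorem mul_left {u v w : G} (hu : u ∈ U) (hv : v ∈ U) (hw : w ∈ U) : B (u * v) w = B u w * B v w := by
  rw [F.symm _ (U.mul_mem hu hv) w hw, F.mul w hw u hu v hv, F.symm w hw u hu, F.symm w hw v hv]

theorem inv_right {u v : G} (hv : v ∈ U) : B u v⁻¹ = B u v := by rw [F.inv hv]

/-- a condition `B u = 1` on generators extends -/
theorem eq_one_of_closure {A : Set G} (hA : ∀ a ∈ A, a ∈ U) {u : G} (hu : u ∈ U) (h : ∀ a ∈ A, B u a = 1) {x : G}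
    (hx : x ∈ closure A) : x ∈ U ∧ B u x = 1 := by
  refine closure_induction (p := fun x _ => x ∈ U ∧ B u x = 1) ?_ ?_ ?_ ?_ hx
  · exact fun a ha => ⟨hA a ha, h a ha⟩
  · exact ⟨U.one_mem, F.one_right hu⟩
  · rintro x y _ _ ⟨hx, h1⟩ ⟨hy, h2⟩
    exact ⟨U.mul_mem hx hy, by rw [F.mul u hu x hx y hy, h1, h2, mul_one]⟩
  · rintro x _ ⟨hx, h1⟩
    exact ⟨U.inv_mem hx, by rw [F.inv_right hx, h1]⟩

/-- perpendicular to all points = perpendicular to `U` -/
theorem rad_of_pts {u : G} (hu : u ∈ U) (h : ∀ p ∈ PP, B u p = 1) : ∀ y ∈ U, B u y = 1 := fun _ hy =>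
  (F.eq_one_of_closure F.sub hu h (F.gen hy)).2

theorem adj_symm {a b : G} (h : Adj PP B a b) : Adj PP B b a :=
  ⟨h.2.1, h.1, by rw [F.symm b (F.sub b h.2.1) a (F.sub a h.1)]; exact h.2.2⟩

omit F in
theorem comp_self (p : G) : p ∈ Comp PP B p := Relation.ReflTransGen.refl

omit F in
theorem comp_sub {p q : G} (hp : p ∈ PP) (hq : q ∈ Comp PP B p) : q ∈ PP := by
  induction hq with
  | refl => exact hp
  | tail _ h _ => exact h.2.1

theorem comp_symm {p q : G} (hq : q ∈ Comp PP B p) : p ∈ Comp PP B q := by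
  induction hq with
  | refl => exact Relation.ReflTransGen.refl
  | tail _ h ih => exact Relation.ReflTransGen.head (F.adj_symm h) ih

omit F in
theorem comp_trans {p q r : G} (hq : q ∈ Comp PP B p) (hr : r ∈ Comp PP B q) : r ∈ Comp PP B p :=
  Relation.ReflTransGen.trans hq hr

theorem comp_eq {p q : G} (hq : q ∈ Comp PP B p) : Comp PP B q = Comp PP B p := by
  ext x
  exact ⟨fun h => comp_trans hq h, fun h => comp_trans (F.comp_symm hq) h⟩

omit F in
theorem comp_adj {p q r : G} (hp : p ∈ PP) (hq : q ∈ Comp PP B p) (hr : r ∈ PP) (h : B q r = -1) :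
    r ∈ Comp PP B p := Relation.ReflTransGen.tail hq ⟨comp_sub hp hq, hr, h⟩

/-- different components are perpendicular -/
theorem perp {p q r : G} (hp : p ∈ PP) (hq : q ∈ Comp PP B p) (hr : r ∈ PP) (h : r ∉ Comp PP B p) : B q r = 1 := by
  by_contra h1
  exact h (comp_adj hp hq hr (ne_one h1))

theorem comp_mul {p q r : G} (hp : p ∈ PP) (hq : q ∈ Comp PP B p) (hr : r ∈ Comp PP B p) (h : B q r = -1) :
    q * r ∈ Comp PP B p := by
  have hq' := comp_sub hp hq
  have hr' := comp_sub hp hr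
  refine comp_adj hp hq (F.tr q hq' r hr' h) ?_
  rw [F.mul q (F.sub q hq') q (F.sub q hq') r (F.sub r hr'), F.self q (F.sub q hq'), h]
  decide

/-- each component is a connected `Form` on its span -/
theorem comp {p : G} (hp : p ∈ PP) : Form (closure (Comp PP B p)) (Comp PP B p) B := by
  have hle : closure (Comp PP B p) ≤ U := (closure_le U).2 fun q hq => F.sub q (comp_sub hp hq)
  refine ⟨fun u hu => F.sq u (hle hu), fun u hu v hv => F.comm u (hle hu) v (hle hv),
    fun q hq => subset_closure hq, le_refl _, fun u hu v hv w hw => F.mul u (hle hu) v (hle hv) w (hle hw),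
    fun u hu v hv => F.symm u (hle hu) v (hle hv), fun u hu => F.self u (hle hu),
    fun q hq r hr h => F.comp_mul hp hq hr h, ?_⟩
  intro A hA hne hcl
  refine Set.Subset.antisymm hA fun q hq => ?_
  obtain ⟨a, ha⟩ := hne
  have h1 : q ∈ Comp PP B a := comp_trans (F.comp_symm (hA ha)) hq
  clear hq
  induction h1 with
  | refl => exact ha
  | @tail b c h2 h3 ih =>
    have hb : b ∈ Comp PP B p := comp_trans (hA ha) h2
    exact hcl b ih c (comp_adj hp hb h3.2.1 h3.2.2) h3.2.2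

theorem span_le {p : G} (hp : p ∈ PP) : closure (Comp PP B p) ≤ U :=
  (closure_le U).2 fun q hq => F.sub q (comp_sub hp hq)

/-- **diameter 2** -/
theorem diam {p q : G} (hp : p ∈ PP) (hq : q ∈ Comp PP B p) :
    p = q ∨ B p q = -1 ∨ ∃ w ∈ PP, B p w = -1 ∧ B w q = -1 := by
  induction hq with
  | refl => exact Or.inl rfl
  | @tail b c h2 h3 ih =>
    obtain ⟨hb, hc, hbc⟩ := h3
    have hpU := F.sub p hp
    have hbU := F.sub b hb
    have hcU := F.sub c hc
    rcases ih with rfl | h | ⟨w, hw, h4, h5⟩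
    · exact Or.inr (Or.inl hbc)
    · exact Or.inr (Or.inr ⟨b, hb, h, hbc⟩)
    · by_cases h6 : B p b = -1
      · exact Or.inr (Or.inr ⟨b, hb, h6, hbc⟩)
      · have h6 := ne_neg h6
        have hwU := F.sub w hw
        by_cases h7 : B w c = -1
        · exact Or.inr (Or.inr ⟨w, hw, h4, h7⟩)
        · have h7 := ne_neg h7
          refine Or.inr (Or.inr ⟨w * b, F.tr w hw b hb h5, ?_, ?_⟩)
          · rw [F.mul p hpU w hwU b hbU, h4, h6, mul_one]
          · rw [F.mul_left hwU hbU hcU, h7, hbc, one_mul]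

/-- **CLAIM** of #18037 (3). -/
theorem claim {z0 : G} (hz0 : z0 ∈ PP) (φ : G → ℤˣ)
    (hφ : ∀ p ∈ PP, ∀ q ∈ PP, B p q = -1 → φ (p * q) = φ p * φ q) (hash : ∀ p ∈ PP, φ p = 1 → B p z0 = 1)
    (hne : ∃ q ∈ PP, B q z0 = -1) {p : G} (hp : p ∈ Comp PP B z0) : B p z0 = φ p := by
  have hzU := F.sub z0 hz0
  obtain ⟨q, hq, hqz⟩ := hne
  have hqφ : φ q = -1 := by
    by_contra h
    rw [hash q hq (ne_neg h)] at hqz
    exact neg_ne hqz.symm
  have hpP := comp_sub hz0 hp
  -- adjacent points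
  have adj : ∀ a ∈ PP, ∀ b ∈ PP, B a b = -1 → φ a = -1 → φ b = -1 → B a z0 = -1 → B b z0 = -1 := by
    intro a ha b hb hab h1 h2 h3
    have h4 := hash _ (F.tr a ha b hb hab) (by rw [hφ a ha b hb hab, h1, h2]; decide)
    rw [F.mul_left (F.sub a ha) (F.sub b hb) hzU, h3] at h4
    by_contra h5
    rw [ne_neg h5] at h4
    exact absurd h4 (by decide)
  rcases Int.units_eq_one_or (φ p) with h | h
  · rw [h]; exact hash p hpP h
  · rw [h]
    have hqC : q ∈ Comp PP B z0 := comp_adj hz0 (comp_self z0) hq (by rw [F.symm z0 hzU q (F.sub q hq)]; exact hqz)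
    have hpq : p ∈ Comp PP B q := by rw [F.comp_eq hqC]; exact hp
    rcases F.diam hq hpq with rfl | h1 | ⟨w, hw, h1, h2⟩
    · exact hqz
    · exact adj q hq p hpP h1 hqφ h hqz
    · by_cases h3 : B q p = -1
      · exact adj q hq p hpP h3 hqφ h hqz
      have h3 := ne_neg h3
      have hwU := F.sub w hw
      have hpU := F.sub p hpP
      have hqU := F.sub q hq
      by_cases h4 : φ w = -1
      · exact adj w hw p hpP h2 h4 h (adj q hq w hw h1 hqφ h4 hqz)
      · have h4 := ne_neg h4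
        have h5 := hash w hw h4
        have h6 : B q (w * p) = -1 := by rw [F.mul q hqU w hwU p hpU, h1, h3, mul_one]
        have h7 := adj q hq (w * p) (F.tr w hw p hpP h2) h6 hqφ (by rw [hφ w hw p hpP h2, h4, h, one_mul]) hqz
        rwa [F.mul_left hwU hpU hzU, h5, one_mul] at h7

/-- **two of the `z`'s in one component are equal** -/
theorem eq_of_comp {z0 z1 : G} (hz0 : z0 ∈ PP) (hz1 : z1 ∈ PP) (φ : G → ℤˣ)
    (hφ : ∀ p ∈ PP, ∀ q ∈ PP, B p q = -1 → φ (p * q) = φ p * φ q) (hash0 : ∀ p ∈ PP, φ p = 1 → B p z0 = 1)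
    (hash1 : ∀ p ∈ PP, φ p = 1 → B p z1 = 1) (hne0 : ∃ q ∈ PP, B q z0 = -1) (hne1 : ∃ q ∈ PP, B q z1 = -1)
    (ppr : ∀ p ∈ PP, ∀ q ∈ PP, (∀ y ∈ U, B (p * q) y = 1) → p = q) (h : z1 ∈ Comp PP B z0) : z1 = z0 := by
  have hU0 := F.sub z0 hz0
  have hU1 := F.sub z1 hz1
  refine ppr z1 hz1 z0 hz0 (F.rad_of_pts (U.mul_mem hU1 hU0) fun p hp => ?_)
  have hpU := F.sub p hp
  rw [F.mul_left hU1 hU0 hpU, F.symm z1 hU1 p hpU, F.symm z0 hU0 p hpU]
  by_cases h1 : p ∈ Comp PP B z0
  · have h2 : p ∈ Comp PP B z1 := by rw [F.comp_eq h]; exact h1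
    rw [F.claim hz0 φ hφ hash0 hne0 h1, F.claim hz1 φ hφ hash1 hne1 h2, units_mul_self]
  · rw [F.symm p hpU z1 hU1, F.symm p hpU z0 hU0, F.perp hz0 h hp h1, F.perp hz0 (comp_self z0) hp h1, one_mul]

end Form0

end Cfsg.Agent.Omega.NOThreeL.RTools.Many
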