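import Cfsg.Agent.Omega.NOThreeL.RTools.Many.Comp

/-!
# NO-3L, box R ∩ (A), `q = 2`, all `k`, symplectic case: the points `z_1, .., z_k` (#18037 (3), (b), (6), (7))

`Sys H U PP B z` : form, `H`-invariant points, the points `z_i` with the property (#) of #18037.

* `Sys.notComp` : different `z_i` lie in different components; `Sys.occ` : all components occur;
* `Sys.perm` : `C_H(e)` permutes the `z_i`, `e = z_1 .. z_k`; `Sys.e_eq`;
* `Sys.mul_om` : (b) `Y1 = ⋂ z_i^⊥` is generated by its points, `U = Y1 ⟨w_1, .., w_k⟩`;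
* `Sys.six` : (6), `Sys.seven` : (7).
-/

set_option autoImplicit false

namespace Cfsg.Agent.Omega.NOThreeL.RTools.Many

open Subgroup Cfsg.Agent.Omega.NOThreeL.RTools.Symp

variable {G : Type*} [Group G]

/-- ordered product -/
def LP {k : ℕ} (f : Fin k → G) : G := (List.ofFn f).prod

theorem LP_mem {k : ℕ} {f : Fin k → G} {U : Subgroup G} (h : ∀ i, f i ∈ U) : LP f ∈ U := by
  refine Subgroup.list_prod_mem U fun x hx => ?_
  obtain ⟨i, rfl⟩ := List.mem_ofFn.1 hx
  exact h i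

theorem LP_succ {k : ℕ} (f : Fin (k + 1) → G) : LP f = f 0 * LP fun i => f i.succ := by
  simp [LP, List.ofFn_succ]

theorem LP_mul {k : ℕ} {U : Subgroup G} (hc : ∀ u ∈ U, ∀ v ∈ U, u * v = v * u) (f g : Fin k → G)
    (hf : ∀ i, f i ∈ U) (hg : ∀ i, g i ∈ U) : LP (fun i => f i * g i) = LP f * LP g := by
  induction k with
  | zero => simp [LP]
  | succ n ih =>
    rw [LP_succ, LP_succ f, LP_succ g, ih (fun i => f i.succ) (fun i => g i.succ) (fun i => hf _) (fun i => hg _)]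
    have h1 := hc (g 0) (hg 0) (LP fun i => f i.succ) (LP_mem fun i => hf _)
    calc f 0 * g 0 * ((LP fun i => f i.succ) * LP fun i => g i.succ)
        = f 0 * (g 0 * LP fun i => f i.succ) * LP fun i => g i.succ := by group
      _ = f 0 * ((LP fun i => f i.succ) * g 0) * LP fun i => g i.succ := by rw [h1]
      _ = _ := by group

theorem LP_conj {k : ℕ} (f : Fin k → G) (h : G) : h * LP f * h⁻¹ = LP fun i => h * f i * h⁻¹ := by
  induction k with
  | zero => simp [LP]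
  | succ n ih =>
    rw [LP_succ, LP_succ, ← ih]
    group

theorem LP_one {k : ℕ} : LP (fun _ : Fin k => (1 : G)) = 1 := by
  induction k with
  | zero => simp [LP]
  | succ n ih => rw [LP_succ, ih, mul_one]

theorem LP_single {k : ℕ} (f : Fin k → G) (j : Fin k) (h : ∀ i, i ≠ j → f i = 1) : LP f = f j := by
  induction k with
  | zero => exact j.elim0
  | succ n ih =>
    rw [LP_succ]
    refine Fin.cases (fun h => ?_) (fun j h => ?_) j h
    · have h1 : (fun i : Fin n => f i.succ) = fun _ => 1 := funext fun i => h _ (Fin.succ_ne_zero i)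
      rw [h1, LP_one, mul_one]
    · have h1 : LP (fun i : Fin n => f i.succ) = f j.succ := ih _ j fun i hi => h _ fun h2 => hi (Fin.succ_injective _ h2)
      rw [h1, h 0 (Fin.succ_ne_zero j).symm, one_mul]

theorem LP_perm {k : ℕ} {U : Subgroup G} (hc : ∀ u ∈ U, ∀ v ∈ U, u * v = v * u) (f : Fin k → G)
    (hf : ∀ i, f i ∈ U) (σ : Equiv.Perm (Fin k)) : LP (fun i => f (σ i)) = LP f := by
  refine List.Perm.prod_eq' (σ.ofFn_comp_perm f) ?_
  rw [List.pairwise_iff_forall_sublist]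
  intro a b hab
  have ha : a ∈ List.ofFn (f ∘ ⇑σ) := hab.subset (by simp)
  have hb : b ∈ List.ofFn (f ∘ ⇑σ) := hab.subset (by simp)
  obtain ⟨i, rfl⟩ := List.mem_ofFn.1 ha
  obtain ⟨j, rfl⟩ := List.mem_ofFn.1 hb
  exact hc _ (hf _) _ (hf _)

/-- the components are moved by isometries -/
theorem comp_conj {U : Subgroup G} {PP : Set G} {B : G → G → ℤˣ} (F : Form0 U PP B) {H : Subgroup G}
    (nP : ∀ h ∈ H, ∀ p ∈ PP, h * p * h⁻¹ ∈ PP)
    (inv : ∀ h ∈ H, ∀ u ∈ U, ∀ v ∈ U, B (h * u * h⁻¹) (h * v * h⁻¹) = B u v) {h p q : G} (hh : h ∈ H)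
    (hq : q ∈ Comp PP B p) : h * q * h⁻¹ ∈ Comp PP B (h * p * h⁻¹) := by
  induction hq with
  | refl => exact Relation.ReflTransGen.refl
  | @tail b c _ h2 ih =>
    exact Relation.ReflTransGen.tail ih ⟨nP h hh _ h2.1, nP h hh _ h2.2.1,
      (inv h hh _ (F.sub _ h2.1) _ (F.sub _ h2.2.1)).trans h2.2.2⟩

/-- **the system of the points `z_i`** -/
structure Sys (H U : Subgroup G) (PP : Set G) (B : G → G → ℤˣ) {k : ℕ} (z w : Fin k → G) : Prop
    extends Form0 U PP B where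
  nU : ∀ h ∈ H, ∀ u ∈ U, h * u * h⁻¹ ∈ U
  nP : ∀ h ∈ H, ∀ p ∈ PP, h * p * h⁻¹ ∈ PP
  isom : ∀ h ∈ H, ∀ u ∈ U, ∀ v ∈ U, B (h * u * h⁻¹) (h * v * h⁻¹) = B u v
  /-- `PP ∩ p Rad = {p}` -/
  ppr : ∀ p ∈ PP, ∀ q ∈ PP, (∀ y ∈ U, B (p * q) y = 1) → p = q
  zP : ∀ i, z i ∈ PP
  zi : Function.Injective z
  wP : ∀ i, w i ∈ PP
  wz : ∀ i, B (w i) (z i) = -1
  /-- (#) -/
  hash : ∃ φ : G → ℤˣ, (∀ p ∈ PP, ∀ q ∈ PP, B p q = -1 → φ (p * q) = φ p * φ q) ∧
    ∀ p ∈ PP, φ p = 1 → ∀ i, B p (z i) = 1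
  /-- `H = N C`, `N` fixes the components, `C` fixes `e` -/
  fac : ∀ h ∈ H, ∃ n ∈ H, ∃ c ∈ H, h = n * c ∧ (∀ p ∈ PP, n * p * n⁻¹ ∈ Comp PP B p) ∧ c * LP z = LP z * c
  /-- `PP = z_1^H` -/
  tz : ∀ p ∈ PP, ∃ h ∈ H, ∃ i, p = h * z i * h⁻¹

namespace Sys

variable {H U : Subgroup G} {PP : Set G} {B : G → G → ℤˣ} {k : ℕ} {z w : Fin k → G} (s : Sys H U PP B z w)
include s

theorem zU (i : Fin k) : z i ∈ U := s.sub _ (s.zP i)

theorem wU (i : Fin k) : w i ∈ U := s.sub _ (s.wP i)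

theorem notComp {i j : Fin k} (h : j ≠ i) : z j ∉ Comp PP B (z i) := by
  intro h1
  obtain ⟨φ, h2, h3⟩ := s.hash
  exact h (s.zi (s.toForm0.eq_of_comp (s.zP i) (s.zP j) φ h2 (fun p hp hp' => h3 p hp hp' i)
    (fun p hp hp' => h3 p hp hp' j) ⟨w i, s.wP i, s.wz i⟩ ⟨w j, s.wP j, s.wz j⟩ s.ppr h1))

theorem B_LP {u : G} (hu : u ∈ U) {m : ℕ} (f : Fin m → G) (hf : ∀ i, f i ∈ U) :
    B u (LP f) = ∏ i, B u (f i) := by
  induction m with
  | zero => simpa [LP] using s.toForm0.one_right hu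
  | succ n ih =>
    rw [LP_succ, s.mul u hu _ (hf 0) _ (LP_mem fun i => hf _), ih (fun i => f i.succ) fun i => hf _,
      Fin.prod_univ_succ]

theorem eU : LP z ∈ U := LP_mem s.zU

theorem B_of_comp {i j : Fin k} {q : G} (hq : q ∈ Comp PP B (z i)) (h : j ≠ i) : B q (z j) = 1 :=
  s.toForm0.perp (s.zP i) hq (s.zP j) (s.notComp h)

theorem B_e {i : Fin k} {q : G} (hq : q ∈ Comp PP B (z i)) : B q (LP z) = B q (z i) := by
  rw [s.B_LP (s.sub _ (Form0.comp_sub (s.zP i) hq)) z s.zU]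
  exact Finset.prod_eq_single i (fun j _ h => s.B_of_comp hq h) fun h => absurd (Finset.mem_univ i) h

theorem w_comp (i : Fin k) : w i ∈ Comp PP B (z i) :=
  Form0.comp_adj (s.zP i) (Form0.comp_self _) (s.wP i) (by rw [s.symm _ (s.zU i) _ (s.wU i)]; exact s.wz i)

theorem zz (i j : Fin k) : B (z i) (z j) = 1 := by
  by_cases h : j = i
  · rw [h]; exact s.self _ (s.zU i)
  · exact s.B_of_comp (Form0.comp_self _) h

/-- `e` is not in the radical -/
theorem w_e (i : Fin k) : B (w i) (LP z) = -1 := by rw [s.B_e (s.w_comp i)]; exact s.wz i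

theorem z_w {i j : Fin k} (h : i ≠ j) : B (z i) (w j) = 1 := by
  rw [s.symm _ (s.zU i) _ (s.wU j)]; exact s.B_of_comp (s.w_comp j) h

theorem z_w_self (i : Fin k) : B (z i) (w i) = -1 := by rw [s.symm _ (s.zU i) _ (s.wU i)]; exact s.wz i

theorem conj_comp {h p q : G} (hh : h ∈ H) (hq : q ∈ Comp PP B p) : h * q * h⁻¹ ∈ Comp PP B (h * p * h⁻¹) :=
  comp_conj s.toForm0 s.nP s.isom hh hq

/-- **all components occur** -/
theorem occ {p : G} (hp : p ∈ PP) : ∃ i, p ∈ Comp PP B (z i) := by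
  obtain ⟨h, hh, i, rfl⟩ := s.tz p hp
  obtain ⟨n, hn, c, hc, rfl, h1, h2⟩ := s.fac h hh
  have hy := s.nP c hc _ (s.zP i)
  obtain ⟨j, hj⟩ : ∃ j, c * z i * c⁻¹ ∈ Comp PP B (z j) := by
    by_contra hcon
    push Not at hcon
    have hq := s.nP c hc _ (s.wP i)
    have h3 : B (c * w i * c⁻¹) (c * z i * c⁻¹) = -1 := by rw [s.isom c hc _ (s.wU i) _ (s.zU i)]; exact s.wz i
    have h4 : B (c * w i * c⁻¹) (LP z) = -1 := by
      have h5 : c * LP z * c⁻¹ = LP z := by rw [h2, mul_inv_cancel_right]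
      rw [← h5, s.isom c hc _ (s.wU i) _ s.eU]
      exact s.w_e i
    rw [s.B_LP (s.sub _ hq) z s.zU, Finset.prod_eq_one] at h4
    · exact absurd h4 (by decide)
    · intro j _
      by_contra h5
      have h6 : z j ∈ Comp PP B (c * w i * c⁻¹) := Form0.comp_adj hq (Form0.comp_self _) (s.zP j) (ne_one h5)
      have h7 : c * z i * c⁻¹ ∈ Comp PP B (c * w i * c⁻¹) := Form0.comp_adj hq (Form0.comp_self _) hy h3
      exact hcon j (by rw [s.toForm0.comp_eq h6]; exact h7)
  refine ⟨j, ?_⟩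
  have h3 : n * c * z i * (n * c)⁻¹ = n * (c * z i * c⁻¹) * n⁻¹ := by group
  rw [h3]
  exact Form0.comp_trans hj (h1 _ hy)

/-- `h ∈ H` permutes the components -/
theorem exists_perm {h : G} (hh : h ∈ H) : ∃ σ : Equiv.Perm (Fin k), ∀ i, h * z i * h⁻¹ ∈ Comp PP B (z (σ i)) := by
  choose f hf using fun i => s.occ (s.nP h hh _ (s.zP i))
  have hinj : Function.Injective f := by
    intro i j hij
    by_contra hne
    have h1 := hf i
    have h2 := hf j
    rw [hij] at h1
    have h3 : h * z j * h⁻¹ ∈ Comp PP B (h * z i * h⁻¹) := by rw [s.toForm0.comp_eq h1]; exact h2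
    have h4 := s.conj_comp (H.inv_mem hh) h3
    have e1 : ∀ x, h⁻¹ * (h * x * h⁻¹) * h⁻¹⁻¹ = x := fun x => by group
    rw [e1, e1] at h4
    exact s.notComp (fun h5 => hne h5.symm) h4
  exact ⟨Equiv.ofBijective f (Finite.injective_iff_bijective.1 hinj), fun i => by simpa using hf i⟩

theorem B_conj_e {h : G} (hh : h ∈ H) {i : Fin k} {q : G} (hq : q ∈ Comp PP B (h * z i * h⁻¹)) :
    B q (h * LP z * h⁻¹) = B q (h * z i * h⁻¹) := by
  have hqP := Form0.comp_sub (s.nP h hh _ (s.zP i)) hq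
  have h1 := s.conj_comp (H.inv_mem hh) hq
  have e1 : ∀ x, h⁻¹ * (h * x * h⁻¹) * h⁻¹⁻¹ = x := fun x => by group
  have e2 : ∀ x, h * (h⁻¹ * x * h⁻¹⁻¹) * h⁻¹ = x := fun x => by group
  rw [e1] at h1
  have h2 := s.nU _ (H.inv_mem hh) q (s.sub q hqP)
  rw [← e2 q, s.isom h hh _ h2 _ s.eU, s.isom h hh _ h2 _ (s.zU i)]
  exact s.B_e h1

/-- `h e h⁻¹ = e` mod `Rad` gives `h z_i h⁻¹ = z_(σ i)` and `h e h⁻¹ = e` -/
theorem perm_of {h : G} (hh : h ∈ H) (h0 : ∀ q ∈ PP, B q (h * LP z * h⁻¹) = B q (LP z)) :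
    ∃ σ : Equiv.Perm (Fin k), ∀ i, h * z i * h⁻¹ = z (σ i) := by
  obtain ⟨σ, hσ⟩ := s.exists_perm hh
  refine ⟨σ, fun i => ?_⟩
  have hyP := s.nP h hh _ (s.zP i)
  have hyU := s.sub _ hyP
  refine s.ppr _ hyP _ (s.zP _) (s.toForm0.rad_of_pts (U.mul_mem hyU (s.zU _)) fun q hq => ?_)
  have hqU := s.sub q hq
  rw [s.toForm0.mul_left hyU (s.zU _) hqU, s.symm _ hyU q hqU, s.symm _ (s.zU _) q hqU]
  by_cases h1 : q ∈ Comp PP B (z (σ i))
  · have h2 : q ∈ Comp PP B (h * z i * h⁻¹) := by rw [s.toForm0.comp_eq (hσ i)]; exact h1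
    rw [← s.B_conj_e hh h2, h0 q hq, s.B_e h1, units_mul_self]
  · rw [s.symm q hqU _ hyU, s.symm q hqU _ (s.zU _), s.toForm0.perp (s.zP _) (hσ i) hq h1,
      s.toForm0.perp (s.zP _) (Form0.comp_self _) hq h1, one_mul]

theorem e_eq_of {h : G} (h0 : ∃ σ : Equiv.Perm (Fin k), ∀ i, h * z i * h⁻¹ = z (σ i)) :
    h * LP z * h⁻¹ = LP z := by
  obtain ⟨σ, hσ⟩ := h0
  rw [LP_conj, funext hσ]
  exact LP_perm s.comm z s.zU σ

theorem e_eq {h : G} (hh : h ∈ H) (h0 : ∀ q ∈ PP, B q (h * LP z * h⁻¹) = B q (LP z)) : h * LP z * h⁻¹ = LP z :=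
  s.e_eq_of (s.perm_of hh h0)

/-- `K = C_H(e)` permutes the `z_i` -/
theorem perm {h : G} (hh : h ∈ H) (hc : h * LP z = LP z * h) : ∃ σ : Equiv.Perm (Fin k), ∀ i, h * z i * h⁻¹ = z (σ i) :=
  s.perm_of hh fun q _ => by rw [hc, mul_inv_cancel_right]

/-- the points of `Y1` -/
theorem pt_Y {p : G} (hp : p ∈ PP) {i : Fin k} (hi : p ∈ Comp PP B (z i)) (h : B (z i) p = 1) (j : Fin k) :
    B (z j) p = 1 := by
  by_cases hj : j = i
  · rw [hj]; exact h
  · rw [s.symm _ (s.zU j) _ (s.sub p hp)]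
    exact s.B_of_comp hi hj

/-- **(b)**: `u ω(u) ∈ ⟨PP ∩ Y1⟩` -/
theorem mul_om {u : G} (hu : u ∈ U) :
    u * LP (fun i => if B (z i) u = -1 then w i else 1) ∈ closure {p | p ∈ PP ∧ ∀ i, B (z i) p = 1} := by
  have hmem : ∀ v : G, ∀ i, (if B (z i) v = -1 then w i else 1) ∈ U := fun v i => by
    split_ifs
    · exact s.wU i
    · exact U.one_mem
  have h0 : ∀ x ∈ closure PP, x ∈ U ∧ x * LP (fun i => if B (z i) x = -1 then w i else 1) ∈
      closure {p | p ∈ PP ∧ ∀ i, B (z i) p = 1} := by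
    intro x hx
    refine closure_induction (p := fun x _ => x ∈ U ∧ x * LP (fun i => if B (z i) x = -1 then w i else 1) ∈
      closure {p | p ∈ PP ∧ ∀ i, B (z i) p = 1}) ?_ ?_ ?_ ?_ hx
    · intro p hp
      refine ⟨s.sub p hp, ?_⟩
      obtain ⟨j, hj⟩ := s.occ hp
      have hpU := s.sub p hp
      have h1 : ∀ i, i ≠ j → (if B (z i) p = -1 then w i else 1) = 1 := by
        intro i hi
        have h2 : B (z i) p = 1 := by rw [s.symm _ (s.zU i) _ hpU]; exact s.B_of_comp hj hi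
        rw [if_neg (by rw [h2]; decide)]
      rw [LP_single _ j h1]
      by_cases h2 : B (z j) p = -1
      · rw [if_pos h2]
        have F := s.toForm0.comp (s.zP j)
        have hm : p * w j ∈ closure (Comp PP B (z j)) := mul_mem (subset_closure hj) (subset_closure (s.w_comp j))
        have h3 : B (z j) (p * w j) = 1 := by
          rw [s.mul _ (s.zU j) _ hpU _ (s.wU j), h2, s.z_w_self j]; decide
        refine closure_mono ?_ (F.mem_closure (Form0.comp_self _) hm h3)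
        rintro q ⟨hq, hq1⟩
        have hqP := Form0.comp_sub (s.zP j) hq
        exact ⟨hqP, s.pt_Y hqP hq hq1⟩
      · rw [if_neg h2, mul_one]
        exact subset_closure ⟨hp, s.pt_Y hp hj (ne_neg h2)⟩
    · refine ⟨U.one_mem, ?_⟩
      have h1 : (fun i : Fin k => if B (z i) 1 = -1 then w i else 1) = fun _ => 1 := by
        funext i
        rw [s.toForm0.one_right (s.zU i), if_neg (by decide)]
      rw [h1, LP_one, mul_one]
      exact one_mem _
    · rintro x y _ _ ⟨hx, h1⟩ ⟨hy, h2⟩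
      refine ⟨U.mul_mem hx hy, ?_⟩
      have h3 : (fun i : Fin k => if B (z i) (x * y) = -1 then w i else 1) =
          fun i => (if B (z i) x = -1 then w i else 1) * (if B (z i) y = -1 then w i else 1) := by
        funext i
        rw [s.mul _ (s.zU i) x hx y hy]
        rcases Int.units_eq_one_or (B (z i) x) with h4 | h4 <;> rcases Int.units_eq_one_or (B (z i) y) with h5 | h5 <;>
          rw [h4, h5] <;> simp [s.sq _ (s.wU i)]
      rw [h3, LP_mul s.comm _ _ (hmem x) (hmem y)]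
      have h4 := s.comm y hy _ (LP_mem (hmem x))
      have h5 : x * y * (LP (fun i => if B (z i) x = -1 then w i else 1) *
          LP (fun i => if B (z i) y = -1 then w i else 1)) =
          (x * LP (fun i => if B (z i) x = -1 then w i else 1)) *
          (y * LP (fun i => if B (z i) y = -1 then w i else 1)) := by
        calc x * y * (LP (fun i => if B (z i) x = -1 then w i else 1) *
            LP (fun i => if B (z i) y = -1 then w i else 1))
            = x * (y * LP (fun i => if B (z i) x = -1 then w i else 1)) *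
              LP (fun i => if B (z i) y = -1 then w i else 1) := by group
          _ = x * (LP (fun i => if B (z i) x = -1 then w i else 1) * y) *
              LP (fun i => if B (z i) y = -1 then w i else 1) := by rw [h4]
          _ = _ := by group
      rw [h5]
      exact mul_mem h1 h2
    · rintro x _ ⟨hx, h⟩
      rw [s.toForm0.inv hx]
      exact ⟨hx, h⟩
  exact (h0 u (s.gen hu)).2

/-- (b) -/
theorem Y_le {u : G} (hu : u ∈ U) (h : ∀ i, B (z i) u = 1) : u ∈ closure {p | p ∈ PP ∧ ∀ i, B (z i) p = 1} := by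
  have h1 := s.mul_om hu
  have h2 : (fun i : Fin k => if B (z i) u = -1 then w i else 1) = fun _ => 1 := by
    funext i
    rw [h i, if_neg (by decide)]
  rwa [h2, LP_one, mul_one] at h1

/-- `U = Y1 ⟨w_i⟩` : induction over `U` -/
theorem ind {P : G → Prop} (h0 : ∀ u ∈ U, (∀ i, B (z i) u = 1) → P u) (h1 : ∀ u ∈ U, ∀ j, P (u * w j) → P u) {u : G}
    (hu : u ∈ U) : P u := by
  classical
  have key : ∀ n : ℕ, ∀ u ∈ U, (Finset.univ.filter fun i => B (z i) u = -1).card = n → P u := by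
    intro n
    induction n with
    | zero =>
      intro u hu h2
      rw [Finset.card_eq_zero, Finset.filter_eq_empty_iff] at h2
      exact h0 u hu fun i => ne_neg (h2 (Finset.mem_univ i))
    | succ n ih =>
      intro u hu h2
      obtain ⟨j, hj⟩ : (Finset.univ.filter fun i => B (z i) u = -1).Nonempty := by
        rw [← Finset.card_pos, h2]; omega
      have hj' := (Finset.mem_filter.1 hj).2
      refine h1 u hu j (ih _ (U.mul_mem hu (s.wU j)) ?_)
      have h3 : (Finset.univ.filter fun i => B (z i) (u * w j) = -1) =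
          (Finset.univ.filter fun i => B (z i) u = -1).erase j := by
        ext i
        rw [Finset.mem_erase, Finset.mem_filter, Finset.mem_filter, s.mul _ (s.zU i) u hu _ (s.wU j)]
        by_cases hij : i = j
        · subst hij
          rw [hj', s.z_w_self i]
          simp
        · rw [s.z_w hij, mul_one]
          simp [hij]
      rw [h3, Finset.card_erase_of_mem hj, h2]
      rfl
  exact key _ u hu rfl

/-- **(6)** : if `W1 ≤ Y1` contains a conjugate of `e`, different from `e`, then some point of `Y1` is not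
perpendicular to `W1`. -/
theorem six {W1 : Subgroup G} (WU : W1 ≤ U) {h : G} (hh : h ∈ H)
    (hW : h * LP z * h⁻¹ ∈ W1) (hne : h * LP z * h⁻¹ ≠ LP z) :
    ∃ p ∈ PP, (∀ i, B (z i) p = 1) ∧ ∃ x ∈ W1, B p x = -1 := by
  by_contra hcon
  push Not at hcon
  have hyU := WU hW
  have h1 : ∀ p ∈ PP, (∀ i, B (z i) p = 1) → B p (h * LP z * h⁻¹) = 1 := fun p hp hp' =>
    ne_neg (hcon p hp hp' _ hW)
  obtain ⟨σ, hσ⟩ := s.exists_perm hh
  refine hne (s.e_eq_of ⟨σ, fun i => ?_⟩)
  have F := s.toForm0.comp (s.zP (σ i))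
  have hxP := s.nP h hh _ (s.zP i)
  have hxU := s.sub _ hxP
  have key : ∀ y ∈ closure (Comp PP B (z (σ i))), B (h * z i * h⁻¹ * z (σ i)) y = 1 := by
    rcases F.rad_or' (Form0.comp_self _) (x := h * z i * h⁻¹) (subset_closure (hσ i)) (fun p hp hp1 => by
      have hpP := Form0.comp_sub (s.zP _) hp
      have h2 := h1 p hpP (s.pt_Y hpP hp hp1)
      have h3 : p ∈ Comp PP B (h * z i * h⁻¹) := by rw [s.toForm0.comp_eq (hσ i)]; exact hp
      rw [s.B_conj_e hh h3] at h2
      rw [s.symm _ hxU _ (s.sub p hpP)]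
      exact h2) with h2 | h2
    · exfalso
      have h3 : h * w i * h⁻¹ ∈ Comp PP B (z (σ i)) :=
        Form0.comp_trans (hσ i) (s.conj_comp hh (s.w_comp i))
      have h4 := h2 _ (subset_closure h3)
      rw [s.isom h hh _ (s.zU i) _ (s.wU i), s.z_w_self] at h4
      exact neg_ne h4
    · exact h2
  refine s.ppr _ hxP _ (s.zP _) (s.toForm0.rad_of_pts (U.mul_mem hxU (s.zU _)) fun q hq => ?_)
  by_cases h2 : q ∈ Comp PP B (z (σ i))
  · exact key q (subset_closure h2)
  · rw [s.toForm0.mul_left hxU (s.zU _) (s.sub q hq), s.toForm0.perp (s.zP _) (hσ i) hq h2,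
      s.toForm0.perp (s.zP _) (Form0.comp_self _) hq h2, one_mul]

/-- **(7)** in one component -/
theorem seven {W1 : Subgroup G} (WU : W1 ≤ U) (WY : ∀ x ∈ W1, ∀ i, B (z i) x = 1)
    (habs : ∀ p ∈ PP, (∀ i, B (z i) p = 1) → (∃ x ∈ W1, B p x = -1) → p ∈ W1) {i : Fin k} {x0 : G}
    (hx0 : x0 ∈ Comp PP B (z i)) (hx1 : B (z i) x0 = 1) (hx2 : ∃ x ∈ W1, B x0 x = -1) {p : G}
    (hp : p ∈ Comp PP B (z i)) (hp1 : B (z i) p = 1) (hne : p ≠ z i) : p ∈ W1 ∧ ∃ x ∈ W1, B p x = -1 := by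
  have F := s.toForm0.comp (s.zP i)
  have hsub : ∀ q ∈ Comp PP B (z i), q ∈ PP := fun q hq => Form0.comp_sub (s.zP i) hq
  -- points of the component in `Y1`, not perpendicular to `W1`
  have habs' : ∀ q ∈ Comp PP B (z i), B (z i) q = 1 → (∃ x ∈ W1, B q x = -1) → q ∈ W1 := fun q hq hq1 =>
    habs q (hsub q hq) (s.pt_Y (hsub q hq) hq hq1)
  set P1 : Set G := {q | q ∈ Comp PP B (z i) ∧ B (z i) q = 1 ∧ ∃ x ∈ W1, B q x = -1} with hP1
  set B0 : Subgroup G := closure (P1 ∪ {z i}) with hB0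
  have hB0' : ∀ b ∈ B0, b ∈ closure (Comp PP B (z i)) ∧ B (z i) b = 1 := by
    intro b hb
    refine F.eq_one_of_closure (A := P1 ∪ {z i}) ?_ (subset_closure (Form0.comp_self _)) ?_ hb
    · rintro a (ha | rfl)
      · exact subset_closure ha.1
      · exact subset_closure (Form0.comp_self _)
    · rintro a (ha | rfl)
      · exact ha.2.1
      · exact s.self _ (s.zU i)
  have hnr : ¬ ∀ y ∈ closure (Comp PP B (z i)), B (z i) y = 1 := by
    intro h
    have := h (w i) (subset_closure (s.w_comp i))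
    rw [s.z_w_self] at this
    exact neg_ne this
  -- `p z_i ⊥` component gives `p = z_i`
  have hc : ∀ q ∈ Comp PP B (z i), (∀ y ∈ closure (Comp PP B (z i)), B (q * z i) y = 1) → q = z i := by
    intro q hq h
    have hqU := s.sub q (hsub q hq)
    refine s.ppr q (hsub q hq) _ (s.zP i) (s.toForm0.rad_of_pts (U.mul_mem hqU (s.zU i)) fun r hr => ?_)
    by_cases h2 : r ∈ Comp PP B (z i)
    · exact h r (subset_closure h2)
    · rw [s.toForm0.mul_left hqU (s.zU _) (s.sub r hr), s.toForm0.perp (s.zP _) hq hr h2,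
        s.toForm0.perp (s.zP _) (Form0.comp_self _) hr h2, one_mul]
  have habsB : ∀ q ∈ Comp PP B (z i), B (z i) q = 1 → (∃ a ∈ B0, B q a = -1) → q ∈ P1 := by
    rintro q hq hq1 ⟨a, ha, hqa⟩
    by_contra h
    have hqU := s.sub q (hsub q hq)
    have h1 : ∀ b ∈ P1 ∪ {z i}, B q b = 1 := by
      rintro b (hb | rfl)
      · by_contra h2
        exact h ⟨hq, hq1, b, habs' b hb.1 hb.2.1 hb.2.2, ne_one h2⟩
      · rw [s.symm q hqU _ (s.zU i)]; exact hq1
    have h2 := (s.toForm0.eq_one_of_closure (A := P1 ∪ {z i}) (by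
      rintro b (hb | rfl)
      · exact s.sub b (hsub b hb.1)
      · exact s.zU i) hqU h1 ha).2
    rw [h2] at hqa
    exact neg_ne hqa.symm
  have hnot : ∃ x ∈ B0, ∃ y ∈ B0, B x y = -1 := by
    have hx0P : x0 ∈ P1 := ⟨hx0, hx1, hx2⟩
    have hx0U := s.sub x0 (hsub x0 hx0)
    obtain ⟨x, hxW, hxx⟩ := hx2
    by_contra hcon
    push Not at hcon
    have h1 := (s.toForm0.eq_one_of_closure (A := {p | p ∈ PP ∧ ∀ i, B (z i) p = 1}) (fun a ha => s.sub a ha.1) hx0U
      (fun q hq => by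
        by_contra h2
        have h2 := ne_one h2
        have hqC : q ∈ Comp PP B (z i) := Form0.comp_adj (s.zP i) hx0 hq.1 h2
        have h3 : B q x0 = -1 := by rw [s.symm q (s.sub q hq.1) x0 hx0U]; exact h2
        have h4 : q ∈ P1 := ⟨hqC, hq.2 i, x0, habs' x0 hx0 hx1 hx0P.2.2, h3⟩
        exact hcon x0 (subset_closure (Or.inl hx0P)) q (subset_closure (Or.inl h4)) h2)
      (s.Y_le (WU hxW) (WY x hxW))).2
    rw [h1] at hxx
    exact neg_ne hxx.symm
  have hfull : ∀ u ∈ closure (Comp PP B (z i)), B (z i) u = 1 → u ∈ B0 := fun u hu h =>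
    F.full (Form0.comp_self _) hc (B0 := B0) (subset_closure (Or.inr rfl)) hB0' (by
      rw [hB0]
      refine closure_mono ?_
      rintro q (hq | rfl)
      · exact ⟨hq.1, subset_closure (Or.inl hq)⟩
      · exact ⟨Form0.comp_self _, subset_closure (Or.inr rfl)⟩)
      (fun q hq hq1 h2 => subset_closure (Or.inl (habsB q hq hq1 h2))) hnot hu h
  -- the point `p`
  have hpP1 : p ∈ P1 := by
    by_contra hcon
    refine hne ?_
    have h1 : ∀ q ∈ Comp PP B (z i), B (z i) q = 1 → B p q = 1 := by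
      intro q hq hq1
      by_contra h2
      exact hcon (habsB p hp hp1 ⟨q, hfull q (subset_closure hq) hq1, ne_one h2⟩)
    rcases F.rad_or' (Form0.comp_self _) (subset_closure hp) h1 with h2 | h2
    · exfalso
      -- `p` in the radical of its component
      obtain ⟨h, hh, j, rfl⟩ := s.tz p (hsub p hp)
      have h5 : h * w j * h⁻¹ ∈ Comp PP B (z i) := by
        have h6 := s.conj_comp hh (s.w_comp j)
        exact Form0.comp_trans hp h6
      have h7 := h2 _ (subset_closure h5)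
      rw [s.isom h hh _ (s.zU j) _ (s.wU j), s.z_w_self] at h7
      exact neg_ne h7
    · exact hc p hp h2
  exact ⟨habs' p hp hp1 hpP1.2.2, hpP1.2.2⟩

end Sys

end Cfsg.Agent.Omega.NOThreeL.RTools.Many
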