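import Cfsg.Agent.Omega.NOThreeL.RTools.Many.Frame
import Cfsg.Agent.Omega.NOThreeL.RTools.Many.Sys
import Cfsg.Agent.Omega.NOThreeL.RAOne.Three

/-!
# NO-3L, box R, case (A), `q = 2`, all `k`, symplectic case (#18037, helper850): (4), three groups

`SpK` : the frame `HypK` with the form on `U₁ = Uk H z` (`Sys`, 401): `f_i = B (z i) ·`.
`T = Tk H z w = U₁ ∩ U₁^w`, `X = ⟨U₁, U₁^w⟩`, `Y₁ = Yk = U₁ ∩ C(V)`, `g = gk = u u^w`, `u = LP ω` (all `f_i(u) = 1`).

* `SpK.exists_J` : every subset of `Fin k` is `{i | f_i(u) = 1}` for some `u ∈ U₁`;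
* `SpK.threeG` : the three groups `U₁`, `U₁^w`, `U₁^{uw}` (571's `ThreeG`); `gz` : `z_i^g = n_i`; `gP`, `g_E`;
* `SpK.X_T`, `SpK.T_le`, `SpK.core` (`x ∈ U₁^w`, `x u = u x` implies `x ∈ T`), `SpK.S_T` (`S` normalises `T`),
  `SpK.z_not` (`z_i ∉ T`), `SpK.TI` (`T ∩ Rad = 1`);
* `SpK.comm_mem` : `[Y₁, Y₁^w] ≤ T`; `SpK.rad_comm` : `[Rad, Y₁^w] = 1`; `SpK.comm_perp` : `[Y₁, Y₁^w] ⊥ Y₁`;
  `SpK.perpY` : `Y₁^⊥ = ⟨z_1, …, z_k⟩ Rad`.
-/

set_option autoImplicit false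
set_option linter.unusedSectionVars false

namespace Cfsg.Agent.Omega.NOThreeL.RTools.Many

open Subgroup Cfsg Cfsg.Agent.Omega.MinPar Cfsg.Agent.Omega.NOThreeL.RTools
open Cfsg.Agent.ZN (zc zl o2)
open Cfsg.Agent.Omega.Frame Cfsg.Agent.Omega.FrameNOFF
open Cfsg.Agent.Omega.Node.NO3L Cfsg.Agent.Omega.NOThreeL.Basic
open Cfsg.Agent.Omega.NoFF.Basic (conj_conj mem_conj conj_le_iff conj_le_centralizer comm_symm comm_mono)
open Cfsg.Agent.Omega.NOThreeL.Pair (conj_eq_of_mem conj_le_normalizer zl_abel)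
open Cfsg.Agent.MinSimple.VModule (zl_le zc_le_zl le_normalizer_zl zc_le o2_isPGroup le_normalizer_o2 le_o2
  normalizer_le_normalizer_zc)
open Cfsg.Agent.Omega.NOThreeL (mem_normalizer_of_conj_eq le_normalizer_of mem_sup_of_comm)
open Cfsg.Agent.Omega.NOThreeL.RAOne (ThreeG)
open scoped Pointwise

universe u

variable {G : Type u} [Group G]

/-- The frame with the form on `U₁`. -/
structure SpK [Finite G] (S : Sylow 2 G) (P H : Subgroup G) {k : ℕ} (z n : Fin k → G) (e w : G)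
    (B : G → G → ℤˣ) (ω : Fin k → G) : Prop extends HypK S P H z n e w where
  sys : Sys H (Uk H z) (PPk H z) B z ω
  act : ∀ u ∈ Uk H z, ∀ i, B (z i) u = 1 ↔ n i * u = u * n i

/-- `T = U₁ ∩ U₁^w`. -/
def Tk {k : ℕ} (H : Subgroup G) (z : Fin k → G) (w : G) : Subgroup G := Uk H z ⊓ MulAut.conj w • Uk H z

/-- `g = u u^w`, `u = ω_1 ⋯ ω_k`. -/
def gk {k : ℕ} (ω : Fin k → G) (w : G) : G := LP ω * (w * LP ω * w⁻¹)

/-- `I = C_{U₁}(N)`, the radical of the form -/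
def Ik {k : ℕ} (S P H : Subgroup G) (z : Fin k → G) : Subgroup G := Uk H z ⊓ centralizer (NN S P H : Set G)

/-- `Y₁ = C_{U₁}(V)` -/
def Yk {k : ℕ} (S P H : Subgroup G) (z : Fin k → G) : Subgroup G := Uk H z ⊓ centralizer (zl S P : Set G)

/-- `L = ⟨z_1, …, z_k⟩ I` -/
def Lk {k : ℕ} (S P H : Subgroup G) (z : Fin k → G) : Subgroup G := closure (Set.range z) ⊔ Ik S P H z

namespace SpK

variable [Finite G] {S : Sylow 2 G} {P H : Subgroup G} {k : ℕ} {z n : Fin k → G} {e w : G}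
variable {B : G → G → ℤˣ} {ω : Fin k → G}
variable (D : SpK S P H z n e w B ω)
include D

/-- the action of `u ∈ U₁` on `n_i` -/
theorem act' {u : G} (hu : u ∈ Uk H z) (i : Fin k) :
    (B (z i) u = 1 ∧ u * n i * u⁻¹ = n i) ∨ (B (z i) u = -1 ∧ u * n i * u⁻¹ = z i * n i) := by
  by_cases h : B (z i) u = 1
  · left
    refine ⟨h, ?_⟩
    rw [← (D.act u hu i).mp h, mul_inv_cancel_right]
  · right
    refine ⟨ne_one h, (D.Un u (D.Uk_le hu) i).resolve_left fun h1 => h ?_⟩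
    rw [D.act u hu i]
    rw [mul_inv_eq_iff_eq_mul] at h1
    exact h1.symm

/-- every subset of `Fin k` occurs -/
theorem exists_J (J : Set (Fin k)) : ∃ u ∈ Uk H z, ∀ i, (i ∈ J → u * n i * u⁻¹ = z i * n i) ∧
    (i ∉ J → u * n i * u⁻¹ = n i) := by
  classical
  set f : Fin k → G := fun i => if i ∈ J then ω i else 1 with hf
  have hfU : ∀ i, f i ∈ Uk H z := fun i => by
    rw [hf]
    dsimp only
    split_ifs
    · exact D.sys.wU i
    · exact one_mem _
  have hB : ∀ i, B (z i) (LP f) = if i ∈ J then -1 else 1 := by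
    intro i
    rw [D.sys.B_LP (D.sys.zU i) f hfU, Finset.prod_eq_single i]
    · rw [hf]
      dsimp only
      split_ifs
      · exact D.sys.z_w_self i
      · exact D.sys.toForm0.one_right (D.sys.zU i)
    · intro j _ hj
      rw [hf]
      dsimp only
      split_ifs
      · exact D.sys.z_w hj.symm
      · exact D.sys.toForm0.one_right (D.sys.zU i)
    · intro h; exact absurd (Finset.mem_univ i) h
  refine ⟨LP f, LP_mem hfU, fun i => ⟨fun hi => ?_, fun hi => ?_⟩⟩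
  · rcases D.act' (LP_mem hfU) i with ⟨h, -⟩ | ⟨-, h⟩
    · rw [hB i, if_pos hi] at h
      exact absurd h (by decide)
    · exact h
  · rcases D.act' (LP_mem hfU) i with ⟨-, h⟩ | ⟨h, -⟩
    · exact h
    · rw [hB i, if_neg hi] at h
      exact absurd h (by decide)

theorem uU : LP ω ∈ Uk H z := LP_mem D.sys.wU

theorem B_u (i : Fin k) : B (z i) (LP ω) = -1 := by
  rw [D.sys.B_LP (D.sys.zU i) ω D.sys.wU, Finset.prod_eq_single i]
  · exact D.sys.z_w_self i
  · exact fun j _ hj => D.sys.z_w hj.symm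
  · intro h; exact absurd (Finset.mem_univ i) h

/-- `u` moves all the `n_i` -/
theorem un (i : Fin k) : LP ω * n i * (LP ω)⁻¹ = z i * n i := by
  rcases D.act' D.uU i with ⟨h, -⟩ | ⟨-, h⟩
  · rw [D.B_u i] at h; exact absurd h (by decide)
  · exact h

theorem uz (i : Fin k) : LP ω * z i * (LP ω)⁻¹ = z i := by
  rw [D.Uz _ (D.Uk_le D.uU) i, mul_inv_cancel_right]

theorem UP : Uk H z ≤ P := (D.Uk_le.trans D.US).trans D.SP

theorem PV : P ≤ normalizer (zl (S : Subgroup G) P : Set G) := le_normalizer_zl _ _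

/-- an element of `P` permuting the `z_i` normalises `U₁` -/
theorem norm_of_perm {p : G} (hp : p ∈ P) (h : ∀ i, ∃ j, p * z i * p⁻¹ = z j) : p ∈ normalizer (Uk H z : Set G) :=
  le_normalizer_Uk H z (D.CH ((D.Cz p hp).mpr h))

theorem C_norm : centralizer (zl (S : Subgroup G) P : Set G) ≤ normalizer (Uk H z : Set G) :=
  ((centralizer_le (zc_le_zl (S : Subgroup G) P)).trans D.CH).trans (le_normalizer_Uk H z)

theorem P_normC {p : G} (hp : p ∈ P) : p ∈ normalizer (centralizer (zl (S : Subgroup G) P : Set G) : Set G) := by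
  refine mem_normalizer_of_conj_eq ?_
  rw [Cfsg.Agent.Omega.NOThreeL.ThmT.conj_centralizer_eq (D.PV hp)]

theorem wu_mem : w * LP ω * w⁻¹ ∈ MulAut.conj w • Uk H z := by
  rw [mem_conj]
  have e1 : w⁻¹ * (w * LP ω * w⁻¹) * w = LP ω := by group
  rw [e1]
  exact D.uU

theorem winv_n (i : Fin k) : w⁻¹ * n i * w = z i := by
  rw [← D.wz i]; group

theorem winv_z (i : Fin k) : w⁻¹ * z i * w = n i := by
  rw [← D.wn i]; group

/-- `S` normalises `U₁` -/
theorem S_norm : (S : Subgroup G) ≤ normalizer (Uk H z : Set G) := D.SH.trans (le_normalizer_Uk H z)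

/-- `u^w` on `z_i` -/
theorem vz (i : Fin k) : (w * LP ω * w⁻¹) * z i * (w * LP ω * w⁻¹)⁻¹ = z i * n i := by
  calc (w * LP ω * w⁻¹) * z i * (w * LP ω * w⁻¹)⁻¹ = w * (LP ω * (w⁻¹ * z i * w) * (LP ω)⁻¹) * w⁻¹ := by group
    _ = w * (z i * n i) * w⁻¹ := by rw [D.winv_z i, D.un i]
    _ = (w * z i * w⁻¹) * (w * n i * w⁻¹) := by group
    _ = z i * n i := by rw [D.wz i, D.wn i, D.zn i]

/-- **the three groups** -/
theorem threeG : ThreeG (Uk H z) (MulAut.conj w • Uk H z) (centralizer (zl (S : Subgroup G) P : Set G)) (LP ω)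
    (w * LP ω * w⁻¹) where
  abA x hx y hy := D.Uk_comm hx hy
  abB x hx y hy := by
    rw [mem_conj] at hx hy
    have h1 := D.Uk_comm hx hy
    calc x * y = w * ((w⁻¹ * x * w) * (w⁻¹ * y * w)) * w⁻¹ := by group
      _ = w * ((w⁻¹ * y * w) * (w⁻¹ * x * w)) * w⁻¹ := by rw [h1]
      _ = y * x := by group
  uA := D.uU
  vB := D.wu_mem
  uu := D.Uk_sq D.uU
  vv := by
    have e1 : w * LP ω * w⁻¹ * (w * LP ω * w⁻¹) = w * (LP ω * LP ω) * w⁻¹ := by group
    rw [e1, D.Uk_sq D.uU, mul_one, mul_inv_cancel]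
  swap := by
    have h0 : w⁻¹ * (LP ω)⁻¹ * w * LP ω * w⁻¹ ∈ normalizer (Uk H z : Set G) := by
      have huP : LP ω ∈ P := D.UP D.uU
      refine D.norm_of_perm (mul_mem (mul_mem (mul_mem (mul_mem (inv_mem D.w_mem) (inv_mem huP)) D.w_mem) huP)
        (inv_mem D.w_mem)) fun i => ⟨i, ?_⟩
      have hui : (LP ω)⁻¹ = LP ω := inv_eq_of_mul_eq_one_left (D.Uk_sq D.uU)
      have e3 : ∀ x : G, (LP ω)⁻¹ * x * LP ω = LP ω * x * (LP ω)⁻¹ := fun x => by rw [hui]
      calc w⁻¹ * (LP ω)⁻¹ * w * LP ω * w⁻¹ * z i * (w⁻¹ * (LP ω)⁻¹ * w * LP ω * w⁻¹)⁻¹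
          = w⁻¹ * ((LP ω)⁻¹ * (w * (LP ω * (w⁻¹ * z i * w) * (LP ω)⁻¹) * w⁻¹) * LP ω) * w := by group
        _ = w⁻¹ * ((LP ω)⁻¹ * ((w * z i * w⁻¹) * (w * n i * w⁻¹)) * LP ω) * w := by
            rw [D.winv_z i, D.un i]; group
        _ = w⁻¹ * (LP ω * (n i * z i) * (LP ω)⁻¹) * w := by rw [D.wz i, D.wn i, e3]
        _ = w⁻¹ * ((LP ω * n i * (LP ω)⁻¹) * (LP ω * z i * (LP ω)⁻¹)) * w := by group
        _ = w⁻¹ * (z i * n i * z i) * w := by rw [D.un i, D.uz i]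
        _ = w⁻¹ * (n i * (z i * z i)) * w := by rw [D.zn i]; group
        _ = z i := by rw [D.z_sq i, mul_one, D.winv_n i]
    have h1 := conj_eq_of_mem h0
    calc MulAut.conj (w * LP ω * w⁻¹) • Uk H z
        = MulAut.conj (LP ω * w) • (MulAut.conj (w⁻¹ * (LP ω)⁻¹ * w * LP ω * w⁻¹) • Uk H z) := by
          rw [conj_conj]
          congr 2
          group
      _ = MulAut.conj (LP ω) • (MulAut.conj w • Uk H z) := by rw [h1, conj_conj]
  DA := D.C_norm
  DB := by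
    have h1 := conj_le_normalizer (g := w) D.C_norm
    rwa [conj_eq_of_mem (D.P_normC D.w_mem)] at h1
  uD := D.P_normC (D.UP D.uU)
  vD := mul_mem (mul_mem (D.P_normC D.w_mem) (D.P_normC (D.UP D.uU))) (inv_mem (D.P_normC D.w_mem))

theorem gP : gk ω w ∈ P := mul_mem (D.UP D.uU) (mul_mem (mul_mem D.w_mem (D.UP D.uU)) (inv_mem D.w_mem))

theorem gX : gk ω w ∈ Uk H z ⊔ MulAut.conj w • Uk H z :=
  mul_mem ((le_sup_left : Uk H z ≤ _) D.uU) ((le_sup_right : MulAut.conj w • Uk H z ≤ _) D.wu_mem)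

/-- **`z_i^g = n_i`** -/
theorem gz (i : Fin k) : gk ω w * z i * (gk ω w)⁻¹ = n i := by
  rw [gk]
  calc LP ω * (w * LP ω * w⁻¹) * z i * (LP ω * (w * LP ω * w⁻¹))⁻¹
      = LP ω * ((w * LP ω * w⁻¹) * z i * (w * LP ω * w⁻¹)⁻¹) * (LP ω)⁻¹ := by group
    _ = (LP ω * z i * (LP ω)⁻¹) * (LP ω * n i * (LP ω)⁻¹) := by rw [D.vz i]; group
    _ = z i * (z i * n i) := by rw [D.uz i, D.un i]
    _ = n i := by rw [← mul_assoc, D.z_sq, one_mul]

theorem conj_g : MulAut.conj (gk ω w) • Uk H z = MulAut.conj w • Uk H z := D.threeG.conj_g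

/-- **`X` centralises `T`** -/
theorem X_T : Uk H z ⊔ MulAut.conj w • Uk H z ≤ centralizer (Tk H z w : Set G) := by
  refine sup_le (fun x hx => mem_centralizer_iff.2 fun y hy => ?_)
    (fun x hx => mem_centralizer_iff.2 fun y hy => ?_)
  · exact D.threeG.abA y hy.1 x hx
  · exact D.threeG.abB y hy.2 x hx

theorem X_le : Uk H z ⊔ MulAut.conj w • Uk H z ≤ P := by
  refine sup_le D.UP ?_
  have h1 := conj_le_iff (g := w).2 D.UP
  rwa [conj_eq_of_mem (Subgroup.le_normalizer D.w_mem)] at h1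

/-- `g` centralises `T` -/
theorem g_T {t : G} (ht : t ∈ Tk H z w) : gk ω w * t = t * gk ω w :=
  (mem_centralizer_iff.mp (D.X_T D.gX) t ht).symm

/-- `g` centralises `E` -/
theorem g_E {t : G} (ht : t ∈ centralizer (P : Set G)) : gk ω w * t = t * gk ω w :=
  mem_centralizer_iff.mp ht _ D.gP

theorem n_mem (i : Fin k) : n i ∈ MulAut.conj w • Uk H z := by
  rw [mem_conj, D.winv_n i]
  exact z_mem_Uk H z i

/-- `T ≤ C(V)` -/
theorem T_le : Tk H z w ≤ centralizer (zl (S : Subgroup G) P : Set G) := by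
  intro t ht
  refine D.cent_of (D.Uk_le ht.1) fun i => ?_
  rw [D.threeG.abB t ht.2 _ (D.n_mem i), mul_inv_cancel_right]

theorem nz1 (i : Fin k) : n i ≠ 1 := by
  intro h
  have h1 := D.wz i
  rw [h] at h1
  apply D.z1 i
  have h2 : z i = w⁻¹ * (w * z i * w⁻¹) * w := by group
  rw [h2, h1]; group

/-- `z_i ∉ T` -/
theorem z_not (i : Fin k) : z i ∉ Tk H z w := by
  intro h
  have h1 := D.gz i
  rw [D.g_T h, mul_inv_cancel_right] at h1
  exact D.nz i h1.symm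

/-- **core**: an element of `U₁^w` commuting with `u` is in `T` -/
theorem core {x : G} (hx : x ∈ MulAut.conj w • Uk H z) (hu : LP ω * x = x * LP ω) : x ∈ Tk H z w := by
  -- `x ∈ U₁^w ∩ U₁^{wu} = (U₁^w ∩ U₁)^v`, `v = u^w`
  have h1 : x ∈ MulAut.conj (w * LP ω * w⁻¹) • Uk H z := by
    rw [D.threeG.swap, mem_conj]
    have e1 : (LP ω)⁻¹ * x * LP ω = x := by rw [mul_assoc, ← hu, inv_mul_cancel_left]
    rwa [e1]
  rw [mem_conj] at h1
  have hv := D.wu_mem
  have h2 : (w * LP ω * w⁻¹)⁻¹ * x * (w * LP ω * w⁻¹) = x := by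
    rw [mul_assoc, D.threeG.abB x hx _ hv, inv_mul_cancel_left]
  rw [h2] at h1
  exact ⟨h1, hx⟩

/-- **`S` normalises `T`** -/
theorem S_T : (S : Subgroup G) ≤ normalizer (Tk H z w : Set G) := by
  intro s hs
  refine mem_normalizer_of_conj_eq ?_
  have hsA := conj_eq_of_mem (D.S_norm hs)
  have h0 : MulAut.conj s • Tk H z w = Uk H z ⊓ MulAut.conj (s * w) • Uk H z := by
    rw [Tk, smul_inf, hsA, conj_conj]
  rw [h0]
  -- `s` maps `n_i` to `n_j` or `z_j n_j`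
  obtain ⟨x, hx, hxJ⟩ := D.exists_J {j | ∃ i, s * n i * s⁻¹ = z j * n j}
  have hxP := D.UP hx
  have key : w⁻¹ * (x⁻¹ * s) * w ∈ normalizer (Uk H z : Set G) := by
    refine D.norm_of_perm (mul_mem (mul_mem (inv_mem D.w_mem) (mul_mem (inv_mem hxP) (D.SP hs))) D.w_mem)
      fun i => ?_
    obtain ⟨j, hj⟩ := D.Sz s hs i
    refine ⟨j, ?_⟩
    have e1 : w⁻¹ * (x⁻¹ * s) * w * z i * (w⁻¹ * (x⁻¹ * s) * w)⁻¹
        = w⁻¹ * (x⁻¹ * (s * (w * z i * w⁻¹) * s⁻¹) * x) * w := by group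
    rw [e1, D.wz i]
    have hxn : ∀ y : G, x * n j * x⁻¹ = y → x⁻¹ * y * x = n j := by
      intro y hy; rw [← hy]; group
    rcases D.S_n hs hj with h1 | h1
    · rw [h1]
      have h2 : j ∉ {j | ∃ i, s * n i * s⁻¹ = z j * n j} := by
        rintro ⟨i', hi'⟩
        -- `s n_i' s⁻¹ = z_j n_j` and `s n_i s⁻¹ = n_j`
        have h3 : i' = i := by
          obtain ⟨σ, hσ⟩ := D.perm s (D.SP hs)
          have h4 : σ i' = j := D.disj _ _ _ (hσ i' _ (Or.inr (Or.inl rfl))) (by rw [hi']; exact Or.inr (Or.inr rfl))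
          have h5 : σ i = j := D.disj _ _ _ (hσ i _ (Or.inr (Or.inl rfl))) (by rw [h1]; exact Or.inr (Or.inl rfl))
          exact σ.injective (h4.trans h5.symm)
        rw [h3, h1] at hi'
        exact D.z1 j (mul_eq_right.1 hi'.symm)
      rw [hxn _ ((hxJ j).2 h2), D.winv_n j]
    · rw [h1, hxn _ ((hxJ j).1 ⟨i, h1⟩), D.winv_n j]
  have h1 := conj_eq_of_mem key
  have h3 : MulAut.conj (s * w) • Uk H z = MulAut.conj x • (MulAut.conj w • Uk H z) := by
    calc MulAut.conj (s * w) • Uk H z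
        = MulAut.conj (x * w) • (MulAut.conj (w⁻¹ * (x⁻¹ * s) * w) • Uk H z) := by
          rw [conj_conj]
          congr 2
          group
      _ = MulAut.conj x • (MulAut.conj w • Uk H z) := by rw [h1, conj_conj]
  have h4 := conj_eq_of_mem (Subgroup.le_normalizer hx : x ∈ normalizer (Uk H z : Set G))
  have h5 : MulAut.conj x • Tk H z w = Tk H z w :=
    conj_eq_of_mem (centralizer_le_normalizer _ (D.X_T ((le_sup_left : Uk H z ≤ _) hx)))
  calc Uk H z ⊓ MulAut.conj (s * w) • Uk H z = MulAut.conj x • Tk H z w := by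
        rw [h3, Tk, smul_inf, h4]
    _ = Tk H z w := h5

/-! ### The radical -/

theorem z_conj_mem {h : G} (hh : h ∈ H) (i : Fin k) : h * z i * h⁻¹ ∈ Uk H z := PPk_sub ⟨i, h, hh, rfl⟩

theorem conj_mem {h x : G} (hh : h ∈ H) (hx : x ∈ Uk H z) : h * x * h⁻¹ ∈ Uk H z :=
  conj_mem_of_mem (le_normalizer_Uk H z hh) hx

theorem conj_mem' {h x : G} (hh : h ∈ H) (hx : x ∈ Uk H z) : h⁻¹ * x * h ∈ Uk H z := by
  have h1 := D.conj_mem (inv_mem hh) hx
  rwa [inv_inv] at h1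

/-- `B` and conjugation -/
theorem B_conj {h x y : G} (hh : h ∈ H) (hx : x ∈ Uk H z) (hy : y ∈ Uk H z) :
    B (h * x * h⁻¹) y = B x (h⁻¹ * y * h) := by
  have h1 := D.sys.isom h hh x hx _ (D.conj_mem' hh hy)
  have e1 : h * (h⁻¹ * y * h) * h⁻¹ = y := by group
  rwa [e1] at h1

/-- `I` is the radical -/
theorem rad_iff {x : G} (hx : x ∈ Uk H z) :
    (∀ y ∈ Uk H z, B x y = 1) ↔ x ∈ centralizer (NN (S : Subgroup G) P H : Set G) := by
  constructor
  · intro h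
    refine comm_symm (A := NN (S : Subgroup G) P H) (B := closure {x}) ?_ |>.trans
      (le_refl _) (subset_closure rfl)
    refine NN_le fun m hm v' hv' => ?_
    rw [mem_conj] at hv'
    rw [centralizer_closure, mem_centralizer_iff]
    intro y hy
    rw [Set.mem_singleton_iff.mp hy]
    -- `x' = m⁻¹ x m` centralises `V`
    have hx' := D.conj_mem' hm hx
    have h1 : m⁻¹ * x * m ∈ centralizer (zl (S : Subgroup G) P : Set G) := by
      refine D.cent_of (D.Uk_le hx') fun i => ?_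
      rcases D.act' hx' i with ⟨-, h2⟩ | ⟨h2, -⟩
      · exact h2
      · exfalso
        rw [← D.B_conj hm (D.sys.zU i) hx, D.sys.symm _ (D.z_conj_mem hm i) _ hx, h _ (D.z_conj_mem hm i)] at h2
        exact absurd h2 (by decide)
    have h2 := mem_centralizer_iff.mp h1 _ hv'
    calc x * v' = m * ((m⁻¹ * x * m) * (m⁻¹ * v' * m)) * m⁻¹ := by group
      _ = m * ((m⁻¹ * v' * m) * (m⁻¹ * x * m)) * m⁻¹ := by rw [h2]
      _ = v' * x := by group
  · intro h
    refine D.sys.toForm0.rad_of_pts hx ?_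
    rintro _ ⟨i, m, hm, rfl⟩
    rw [D.sys.symm _ hx _ (D.z_conj_mem hm i), D.B_conj hm (D.sys.zU i) hx, D.act _ (D.conj_mem' hm hx) i]
    have h1 : m * n i * m⁻¹ ∈ NN (S : Subgroup G) P H := by
      refine conj_le_NN hm ?_
      rw [mem_conj]
      have e1 : m⁻¹ * (m * n i * m⁻¹) * m = n i := by group
      rw [e1]
      exact D.nV i
    have h2 := mem_centralizer_iff.mp h _ h1
    calc n i * (m⁻¹ * x * m) = m⁻¹ * ((m * n i * m⁻¹) * x) * m := by group
      _ = m⁻¹ * (x * (m * n i * m⁻¹)) * m := by rw [h2]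
      _ = (m⁻¹ * x * m) * n i := by group

theorem mem_Ik {x : G} : x ∈ Ik (S : Subgroup G) P H z ↔ x ∈ Uk H z ∧ ∀ y ∈ Uk H z, B x y = 1 := by
  constructor
  · intro h
    exact ⟨(mem_inf.mp h).1, (D.rad_iff (mem_inf.mp h).1).mpr (mem_inf.mp h).2⟩
  · rintro ⟨h1, h2⟩
    exact mem_inf.mpr ⟨h1, (D.rad_iff h1).mp h2⟩

theorem mem_Yk {x : G} : x ∈ Yk (S : Subgroup G) P H z ↔ x ∈ Uk H z ∧ ∀ i, B (z i) x = 1 := by
  constructor
  · intro h
    refine ⟨(mem_inf.mp h).1, fun i => ?_⟩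
    rw [D.act _ (mem_inf.mp h).1 i]
    exact mem_centralizer_iff.mp (mem_inf.mp h).2 _ (D.nV i)
  · rintro ⟨h1, h2⟩
    refine mem_inf.mpr ⟨h1, D.cent_of (D.Uk_le h1) fun i => ?_⟩
    rw [← (D.act x h1 i).mp (h2 i), mul_inv_cancel_right]

theorem H_norm_Ik : H ≤ normalizer (Ik (S : Subgroup G) P H z : Set G) := by
  refine le_normalizer_of fun h hh x hx => ?_
  obtain ⟨h1, h2⟩ := (D.mem_Ik).mp hx
  refine (D.mem_Ik).mpr ⟨D.conj_mem hh h1, fun y hy => ?_⟩
  rw [D.B_conj hh h1 hy, h2 _ (D.conj_mem' hh hy)]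

theorem Ik_le_Yk : Ik (S : Subgroup G) P H z ≤ Yk (S : Subgroup G) P H z :=
  inf_le_inf le_rfl (centralizer_le (le_NN (S : Subgroup G) P H))

/-- `[z_i]` are in `Y₁` -/
theorem z_mem_Yk (i : Fin k) : z i ∈ Yk (S : Subgroup G) P H z :=
  (D.mem_Yk).mpr ⟨z_mem_Uk H z i, fun j => D.sys.zz j i⟩

theorem T_le_Yk : Tk H z w ≤ Yk (S : Subgroup G) P H z := le_inf inf_le_left D.T_le

/-- `e` is not central in `H` -/
theorem e_not : ¬ H ≤ centralizer ({e} : Set G) := by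
  intro h
  obtain ⟨i, -⟩ := D.exists_i
  have he : LP z = e := D.eprod.symm
  have h1 := D.sys.w_e i
  rw [he] at h1
  have h2 : e ∈ centralizer (NN (S : Subgroup G) P H : Set G) := by
    rw [mem_centralizer_iff]
    intro m hm
    exact (mem_centralizer_iff.mp (h (D.NN_le_H hm)) e rfl).symm
  have h3 := (D.rad_iff D.e_mem).mpr h2 _ (D.sys.wU i)
  rw [D.sys.symm _ (D.sys.wU i) _ D.e_mem, h3] at h1
  exact absurd h1 (by decide)

/-- an element of `Z` centralised by `g` is in `E` -/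
theorem mem_E {t : G} (ht : t ∈ zc (S : Subgroup G)) (hg : gk ω w * t = t * gk ω w) :
    t ∈ centralizer (P : Set G) := by
  rcases D.Zor t ht with h | h
  · exact h
  · exfalso
    have hge : gk ω w * e = e * gk ω w := by
      have h1 := D.g_E h
      have h2 : e = (e * t) * t := by
        have h3 : t * t = 1 := D.sqU (HypK.ZU ht)
        rw [mul_assoc, h3, mul_one]
      calc gk ω w * e = (gk ω w * (e * t)) * t := by rw [mul_assoc, ← h2]
        _ = (e * t) * (gk ω w * t) := by rw [h1]; group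
        _ = (e * t) * t * gk ω w := by rw [hg]; group
        _ = e * gk ω w := by rw [← h2]
    have hgC : gk ω w ∈ CZ (S : Subgroup G) := by
      refine mem_centralizer_iff.mpr fun y hy => ?_
      rcases D.Zor y hy with h3 | h3
      · exact (D.g_E h3).symm
      · have h4 := D.g_E h3
        have h5 : y = e * (e * y) := by rw [← mul_assoc, D.e_sq, one_mul]
        calc y * gk ω w = e * ((e * y) * gk ω w) := by rw [← mul_assoc e (e * y), ← h5]
          _ = (e * gk ω w) * (e * y) := by rw [← h4]; group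
          _ = gk ω w * (e * (e * y)) := by rw [← hge]; group
          _ = gk ω w * y := by rw [← h5]
    obtain ⟨i, -⟩ := D.exists_i
    obtain ⟨j, hj⟩ := (D.Cz _ D.gP).mp hgC i
    rw [D.gz i] at hj
    have h6 : i = j := D.disj _ _ (n i) (Or.inr (Or.inl rfl)) (Or.inl hj)
    rw [← h6] at hj
    exact D.nz i hj

/-- **`T ∩ I = 1`** -/
theorem TI : Tk H z w ⊓ Ik (S : Subgroup G) P H z = ⊥ := by
  by_contra hne
  have hS : (S : Subgroup G) ≤ normalizer ((Tk H z w ⊓ Ik (S : Subgroup G) P H z : Subgroup G) : Set G) := by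
    refine le_normalizer_of fun s hs x hx => mem_inf.mpr ⟨?_, ?_⟩
    · exact conj_mem_of_mem (D.S_T hs) (mem_inf.mp hx).1
    · exact conj_mem_of_mem (D.H_norm_Ik (D.SH hs)) (mem_inf.mp hx).2
  obtain ⟨t, ht, htZ, ht1⟩ := Cfsg.Agent.MinSimple.CaseD8.exists_mem_zc S.isPGroup'
    ((inf_le_left.trans inf_le_left).trans (D.Uk_le.trans D.US)) hS hne
  have ht' := mem_inf.mp ht
  exact ht1 (D.not_cent htZ (D.mem_E htZ (D.g_T ht'.1)) (mem_inf.mp ht'.2).2)

/-! ### (4) -/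

/-- `Y₁^w = U₁^w ∩ C(V)`; `Y₁^g = Y₁^w` -/
theorem mem_Yw {y : G} (hy : y ∈ Yk (S : Subgroup G) P H z) :
    gk ω w * y * (gk ω w)⁻¹ ∈ MulAut.conj w • Uk H z ⊓ centralizer (zl (S : Subgroup G) P : Set G) :=
  D.threeG.mem_BD hy

theorem C_le_H : centralizer (zl (S : Subgroup G) P : Set G) ≤ H :=
  (centralizer_le (zc_le_zl (S : Subgroup G) P)).trans D.CH

/-- **`[Y₁, Y₁^w] ≤ T`** -/
theorem comm_T {y y' : G} (hy : y ∈ Yk (S : Subgroup G) P H z)
    (hy' : y' ∈ MulAut.conj w • Uk H z ⊓ centralizer (zl (S : Subgroup G) P : Set G)) : cm y' y ∈ Tk H z w := by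
  have h1 := D.threeG.comm_mem_T hy hy'
  have h2 : cm y' y = (y * y' * y⁻¹ * y'⁻¹)⁻¹ := by rw [cm_def]; group
  rw [h2]
  exact inv_mem h1

/-- **`[I, Y₁^w] = 1`** -/
theorem rad_comm {x y' : G} (hx : x ∈ Ik (S : Subgroup G) P H z)
    (hy' : y' ∈ MulAut.conj w • Uk H z ⊓ centralizer (zl (S : Subgroup G) P : Set G)) : y' * x = x * y' := by
  have h1 := D.comm_T (D.Ik_le_Yk hx) hy'
  have h2 : cm y' x ∈ Ik (S : Subgroup G) P H z := by
    rw [cm_def]
    exact mul_mem (conj_mem_of_mem (D.H_norm_Ik (D.C_le_H (mem_inf.mp hy').2)) hx) (inv_mem hx)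
  have h3 : cm y' x ∈ (⊥ : Subgroup G) := by rw [← D.TI]; exact mem_inf.mpr ⟨h1, h2⟩
  rw [mem_bot, cm_def, mul_inv_eq_one, mul_inv_eq_iff_eq_mul] at h3
  exact h3

/-- `[U₁, Y₁^w] ⊥ T` -/
theorem perp_T {u y' t : G} (hu : u ∈ Uk H z)
    (hy' : y' ∈ MulAut.conj w • Uk H z ⊓ centralizer (zl (S : Subgroup G) P : Set G)) (ht : t ∈ Tk H z w) :
    B (cm y' u) t = 1 := by
  have hyH := D.C_le_H (mem_inf.mp hy').2
  have h1 : cm y' u ∈ Uk H z := by
    rw [cm_def]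
    exact mul_mem (D.conj_mem hyH hu) (inv_mem hu)
  have h2 : y' * t * y'⁻¹ = t := by
    rw [D.threeG.abB y' (mem_inf.mp hy').1 t ht.2, mul_inv_cancel_right]
  have h3 := D.sys.isom y' hyH u hu t ht.1
  rw [h2, ← cm_mul y' u, D.sys.toForm0.mul_left h1 hu ht.1] at h3
  exact mul_eq_right.mp h3

/-- **`Y₁ ≤ [u, Y₁^w] T`** -/
theorem split {x : G} (hx : x ∈ Yk (S : Subgroup G) P H z) :
    ∃ t ∈ Tk H z w, x = cm (gk ω w * x * (gk ω w)⁻¹) (LP ω) * t := by
  refine ⟨_, D.threeG.third hx, ?_⟩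
  rw [cm_def]
  change x = gk ω w * x * (gk ω w)⁻¹ * LP ω * (gk ω w * x * (gk ω w)⁻¹)⁻¹ * (LP ω)⁻¹ *
    (LP ω * (gk ω w * x * (gk ω w)⁻¹) * (LP ω)⁻¹ * (gk ω w * x * (gk ω w)⁻¹)⁻¹ * x)
  group

/-- **`[Y₁, Y₁^w] ⊥ Y₁`** -/
theorem comm_perp {x y y' : G} (hy : y ∈ Yk (S : Subgroup G) P H z)
    (hy' : y' ∈ MulAut.conj w • Uk H z ⊓ centralizer (zl (S : Subgroup G) P : Set G))
    (hx : x ∈ Yk (S : Subgroup G) P H z) : B (cm y' y) x = 1 := by
  have hc := D.comm_T hy hy'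
  obtain ⟨t, ht, h1⟩ := D.split hx
  have hxw := D.mem_Yw hx
  have h2 : cm (gk ω w * x * (gk ω w)⁻¹) (LP ω) ∈ Uk H z := by
    rw [cm_def]
    exact mul_mem (D.conj_mem (D.C_le_H (mem_inf.mp hxw).2) D.uU) (inv_mem D.uU)
  rw [h1, D.sys.mul _ hc.1 _ h2 _ ht.1, D.perp_T (mem_inf.mp hy).1 hy' ht,
    D.sys.symm _ hc.1 _ h2, D.perp_T D.uU hxw hc, mul_one]

/-- **`Y₁^⊥ = ⟨z_1, …, z_k⟩ I`** -/
theorem perpY {c : G} (hc : c ∈ Uk H z) (h : ∀ x ∈ Yk (S : Subgroup G) P H z, B c x = 1) :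
    c ∈ Lk (S : Subgroup G) P H z := by
  classical
  set f : Fin k → G := fun i => if B c (ω i) = -1 then z i else 1 with hf
  have hfU : ∀ i, f i ∈ Uk H z := fun i => by
    rw [hf]
    dsimp only
    split_ifs
    · exact D.sys.zU i
    · exact one_mem _
  have hfz : LP f ∈ closure (Set.range z) := LP_mem fun i => by
    rw [hf]
    dsimp only
    split_ifs
    · exact subset_closure ⟨i, rfl⟩
    · exact one_mem _
  have hLU : LP f ∈ Uk H z := LP_mem hfU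
  have hr : LP f * c ∈ Ik (S : Subgroup G) P H z := by
    refine (D.mem_Ik).mpr ⟨mul_mem hLU hc, fun x hx => ?_⟩
    have hw : ∀ j, B (LP f * c) (ω j) = 1 := by
      intro j
      rw [D.sys.toForm0.mul_left hLU hc (D.sys.wU j), D.sys.symm _ hLU _ (D.sys.wU j),
        D.sys.B_LP (D.sys.wU j) f hfU, Finset.prod_eq_single j]
      · rw [hf]
        dsimp only
        split_ifs with h1
        · rw [D.sys.wz j, h1]; decide
        · rw [D.sys.toForm0.one_right (D.sys.wU j), ne_neg h1]; decide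
      · intro i _ hi
        rw [hf]
        dsimp only
        split_ifs
        · rw [D.sys.symm _ (D.sys.wU j) _ (D.sys.zU i)]; exact D.sys.z_w hi
        · exact D.sys.toForm0.one_right (D.sys.wU j)
      · intro h1; exact absurd (Finset.mem_univ j) h1
    refine D.sys.ind (P := fun x => x ∈ Uk H z → B (LP f * c) x = 1) ?_ ?_ hx hx
    · intro x hx h1 _
      have hxY : x ∈ Yk (S : Subgroup G) P H z := (D.mem_Yk).mpr ⟨hx, h1⟩
      have h2 : B (LP f) x = 1 := by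
        have h3 : LP f ∈ Uk H z ∧ B x (LP f) = 1 :=
          D.sys.toForm0.eq_one_of_closure (A := Set.range z) (by rintro _ ⟨i, rfl⟩; exact D.sys.zU i) hx
            (by rintro _ ⟨i, rfl⟩; rw [D.sys.symm _ hx _ (D.sys.zU i)]; exact h1 i) hfz
        rw [D.sys.symm _ hLU _ hx]; exact h3.2
      rw [D.sys.toForm0.mul_left hLU hc hx, h2, h x hxY, one_mul]
    · intro x hx j h1 _
      have h2 := h1 (mul_mem hx (D.sys.wU j))
      rwa [D.sys.mul _ (mul_mem hLU hc) _ hx _ (D.sys.wU j), hw j, mul_one] at h2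
  have h1 : c = LP f * (LP f * c) := by rw [← mul_assoc, D.Uk_sq hLU, one_mul]
  rw [h1]
  exact mul_mem ((le_sup_left : closure (Set.range z) ≤ _) hfz) ((le_sup_right : Ik (S : Subgroup G) P H z ≤ _) hr)

/-- **`[Y₁, Y₁^w] ≤ L`** -/
theorem comm_L {y y' : G} (hy : y ∈ Yk (S : Subgroup G) P H z)
    (hy' : y' ∈ MulAut.conj w • Uk H z ⊓ centralizer (zl (S : Subgroup G) P : Set G)) :
    cm y' y ∈ Lk (S : Subgroup G) P H z :=
  D.perpY (D.comm_T hy hy').1 fun _ hx => D.comm_perp hy hy' hx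

end SpK

end Cfsg.Agent.Omega.NOThreeL.RTools.Many
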