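import Cfsg.Agent.Omega.NOThreeL.RTools.Many.Hyp
import Cfsg.Agent.Omega.NOThreeL.RTools.FrameA

/-!
# NO-3L, box R, case (A), `q = 2`, all `k` (#18037, helper850): the frame facts (0)

`V = V_P = zl S P`, `U = U_H = zl S H`, `U₁ = Uk H z = ⟨z_i^H⟩`, `N = NN S P H = ⟨V^H⟩`, `E = C_Z(P)`.

* `VU` : `[V, U] ≤ ⟨z_1, …, z_k⟩`; `zU`; `exists_f` : every `a_i` is induced by `U₁`;
* `le_sup` (0)(a) : `H = N C`; `exists_nc`; `mem_eH_iff` : `e^H = e^N`;
* `not_cent` (0)(b) : no `1 ≠ z ∈ E` is centralised by `N`;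
* `exists_mulE` (0)(c) : `U = U₁ E`; `cm_mem` : `H` centralises `U/U₁`; `cent_U` : `C_H(U₁) = C_H(U)`;
* `triv` (0)(d); `V_le_o2` (0)(e) : `V ≤ O₂(C_H(x))` for `x ∈ Z - C(H)`; `Wl S H x` : the product of the lines in `H`
  on `x`; `Wl_cent` : `V^k`, `k ∈ C_H(x)`, centralises it; `exists_ne` : `x^H ∩ W ≠ {x}`.
-/

set_option autoImplicit false
set_option linter.unusedSectionVars false

namespace Cfsg.Agent.Omega.NOThreeL.RTools.Many

open Subgroup Cfsg Cfsg.Agent.Omega.MinPar Cfsg.Agent.Omega.NOThreeL.RTools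
open Cfsg.Agent.ZN (zc zl o2)
open Cfsg.Agent.Omega.Frame Cfsg.Agent.Omega.FrameNOFF
open Cfsg.Agent.Omega.Node.NO3L Cfsg.Agent.Omega.NOThreeL.Basic
open Cfsg.Agent.Omega.NoFF.Basic (conj_conj mem_conj conj_le_iff conj_le_centralizer comm_symm comm_mono)
open Cfsg.Agent.Omega.NOThreeL.Pair (conj_eq_of_mem conj_le_normalizer zl_abel)
open Cfsg.Agent.MinSimple.VModule (zl_le zc_le_zl le_normalizer_zl zc_le o2_isPGroup le_normalizer_o2 le_o2
  normalizer_le_normalizer_zc)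
open Cfsg.Agent.Omega.NOThreeL (mem_normalizer_of_conj_eq le_normalizer_of mem_sup_of_comm)
open scoped Pointwise

universe u

variable {G : Type u} [Group G]

theorem PPk_conj {k : ℕ} {z : Fin k → G} {H : Subgroup G} {h p : G} (hh : h ∈ H) (hp : p ∈ PPk H z) :
    h * p * h⁻¹ ∈ PPk H z := by
  obtain ⟨i, m, hm, rfl⟩ := hp
  exact ⟨i, h * m, mul_mem hh hm, by group⟩

theorem le_normalizer_Uk {k : ℕ} (H : Subgroup G) (z : Fin k → G) : H ≤ normalizer (Uk H z : Set G) := by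
  refine le_normalizer_of fun h hh x hx => ?_
  refine closure_induction (p := fun x _ => h * x * h⁻¹ ∈ Uk H z) ?_ ?_ ?_ ?_ hx
  · exact fun x hx => subset_closure (PPk_conj hh hx)
  · rw [mul_one, mul_inv_cancel]; exact one_mem _
  · intro x y _ _ h1 h2
    have e1 : h * (x * y) * h⁻¹ = (h * x * h⁻¹) * (h * y * h⁻¹) := by group
    rw [e1]
    exact mul_mem h1 h2
  · intro x _ h1
    have e1 : h * x⁻¹ * h⁻¹ = (h * x * h⁻¹)⁻¹ := by group
    rw [e1]
    exact inv_mem h1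

theorem PPk_sub {k : ℕ} {z : Fin k → G} {H : Subgroup G} {p : G} (hp : p ∈ PPk H z) : p ∈ Uk H z :=
  subset_closure hp

theorem z_mem_Uk {k : ℕ} (H : Subgroup G) (z : Fin k → G) (i : Fin k) : z i ∈ Uk H z :=
  PPk_sub ⟨i, 1, one_mem _, by group⟩

theorem range_le_Uk {k : ℕ} (H : Subgroup G) (z : Fin k → G) : closure (Set.range z) ≤ Uk H z := by
  rw [closure_le]
  rintro _ ⟨i, rfl⟩
  exact z_mem_Uk H z i

theorem norm_inf_cent {H A : Subgroup G} (hA : H ≤ normalizer (A : Set G)) :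
    H ≤ normalizer ((H ⊓ centralizer (A : Set G) : Subgroup G) : Set G) := by
  refine le_normalizer_of fun h hh x hx => mem_inf.mpr ⟨mul_mem (mul_mem hh (mem_inf.mp hx).1) (inv_mem hh), ?_⟩
  rw [mem_centralizer_iff]
  intro y hy
  have hy' : h⁻¹ * y * h ∈ A := by
    have h1 := conj_mem_of_mem (hA (inv_mem hh)) hy
    rwa [inv_inv] at h1
  have h1 := mem_centralizer_iff.mp (mem_inf.mp hx).2 _ hy'
  calc y * (h * x * h⁻¹) = h * ((h⁻¹ * y * h) * x) * h⁻¹ := by group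
    _ = h * (x * (h⁻¹ * y * h)) * h⁻¹ := by rw [h1]
    _ = h * x * h⁻¹ * y := by group

theorem cm_mul_left (x y f : G) : cm (x * y) f = (x * cm y f * x⁻¹) * cm x f := by simp only [cm_def]; group

theorem zcomm {S : Subgroup G} {z s : G} (hz : z ∈ zc S) (hs : s ∈ S) : s * z = z * s :=
  (Cfsg.Agent.MinSimple.VModule.mem_zc.1 hz).2.1 s hs

theorem C_cent {S : Subgroup G} {z c : G} (hz : z ∈ zc S) (hc : c ∈ CZ S) : c * z * c⁻¹ = z := by
  rw [← mem_centralizer_iff.mp hc z hz, mul_inv_cancel_right]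

theorem line_le_Wl {S H : Subgroup G} {e : G} {P₁ : Subgroup G} (h1 : IsParS S P₁) (h2 : P₁ ≤ H) {k : G}
    (hk : k ∈ H ⊓ centralizer ({e} : Set G)) : MulAut.conj k • zl S P₁ ≤ Wl S H e :=
  NoFF.Lines.line_le (Z := zc S) (C := H ⊓ centralizer ({e} : Set G)) (F := {P | IsParS S P ∧ P ≤ H}) ⟨h1, h2⟩ hk

theorem Wl_le {S H : Subgroup G} {e : G} {A : Subgroup G} (h : ∀ P₁, IsParS S P₁ → P₁ ≤ H →
    ∀ k ∈ H ⊓ centralizer ({e} : Set G), MulAut.conj k • zl S P₁ ≤ A) :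
    Wl S H e ≤ A := NoFF.Lines.W_le fun P hP c hc => h P hP.1 hP.2 c hc

theorem K_norm_Wl {S H : Subgroup G} {e : G} : H ⊓ centralizer ({e} : Set G) ≤ normalizer (Wl S H e : Set G) :=
  NoFF.Lines.C_le_normalizer_W

namespace HypK

variable [Finite G] {S : Sylow 2 G} {P H : Subgroup G} {k : ℕ} {z n : Fin k → G} {e w : G}
variable (D : HypK S P H z n e w)
include D

theorem commV {x y : G} (hx : x ∈ zl (S : Subgroup G) P) (hy : y ∈ zl (S : Subgroup G) P) : x * y = y * x :=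
  mem_centralizer_iff.mp ((zl_abel D.hc S D.par.isLoc).1 hy) x hx

theorem sqV {x : G} (hx : x ∈ zl (S : Subgroup G) P) : x * x = 1 := by
  have h := (zl_abel D.hc S D.par.isLoc).2 x hx
  rwa [pow_two] at h

theorem commU {x y : G} (hx : x ∈ zl (S : Subgroup G) H) (hy : y ∈ zl (S : Subgroup G) H) : x * y = y * x :=
  mem_centralizer_iff.mp ((zl_abel D.hc S D.long.loc).1 hy) x hx

theorem sqU {x : G} (hx : x ∈ zl (S : Subgroup G) H) : x * x = 1 := by
  have h := (zl_abel D.hc S D.long.loc).2 x hx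
  rwa [pow_two] at h

theorem SH : (S : Subgroup G) ≤ H := D.long.loc.le

theorem SP : (S : Subgroup G) ≤ P := D.par.le

theorem VS : zl (S : Subgroup G) P ≤ (S : Subgroup G) := IsParS.zl_le_S D.hc D.par

theorem US : zl (S : Subgroup G) H ≤ (S : Subgroup G) := IsLong.zl_le_S D.hc D.long

theorem CH : CZ (S : Subgroup G) ≤ H := D.long.cz

omit [Finite G] D in
theorem ZU {S H : Subgroup G} : zc S ≤ zl S H := zc_le_zl _ _

theorem VH : zl (S : Subgroup G) P ≤ H := D.VS.trans D.SH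

theorem zn (i : Fin k) : z i * n i = n i * z i := D.commV (D.zV i) (D.nV i)

theorem z_sq (i : Fin k) : z i * z i = 1 := D.sqV (D.zV i)

theorem n_sq (i : Fin k) : n i * n i = 1 := D.sqV (D.nV i)

/-- a commutator of `n_i` with `u ∈ U` -/
theorem cm_n {u : G} (hu : u ∈ zl (S : Subgroup G) H) (i : Fin k) : cm (n i) u = 1 ∨ cm (n i) u = z i := by
  have h0 : cm (n i) u = n i * (u * n i * u⁻¹)⁻¹ := by rw [cm_def]; group
  rcases D.Un u hu i with h | h
  · left
    rw [h0, h, mul_inv_cancel]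
  · right
    rw [h0, h, mul_inv_rev, ← mul_assoc, mul_inv_cancel, one_mul]
    exact inv_eq_of_mul_eq_one_left (D.z_sq i)

theorem range_le_V : closure (Set.range z) ≤ zl (S : Subgroup G) P := by
  rw [closure_le]
  rintro _ ⟨i, rfl⟩
  exact D.zV i

theorem V0_le_V : closure (Set.range z ∪ Set.range n) ≤ zl (S : Subgroup G) P := by
  rw [closure_le]
  rintro _ (⟨i, rfl⟩ | ⟨i, rfl⟩)
  · exact D.zV i
  · exact D.nV i

/-- **`[V, U] ≤ ⟨z_1, …, z_k⟩`** -/
theorem VU {v f : G} (hv : v ∈ zl (S : Subgroup G) P) (hf : f ∈ zl (S : Subgroup G) H) :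
    cm v f ∈ closure (Set.range z) := by
  obtain ⟨x, hx, ε, hε, rfl⟩ := D.cov v hv
  have h1 : f * ε = ε * f := zcomm (mem_inf.mp hε).1 (D.US hf)
  have h3 : cm (x * ε) f = cm x f := by
    rw [cm_def, cm_def, mul_inv_rev]
    calc x * ε * f * (ε⁻¹ * x⁻¹) * f⁻¹ = x * (ε * f) * ε⁻¹ * x⁻¹ * f⁻¹ := by group
      _ = x * f * x⁻¹ * f⁻¹ := by rw [← h1]; group
  rw [h3]
  have hmul : ∀ x y : G, x ∈ closure (Set.range z ∪ Set.range n) → cm x f ∈ closure (Set.range z) →
      cm y f ∈ closure (Set.range z) → cm (x * y) f ∈ closure (Set.range z) := by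
    intro x y hx h4 h5
    rw [cm_mul_left]
    have h6 : x * cm y f * x⁻¹ = cm y f := by
      rw [D.commV (D.V0_le_V hx) (D.range_le_V h5), mul_inv_cancel_right]
    rw [h6]
    exact mul_mem h5 h4
  refine closure_induction (p := fun x _ => cm x f ∈ closure (Set.range z)) ?_ ?_ ?_ ?_ hx
  · rintro _ (⟨i, rfl⟩ | ⟨i, rfl⟩)
    · have h4 : cm (z i) f = 1 := by rw [cm_def, ← D.Uz f hf i]; group
      rw [h4]; exact one_mem _
    · rcases D.cm_n hf i with h4 | h4
      · rw [h4]; exact one_mem _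
      · rw [h4]; exact subset_closure ⟨i, rfl⟩
  · have h4 : cm (1 : G) f = 1 := by rw [cm_def]; group
    rw [h4]; exact one_mem _
  · intro x y hx _ h4 h5
    exact hmul x y hx h4 h5
  · intro x hx h4
    have h5 : cm x⁻¹ f = x⁻¹ * (cm x f)⁻¹ * x⁻¹⁻¹ := by simp only [cm_def]; group
    rw [h5, D.commV (D.V0_le_V (inv_mem hx)) (D.range_le_V (inv_mem h4)), mul_inv_cancel_right]
    exact inv_mem h4

/-- an element of `U` centralising the `n_i` centralises `V` -/
theorem cent_of {f : G} (hf : f ∈ zl (S : Subgroup G) H) (h : ∀ i, f * n i * f⁻¹ = n i) :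
    f ∈ centralizer (zl (S : Subgroup G) P : Set G) := by
  have h0 : closure (Set.range z ∪ Set.range n) ≤ centralizer ({f} : Set G) := by
    rw [closure_le]
    rintro _ (⟨i, rfl⟩ | ⟨i, rfl⟩)
    · refine mem_centralizer_iff.mpr fun y hy => ?_
      rw [Set.mem_singleton_iff.mp hy]
      exact D.Uz f hf i
    · refine mem_centralizer_iff.mpr fun y hy => ?_
      rw [Set.mem_singleton_iff.mp hy]
      have h1 := h i
      rwa [mul_inv_eq_iff_eq_mul] at h1
  rw [mem_centralizer_iff]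
  intro v hv
  obtain ⟨x, hx, ε, hε, rfl⟩ := D.cov v hv
  have h1 : f * ε = ε * f := zcomm (mem_inf.mp hε).1 (D.US hf)
  have h2 : f * x = x * f := mem_centralizer_iff.mp (h0 hx) f rfl
  calc x * ε * f = x * (ε * f) := by group
    _ = (x * f) * ε := by rw [← h1]; group
    _ = f * (x * ε) := by rw [← h2]; group

/-- `U` moves some `n_i` -/
theorem exists_i : ∃ i, ∃ f ∈ zl (S : Subgroup G) H, f * n i * f⁻¹ = z i * n i := by
  by_contra hcon
  push Not at hcon
  apply D.ne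
  intro v hv
  rw [mem_centralizer_iff]
  intro f hf
  have h1 := D.cent_of hf (fun i => (D.Un f hf i).resolve_right (hcon i f hf))
  exact (mem_centralizer_iff.mp h1 v hv).symm

/-- `z_i ∈ U` -/
theorem zU (i : Fin k) : z i ∈ zl (S : Subgroup G) H := by
  obtain ⟨j, f, hf, h1⟩ := D.exists_i
  have h2 : z j ∈ zl (S : Subgroup G) H := by
    have h3 : z j = f * (n j * f⁻¹ * (n j)⁻¹) := by
      calc z j = (z j * n j) * (n j)⁻¹ := by group
        _ = f * (n j * f⁻¹ * (n j)⁻¹) := by rw [← h1]; group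
    rw [h3]
    exact mul_mem hf (conj_mem_of_mem (le_normalizer_zl (S : Subgroup G) H (D.VH (D.nV j))) (inv_mem hf))
  obtain ⟨s, hs, h3⟩ := D.Str j i
  rw [← h3]
  exact conj_mem_of_mem (le_normalizer_zl (S : Subgroup G) H (D.SH hs)) h2

/-- `S` permutes the `N_i` -/
theorem S_n {s : G} (hs : s ∈ (S : Subgroup G)) {i j : Fin k} (h : s * z i * s⁻¹ = z j) :
    s * n i * s⁻¹ = n j ∨ s * n i * s⁻¹ = z j * n j := by
  obtain ⟨σ, hσ⟩ := D.perm s (D.SP hs)
  have h1 : z j ∈ Nn z n (σ i) := by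
    rw [← h]; exact hσ i _ (Or.inl rfl)
  have h2 : σ i = j := D.disj _ _ _ h1 (Or.inl rfl)
  have h3 := hσ i (n i) (Or.inr (Or.inl rfl))
  rw [h2] at h3
  rcases h3 with h3 | h3 | h3
  · exfalso
    apply D.nz i
    rw [← h] at h3
    have h4 := congrArg (fun x => s⁻¹ * x * s) h3
    simpa [mul_assoc] using h4
  · exact Or.inl h3
  · exact Or.inr h3

/-- every `n_i` is moved by some `f ∈ U` -/
theorem exists_fU (i : Fin k) : ∃ f ∈ zl (S : Subgroup G) H, f * n i * f⁻¹ = z i * n i := by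
  obtain ⟨j, f, hf, h1⟩ := D.exists_i
  obtain ⟨s, hs, h3⟩ := D.Str j i
  refine ⟨s * f * s⁻¹, conj_mem_of_mem (le_normalizer_zl (S : Subgroup G) H (D.SH hs)) hf, ?_⟩
  rcases D.S_n hs h3 with h4 | h4
  · rw [← h4, ← h3]
    calc s * f * s⁻¹ * (s * n j * s⁻¹) * (s * f * s⁻¹)⁻¹ = s * (f * n j * f⁻¹) * s⁻¹ := by group
      _ = s * z j * s⁻¹ * (s * n j * s⁻¹) := by rw [h1]; group
  · -- `s n_j s⁻¹ = z_i n_i`
    have h5 : n i = z i * (s * n j * s⁻¹) := by rw [h4, ← mul_assoc, D.z_sq, one_mul]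
    have h6 : (s * f * s⁻¹) * z i * (s * f * s⁻¹)⁻¹ = z i := by
      rw [← h3]
      calc s * f * s⁻¹ * (s * z j * s⁻¹) * (s * f * s⁻¹)⁻¹ = s * (f * z j * f⁻¹) * s⁻¹ := by group
        _ = s * z j * s⁻¹ := by rw [D.Uz f hf j]; group
    calc s * f * s⁻¹ * n i * (s * f * s⁻¹)⁻¹
        = (s * f * s⁻¹) * z i * (s * f * s⁻¹)⁻¹ * (s * (f * n j * f⁻¹) * s⁻¹) := by rw [h5]; group
      _ = z i * (s * (z j * n j) * s⁻¹) := by rw [h6, h1]
      _ = z i * (s * z j * s⁻¹ * (s * n j * s⁻¹)) := by group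
      _ = z i * (z i * (z i * n i)) := by rw [h3, h4]
      _ = z i * n i := by rw [← mul_assoc (z i) (z i), D.z_sq, one_mul]

/-! ### (0)(a) -/

theorem NN_le_H : NN (S : Subgroup G) P H ≤ H := NN_le fun x hx => by
  have h1 := conj_le_iff (g := x).2 D.VH
  rwa [conj_eq_of_mem (Subgroup.le_normalizer hx)] at h1

theorem C_norm_NN : CZ (S : Subgroup G) ≤ normalizer (NN (S : Subgroup G) P H : Set G) :=
  D.CH.trans (le_normalizer_NN _ _ _)

/-- **(0)(a)** `H = N C` -/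
theorem le_sup : H ≤ NN (S : Subgroup G) P H ⊔ CZ (S : Subgroup G) := by
  by_contra hcon
  set H₁ := NN (S : Subgroup G) P H ⊔ CZ (S : Subgroup G) with hH1
  have hle : H₁ ≤ H := sup_le D.NN_le_H D.CH
  have hne : H₁ ≠ H := fun h => hcon (by rw [h])
  have hl : IsLong (S : Subgroup G) H₁ :=
    ⟨D.long.loc.of_le S ((le_CZ S).trans le_sup_right) hle, le_sup_right⟩
  have h1 := D.min H₁ hl hle hne
  have h2 : zl (S : Subgroup G) P ≤ o2 H₁ := le_o2_of_comm (D.data.low P D.par) hl h1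
  -- `V ≤ O₂(N) ≤ O₂(H)`
  have h3 : zl (S : Subgroup G) P ≤ o2 (NN (S : Subgroup G) P H) := by
    have h4 : o2 H₁ ⊓ NN (S : Subgroup G) P H ≤ o2 (NN (S : Subgroup G) P H) := by
      refine le_o2 inf_le_right ((o2_isPGroup _).to_le inf_le_left) ?_
      intro g hg
      have h5 := le_normalizer_o2 H₁ ((le_sup_left : NN (S : Subgroup G) P H ≤ H₁) hg)
      rw [mem_normalizer_iff] at h5 ⊢
      intro x
      rw [mem_inf, mem_inf, h5 x, mem_normalizer_iff.mp (Subgroup.le_normalizer hg) x]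
    exact (le_inf h2 (le_NN _ _ _)).trans h4
  have h6 : o2 (NN (S : Subgroup G) P H) ≤ o2 H := by
    refine le_o2 ((Cfsg.Agent.MinSimple.VModule.o2_le _).trans D.NN_le_H) (o2_isPGroup _) ?_
    refine (le_normalizer_NN (S : Subgroup G) P H).trans ?_
    exact Cfsg.Agent.Omega.normalizer_le_normalizer_o2' _
  have h7 : o2 H ≤ centralizer (zl (S : Subgroup G) H : Set G) :=
    Cfsg.Agent.MinSimple.VModule.o2_le_centralizer_zl D.long.loc.le S.isPGroup'
      (MinSimple.Basic.not_dvd_relIndex S D.long.loc.le) (D.long.loc.char2 S D.hc)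
  exact D.ne ((h3.trans h6).trans h7)

theorem exists_nc {h : G} (hh : h ∈ H) : ∃ m ∈ NN (S : Subgroup G) P H, ∃ c ∈ CZ (S : Subgroup G), h = m * c := by
  have h1 : h ∈ ((NN (S : Subgroup G) P H ⊔ CZ (S : Subgroup G) : Subgroup G) : Set G) := D.le_sup hh
  rw [coe_mul_of_right_le_normalizer_left _ _ D.C_norm_NN] at h1
  obtain ⟨m, hm, c, hc, rfl⟩ := Set.mem_mul.mp h1
  exact ⟨m, hm, c, hc, rfl⟩

/-- `x^H = x^N` for `x ∈ Z` -/
theorem mem_eH_iff {x : G} (hx : x ∈ zc (S : Subgroup G)) {p : G} :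
    (∃ h ∈ H, p = h * x * h⁻¹) ↔ ∃ m ∈ NN (S : Subgroup G) P H, p = m * x * m⁻¹ := by
  constructor
  · rintro ⟨h, hh, rfl⟩
    obtain ⟨m, hm, c, hc, rfl⟩ := D.exists_nc hh
    refine ⟨m, hm, ?_⟩
    have h1 : c * x * c⁻¹ = x := C_cent hx hc
    calc m * c * x * (m * c)⁻¹ = m * (c * x * c⁻¹) * m⁻¹ := by group
      _ = m * x * m⁻¹ := by rw [h1]
  · rintro ⟨m, hm, rfl⟩
    exact ⟨m, D.NN_le_H hm, rfl⟩

/-- **(0)(b)** : no `1 ≠ x ∈ E` is centralised by `N`. -/
theorem not_cent {x : G} (hx : x ∈ zc (S : Subgroup G)) (hxP : x ∈ centralizer (P : Set G))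
    (hxN : x ∈ centralizer (NN (S : Subgroup G) P H : Set G)) : x = 1 := by
  by_contra hz1
  have hL : IsLong (S : Subgroup G) (centralizer ({x} : Set G)) := isLong S hx hz1
  have hHz : H ≤ centralizer ({x} : Set G) := by
    intro h hh
    obtain ⟨m, hm, c, hc, rfl⟩ := D.exists_nc hh
    refine mul_mem ?_ (hL.cz hc)
    rw [mem_centralizer_iff]
    rintro _ rfl
    exact (mem_centralizer_iff.mp hxN m hm).symm
  have hPz : P ≤ centralizer ({x} : Set G) := by
    intro p hp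
    rw [mem_centralizer_iff]
    rintro _ rfl
    exact (mem_centralizer_iff.mp hxP p hp).symm
  have h1 : zl (S : Subgroup G) P ≤ zl (S : Subgroup G) (centralizer ({x} : Set G)) :=
    zl_le (zc_le_zl _ _) (hPz.trans (le_normalizer_zl _ _))
  have h2 : zl (S : Subgroup G) H ≤ zl (S : Subgroup G) (centralizer ({x} : Set G)) :=
    zl_le (zc_le_zl _ _) (hHz.trans (le_normalizer_zl _ _))
  exact D.ne (comm_mono (zl_abel D.hc S hL.loc).1 h1 h2)

/-! ### (0)(c) -/

theorem Uk_le : Uk H z ≤ zl (S : Subgroup G) H := by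
  rw [Uk, closure_le]
  rintro _ ⟨i, h, hh, rfl⟩
  exact conj_mem_of_mem (le_normalizer_zl _ _ hh) (D.zU i)

theorem Uk_comm {x y : G} (hx : x ∈ Uk H z) (hy : y ∈ Uk H z) : x * y = y * x :=
  D.commU (D.Uk_le hx) (D.Uk_le hy)

theorem Uk_sq {x : G} (hx : x ∈ Uk H z) : x * x = 1 := D.sqU (D.Uk_le hx)

theorem e_range : e ∈ closure (Set.range z) := by
  rw [D.eprod]
  refine Subgroup.list_prod_mem _ fun x hx => ?_
  rw [List.mem_ofFn] at hx
  obtain ⟨i, rfl⟩ := hx
  exact subset_closure ⟨i, rfl⟩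

theorem e_mem : e ∈ Uk H z := range_le_Uk H z D.e_range

theorem e_sq : e * e = 1 := D.Uk_sq D.e_mem

/-- `N` centralises `U/U₁` -/
theorem cm_N {m f : G} (hm : m ∈ NN (S : Subgroup G) P H) (hf : f ∈ zl (S : Subgroup G) H) :
    cm m f ∈ Uk H z := by
  let K : Subgroup G :=
    { carrier := {h | h ∈ H ∧ ∀ f ∈ zl (S : Subgroup G) H, cm h f ∈ Uk H z}
      mul_mem' := by
        rintro x y ⟨hx, h1⟩ ⟨hy, h2⟩
        refine ⟨mul_mem hx hy, fun f hf => ?_⟩
        rw [cm_mul_left]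
        exact mul_mem (conj_mem_of_mem (le_normalizer_Uk H z hx) (h2 f hf)) (h1 f hf)
      one_mem' := ⟨one_mem _, fun f _ => by
        have e1 : cm (1 : G) f = 1 := by rw [cm_def]; group
        rw [e1]; exact one_mem _⟩
      inv_mem' := by
        rintro x ⟨hx, h1⟩
        refine ⟨inv_mem hx, fun f hf => ?_⟩
        have e1 : cm x⁻¹ f = x⁻¹ * (cm x f)⁻¹ * x⁻¹⁻¹ := by simp only [cm_def]; group
        rw [e1]
        exact conj_mem_of_mem (le_normalizer_Uk H z (inv_mem hx)) (inv_mem (h1 f hf)) }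
  have hK : NN (S : Subgroup G) P H ≤ K := by
    refine NN_le fun h hh v' hv' => ?_
    rw [mem_conj] at hv'
    refine ⟨?_, fun f hf => ?_⟩
    · have h1 := H.mul_mem (H.mul_mem hh (D.VH hv')) (H.inv_mem hh)
      have e1 : h * (h⁻¹ * v' * h) * h⁻¹ = v' := by group
      rwa [e1] at h1
    · have hf' : h⁻¹ * f * h ∈ zl (S : Subgroup G) H := by
        have h1 := conj_mem_of_mem (le_normalizer_zl (S : Subgroup G) H (inv_mem hh)) hf
        rwa [inv_inv] at h1
      have e1 : cm v' f = h * cm (h⁻¹ * v' * h) (h⁻¹ * f * h) * h⁻¹ := by simp only [cm_def]; group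
      rw [e1]
      exact conj_mem_of_mem (le_normalizer_Uk H z hh) (range_le_Uk H z (D.VU hv' hf'))
  exact (hK hm).2 f hf

/-- **(0)(c)** `U = U₁ Z` -/
theorem U_le : zl (S : Subgroup G) H ≤ Uk H z ⊔ zc (S : Subgroup G) := by
  refine zl_le le_sup_right (D.le_sup.trans (sup_le ?_ ?_))
  · have hgen : ∀ x ∈ Uk H z ⊔ zc (S : Subgroup G), x ∈ zl (S : Subgroup G) H :=
      fun x hx => (sup_le D.Uk_le ZU) hx
    refine le_normalizer_of fun m hm x hx => ?_
    have e1 : m * x * m⁻¹ = cm m x * x := (cm_mul m x).symm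
    rw [e1]
    exact mul_mem ((le_sup_left : Uk H z ≤ _) (D.cm_N hm (hgen x hx))) hx
  · refine le_normalizer_sup (D.CH.trans (le_normalizer_Uk H z)) (centralizer_le_normalizer _)

theorem exists_mulZ {f : G} (hf : f ∈ zl (S : Subgroup G) H) :
    ∃ x ∈ Uk H z, ∃ y ∈ zc (S : Subgroup G), f = x * y := by
  obtain ⟨x, hx, y, hy, h1⟩ := mem_sup_of_comm (A := Uk H z) (B := zc (S : Subgroup G)) (fun x hx => by
    rw [mem_centralizer_iff]
    intro z' hz'
    exact D.commU (ZU hz') (D.Uk_le hx)) (D.U_le hf)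
  exact ⟨x, hx, y, hy, h1.symm⟩

theorem exists_mulE {f : G} (hf : f ∈ zl (S : Subgroup G) H) :
    ∃ x ∈ Uk H z, ∃ ε ∈ zc (S : Subgroup G) ⊓ centralizer (P : Set G), f = x * ε := by
  obtain ⟨x, hx, y, hy, rfl⟩ := D.exists_mulZ hf
  rcases D.Zor y hy with h | h
  · exact ⟨x, hx, y, mem_inf.mpr ⟨hy, h⟩, rfl⟩
  · refine ⟨x * e, mul_mem hx D.e_mem, e * y, mem_inf.mpr ⟨mul_mem D.eZ hy, h⟩, ?_⟩
    calc x * y = x * (e * e) * y := by rw [D.e_sq, mul_one]
      _ = x * e * (e * y) := by group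

/-- every `n_i` is moved by some `f ∈ U₁` -/
theorem exists_f (i : Fin k) : ∃ f ∈ Uk H z, f * n i * f⁻¹ = z i * n i := by
  obtain ⟨f, hf, h1⟩ := D.exists_fU i
  obtain ⟨x, hx, y, hy, rfl⟩ := D.exists_mulZ hf
  refine ⟨x, hx, ?_⟩
  have h2 : n i * y = y * n i := zcomm hy (D.VS (D.nV i))
  rw [← h1]
  calc x * n i * x⁻¹ = x * (n i * y) * y⁻¹ * x⁻¹ := by group
    _ = x * y * n i * (x * y)⁻¹ := by rw [h2]; group

/-- `H` centralises `U/U₁` -/
theorem cm_mem {h f : G} (hh : h ∈ H) (hf : f ∈ zl (S : Subgroup G) H) : cm h f ∈ Uk H z := by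
  obtain ⟨m, hm, c, hc, rfl⟩ := D.exists_nc hh
  obtain ⟨x, hx, y, hy, rfl⟩ := D.exists_mulZ hf
  have hcz : c * y * c⁻¹ = y := C_cent hy hc
  have hx' : c * x * c⁻¹ ∈ Uk H z := conj_mem_of_mem (le_normalizer_Uk H z (D.CH hc)) hx
  have e1 : cm (m * c) (x * y) = (m * (c * x * c⁻¹) * m⁻¹) * (cm m y) * x⁻¹ := by
    have h1 : cm (m * c) (x * y) = (m * (c * x * c⁻¹) * m⁻¹) * (m * (c * y * c⁻¹) * m⁻¹) * y⁻¹ * x⁻¹ := by
      simp only [cm_def]; group
    rw [h1, hcz]
    simp only [cm_def]; group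
  rw [e1]
  exact mul_mem (mul_mem (conj_mem_of_mem (le_normalizer_Uk H z (D.NN_le_H hm)) hx') (D.cm_N hm (ZU hy)))
    (inv_mem hx)

/-- a normal subgroup of `H` centralising `Z` centralises `U` -/
theorem cent_of_normal {M₀ : Subgroup G} (hn : H ≤ normalizer (M₀ : Set G))
    (h2 : M₀ ≤ centralizer (zc (S : Subgroup G) : Set G)) : M₀ ≤ centralizer (zl (S : Subgroup G) H : Set G) := by
  have h3 : zl (S : Subgroup G) H ≤ centralizer (M₀ : Set G) := by
    refine zl_le (comm_symm h2) ?_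
    refine le_normalizer_of fun h hh x hx => ?_
    rw [mem_centralizer_iff] at hx ⊢
    intro m hm
    have hm' : h⁻¹ * m * h ∈ M₀ := by
      have h4 := conj_mem_of_mem (hn (inv_mem hh)) hm
      rwa [inv_inv] at h4
    have h4 := hx _ hm'
    calc m * (h * x * h⁻¹) = h * ((h⁻¹ * m * h) * x) * h⁻¹ := by group
      _ = h * (x * (h⁻¹ * m * h)) * h⁻¹ := by rw [h4]
      _ = h * x * h⁻¹ * m := by group
  exact comm_symm h3

/-- **(0)(c)** `C_H(U₁) ≤ C(U)` -/
theorem cent_U : H ⊓ centralizer (Uk H z : Set G) ≤ centralizer (zl (S : Subgroup G) H : Set G) := by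
  set M₀ := H ⊓ centralizer (Uk H z : Set G) with hM0
  have hM₀n : H ≤ normalizer (M₀ : Set G) := norm_inf_cent (le_normalizer_Uk H z)
  have h1 := le_sup_inf S (H := H) (M₀ := M₀) (K₀ := H ⊓ centralizer (zl (S : Subgroup G) H : Set G)) D.SH
    inf_le_left hM₀n inf_le_left (norm_inf_cent (le_normalizer_zl _ _)) (by
      intro x hx
      refine mem_inf.mpr ⟨pow_mem (mem_inf.mp hx).1 2, ?_⟩
      rw [mem_centralizer_iff]
      intro f hf
      have h2 := D.cm_mem (mem_inf.mp hx).1 hf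
      have h3 : x * cm x f = cm x f * x := (mem_centralizer_iff.mp (mem_inf.mp hx).2 _ h2).symm
      have h4 := D.Uk_sq h2
      have h5 : x * f = cm x f * f * x := by rw [cm_def]; group
      calc f * x ^ 2 = (cm x f * cm x f) * f * x * x := by rw [h4, pow_two]; group
        _ = cm x f * (cm x f * f * x) * x := by group
        _ = cm x f * (x * f) * x := by rw [← h5]
        _ = (cm x f * x) * f * x := by group
        _ = x * (cm x f * f * x) := by rw [← h3]; group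
        _ = x * (x * f) := by rw [← h5]
        _ = x ^ 2 * f := by rw [pow_two]; group)
  -- `M₀` centralises `Z`
  have h2 : M₀ ≤ centralizer (zc (S : Subgroup G) : Set G) := by
    refine h1.trans (sup_le (inf_le_right.trans (centralizer_le ZU)) (inf_le_left.trans (le_CZ S)))
  exact D.cent_of_normal hM₀n h2

/-- **(0)(d)** -/
theorem triv {I : Subgroup G} (hI : I ≤ Uk H z) (hHI : H ≤ normalizer (I : Set G)) {h : G} (hh : h ∈ H)
    (h1 : ∀ x ∈ Uk H z, cm h x ∈ I) (h2 : ∀ x ∈ I, cm h x = 1) : ∀ x ∈ Uk H z, cm h x = 1 := by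
  let M₀ : Subgroup G :=
    { carrier := {h | h ∈ H ∧ (∀ x ∈ Uk H z, cm h x ∈ I) ∧ ∀ x ∈ I, cm h x = 1}
      mul_mem' := by
        rintro x y ⟨hx, h1, h2⟩ ⟨hy, h3, h4⟩
        refine ⟨mul_mem hx hy, fun f hf => ?_, fun f hf => ?_⟩
        · rw [cm_mul_left]
          exact mul_mem (conj_mem_of_mem (hHI hx) (h3 f hf)) (h1 f hf)
        · rw [cm_mul_left, h4 f hf, h2 f hf]; group
      one_mem' := ⟨one_mem _, fun f _ => by
        have e1 : cm (1 : G) f = 1 := by rw [cm_def]; group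
        rw [e1]; exact one_mem _, fun f _ => by rw [cm_def]; group⟩
      inv_mem' := by
        rintro x ⟨hx, h1, h2⟩
        refine ⟨inv_mem hx, fun f hf => ?_, fun f hf => ?_⟩
        · have e1 : cm x⁻¹ f = x⁻¹ * (cm x f)⁻¹ * x⁻¹⁻¹ := by simp only [cm_def]; group
          rw [e1]
          exact conj_mem_of_mem (hHI (inv_mem hx)) (inv_mem (h1 f hf))
        · have e1 : cm x⁻¹ f = x⁻¹ * (cm x f)⁻¹ * x⁻¹⁻¹ := by simp only [cm_def]; group
          rw [e1, h2 f hf]; group }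
  have hconj : ∀ {k x y : G}, cm (k * x * k⁻¹) y = k * cm x (k⁻¹ * y * k) * k⁻¹ := by
    intro k x y; simp only [cm_def]; group
  have hM₀n : H ≤ normalizer (M₀ : Set G) := by
    refine le_normalizer_of fun k hk x hx => ?_
    obtain ⟨hx, h3, h4⟩ := hx
    refine ⟨mul_mem (mul_mem hk hx) (inv_mem hk), fun f hf => ?_, fun f hf => ?_⟩
    · rw [hconj]
      refine conj_mem_of_mem (hHI hk) (h3 _ ?_)
      have h5 := conj_mem_of_mem (le_normalizer_Uk H z (inv_mem hk)) hf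
      rwa [inv_inv] at h5
    · rw [hconj, h4 _ (by
        have h5 := conj_mem_of_mem (hHI (inv_mem hk)) hf
        rwa [inv_inv] at h5)]
      group
  have hle := le_sup_inf S (H := H) (M₀ := M₀) (K₀ := H ⊓ centralizer (Uk H z : Set G)) D.SH
    (fun x hx => hx.1) hM₀n inf_le_left (norm_inf_cent (le_normalizer_Uk H z)) (by
      rintro x ⟨hx, h3, h4⟩
      refine mem_inf.mpr ⟨pow_mem hx 2, ?_⟩
      rw [mem_centralizer_iff]
      intro f hf
      have h5 := h3 f hf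
      have h6 : cm x (cm x f) = 1 := h4 _ h5
      have h7 : x * cm x f = cm x f * x := by
        have h8 : cm x (cm x f) * (cm x f * x) = x * cm x f := by simp only [cm_def]; group
        rw [← h8, h6, one_mul]
      have h9 := D.Uk_sq (hI h5)
      have h10 : x * f = cm x f * f * x := by rw [cm_def]; group
      calc f * x ^ 2 = (cm x f * cm x f) * f * x * x := by rw [h9, pow_two]; group
        _ = cm x f * (cm x f * f * x) * x := by group
        _ = cm x f * (x * f) * x := by rw [← h10]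
        _ = (cm x f * x) * f * x := by group
        _ = x * (cm x f * f * x) := by rw [← h7]; group
        _ = x * (x * f) := by rw [← h10]
        _ = x ^ 2 * f := by rw [pow_two]; group)
  have hMz : M₀ ≤ centralizer (zc (S : Subgroup G) : Set G) :=
    hle.trans (sup_le (D.cent_U.trans (centralizer_le ZU)) (inf_le_left.trans (le_CZ S)))
  have hMU := D.cent_of_normal hM₀n hMz
  intro x hx
  have h3 := mem_centralizer_iff.mp (hMU ⟨hh, h1, h2⟩) x (D.Uk_le hx)
  rw [cm_def, ← h3]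
  group

/-! ### (0)(e) -/

/-- `C_H(x)`, `x ∈ Z` -/
theorem isLong_K {x : G} (hx : x ∈ zc (S : Subgroup G)) (hx1 : ¬ H ≤ centralizer ({x} : Set G)) :
    IsLong (S : Subgroup G) (H ⊓ centralizer ({x} : Set G)) := by
  have hx2 : x ≠ 1 := by
    rintro rfl
    apply hx1
    intro h _
    rw [mem_centralizer_iff]
    rintro _ rfl
    rw [one_mul, mul_one]
  have h1 := isLong S hx hx2
  refine ⟨h1.loc.of_le S (le_inf D.SH (le_centralizer_of_mem_zc hx)) inf_le_right, le_inf D.CH h1.cz⟩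

/-- **(0)(e), (#)** `V ≤ O₂(C_H(x))` -/
theorem V_le_o2 {x : G} (hx : x ∈ zc (S : Subgroup G)) (hx1 : ¬ H ≤ centralizer ({x} : Set G)) :
    zl (S : Subgroup G) P ≤ o2 (H ⊓ centralizer ({x} : Set G)) :=
  le_o2_of_comm (D.data.low P D.par) (D.isLong_K hx hx1)
    (D.min _ (D.isLong_K hx hx1) inf_le_left (fun h => hx1 (inf_eq_left.mp h)))

theorem conjV_le_o2 {x : G} (hx : x ∈ zc (S : Subgroup G)) (hx1 : ¬ H ≤ centralizer ({x} : Set G)) {k : G}
    (hk : k ∈ H ⊓ centralizer ({x} : Set G)) :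
    MulAut.conj k • zl (S : Subgroup G) P ≤ o2 (H ⊓ centralizer ({x} : Set G)) := by
  have h1 := (conj_le_iff (g := k)).2 (D.V_le_o2 hx hx1)
  rwa [conj_eq_of_mem (le_normalizer_o2 _ hk)] at h1

theorem exists_par : ∃ P₁, IsParS (S : Subgroup G) P₁ ∧ P₁ ≤ H := by
  by_contra hcon
  push Not at hcon
  have h1 : H ≤ normalizer (zc (S : Subgroup G) : Set G) := by
    refine D.long.loc.le_of_forall S (inf_le_right.trans (normalizer_le_normalizer_zc _)) fun P₁ hP hPH => ?_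
    by_contra h2
    exact hcon P₁ ⟨hP, h2⟩ hPH
  have h2 : zl (S : Subgroup G) H ≤ zc (S : Subgroup G) := zl_le le_rfl h1
  apply D.ne
  intro v hv
  rw [mem_centralizer_iff]
  intro f hf
  exact (zcomm (h2 hf) (D.VS hv)).symm

theorem Z_le_Wl {x : G} : zc (S : Subgroup G) ≤ Wl (S : Subgroup G) H x := by
  obtain ⟨P₁, h1, h2⟩ := D.exists_par
  have h3 := line_le_Wl (S := (S : Subgroup G)) (H := H) (e := x) h1 h2 (one_mem _)
  rw [map_one, one_smul] at h3
  exact (zc_le_zl _ _).trans h3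

theorem line_le_U {P₁ : Subgroup G} (h2 : P₁ ≤ H) {k : G} (hk : k ∈ H) :
    MulAut.conj k • zl (S : Subgroup G) P₁ ≤ zl (S : Subgroup G) H := by
  have h3 : zl (S : Subgroup G) P₁ ≤ zl (S : Subgroup G) H :=
    zl_le (zc_le_zl _ _) (h2.trans (le_normalizer_zl _ _))
  have h4 := (conj_le_iff (g := k)).2 h3
  rwa [conj_eq_of_mem (le_normalizer_zl _ _ hk)] at h4

theorem Wl_le_U {x : G} : Wl (S : Subgroup G) H x ≤ zl (S : Subgroup G) H :=
  Wl_le fun _ _ h2 _ hk => D.line_le_U h2 (mem_inf.mp hk).1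

/-- `U` normalises `V^k`, `k ∈ H` -/
theorem U_norm {k : G} (hk : k ∈ H) :
    zl (S : Subgroup G) H ≤ normalizer ((MulAut.conj k • zl (S : Subgroup G) P : Subgroup G) : Set G) := by
  have h1 : zl (S : Subgroup G) H ≤ normalizer (zl (S : Subgroup G) P : Set G) :=
    D.US.trans (D.SP.trans (le_normalizer_zl _ _))
  have h2 := conj_le_normalizer (g := k) h1
  rwa [conj_eq_of_mem (le_normalizer_zl _ _ hk)] at h2

/-- **no mutual pair**, in the form used here -/
theorem noff' {P₁ P₂ : Subgroup G} (h₁ : IsParS (S : Subgroup G) P₁) (h₂ : IsParS (S : Subgroup G) P₂) {g h : G}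
    (m₁ : MulAut.conj g • zl (S : Subgroup G) P₁ ≤
      normalizer ((MulAut.conj h • zl (S : Subgroup G) P₂ : Subgroup G) : Set G))
    (m₂ : MulAut.conj h • zl (S : Subgroup G) P₂ ≤
      normalizer ((MulAut.conj g • zl (S : Subgroup G) P₁ : Subgroup G) : Set G)) :
    MulAut.conj g • zl (S : Subgroup G) P₁ ≤
      centralizer ((MulAut.conj h • zl (S : Subgroup G) P₂ : Subgroup G) : Set G) := by
  by_contra hcon
  refine D.data.noff ⟨P₁, P₂, g⁻¹ * h, h₁, h₂, ?_, ?_, ?_⟩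
  · have h1 := conj_le_normalizer (g := g⁻¹) m₁
    rwa [conj_conj, conj_conj, inv_mul_cancel, map_one, one_smul] at h1
  · have h1 := conj_le_normalizer (g := g⁻¹) m₂
    rwa [conj_conj, conj_conj, inv_mul_cancel, map_one, one_smul] at h1
  · intro h0
    rw [commutator_eq_bot_iff_le_centralizer] at h0
    have h1 := conj_le_centralizer (g := g) h0
    rw [conj_conj, mul_inv_cancel_left] at h1
    exact hcon h1

/-- **(0)(e)** `[V^k, W] = 1` for `k ∈ C_H(x)` -/
theorem Wl_cent {x : G} (hx : x ∈ zc (S : Subgroup G)) (hx1 : ¬ H ≤ centralizer ({x} : Set G)) {k : G}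
    (hk : k ∈ H ⊓ centralizer ({x} : Set G)) :
    Wl (S : Subgroup G) H x ≤ centralizer ((MulAut.conj k • zl (S : Subgroup G) P : Subgroup G) : Set G) := by
  refine Wl_le fun P₁ h1 h2 k₁ hk₁ => ?_
  refine D.noff' h1 D.par ?_ ?_
  · exact (D.line_le_U h2 (mem_inf.mp hk₁).1).trans (D.U_norm (mem_inf.mp hk).1)
  · -- `V^k ≤ O₂(K) ≤ S^k₁`
    have h3 : o2 (H ⊓ centralizer ({x} : Set G)) ≤ normalizer (zl (S : Subgroup G) P₁ : Set G) :=
      ((D.isLong_K hx hx1).loc.o2_le S).trans (h1.le.trans (le_normalizer_zl _ _))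
    have h4 := conj_le_normalizer (g := k₁) h3
    rw [conj_eq_of_mem (le_normalizer_o2 _ hk₁)] at h4
    exact (D.conjV_le_o2 hx hx1 hk).trans h4

theorem Wl_cent_V {x : G} (hx : x ∈ zc (S : Subgroup G)) (hx1 : ¬ H ≤ centralizer ({x} : Set G)) :
    Wl (S : Subgroup G) H x ≤ centralizer (zl (S : Subgroup G) P : Set G) := by
  have h := D.Wl_cent hx hx1 (one_mem _)
  rwa [map_one, one_smul] at h

/-- **(2), (6)**: `W` contains some `x^h ≠ x`. -/
theorem exists_ne {x : G} (hx : x ∈ zc (S : Subgroup G)) (hx1 : ¬ H ≤ centralizer ({x} : Set G)) :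
    ∃ h ∈ H, h * x * h⁻¹ ∈ Wl (S : Subgroup G) H x ∧ h * x * h⁻¹ ≠ x := by
  by_contra hcon
  push Not at hcon
  apply hx1
  have h0 : ∀ h ∈ H, h * x * h⁻¹ = x → h ∈ centralizer ({x} : Set G) := by
    intro h _ h1
    rw [mem_centralizer_iff]
    intro y hy
    rw [Set.mem_singleton_iff.mp hy]
    calc x * h = h * x * h⁻¹ * h := by rw [h1]
      _ = h * x := by group
  refine D.long.loc.le_of_forall S ?_ fun P₁ hP hPH => ?_
  · intro m hm
    refine h0 m (mem_inf.mp hm).1 (hcon _ (mem_inf.mp hm).1 (D.Z_le_Wl ?_))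
    exact conj_mem_of_mem (normalizer_le_normalizer_zc _ (mem_inf.mp hm).2) hx
  · by_cases hs : IsParS (S : Subgroup G) P₁
    · intro p hp
      refine h0 p (hPH hp) (hcon _ (hPH hp) ?_)
      have h3 := line_le_Wl (S := (S : Subgroup G)) (H := H) (e := x) hs hPH (one_mem _)
      rw [map_one, one_smul] at h3
      exact h3 (conj_mem_of_mem (le_normalizer_zl _ _ hp) (zc_le_zl _ _ hx))
    · exact (par_le_CZ S hP hs).trans (centralizer_le (Set.singleton_subset_iff.2 hx))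

end HypK

end Cfsg.Agent.Omega.NOThreeL.RTools.Many
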