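import Cfsg.Agent.Omega.NOThreeL.RTools.Many.Frame
import Cfsg.Agent.Omega.NOThreeL.RTools.Many.End
import Cfsg.Agent.Omega.NOThreeL.RTools.SpForm

/-!
# NO-3L, box R ∩ (A), `q = 2`, all `k`: the symplectic system from the frame

`HypK.NY D` : elements of `H` commuting with `z i` normalise `C_{U_1}(n i)` (the case `|Φ| = 2`, supplied by SL).

* `HypK.exists_form` : the form; `HypK.exists_sys` : the system `Sys` of `Many/Sys.lean`;
* `HypK.tv`, `HypK.core`, .. : the fields of `End` which do not mention `g`, `T`.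
-/

set_option autoImplicit false
set_option linter.unusedSectionVars false

namespace Cfsg.Agent.Omega.NOThreeL.RTools.Many

open Subgroup Cfsg Cfsg.Agent.Omega.MinPar Cfsg.Agent.Omega.NOThreeL.RTools
open Cfsg.Agent.ZN (zc zl o2)
open Cfsg.Agent.Omega.Frame Cfsg.Agent.Omega.FrameNOFF
open Cfsg.Agent.Omega.Node.NO3L Cfsg.Agent.Omega.NOThreeL.Basic
open Cfsg.Agent.Omega.NoFF.Basic (conj_conj mem_conj conj_le_iff conj_le_centralizer comm_symm comm_mono)
open Cfsg.Agent.Omega.NOThreeL.Pair (conj_eq_of_mem conj_le_normalizer zl_abel)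
open Cfsg.Agent.MinSimple.VModule (zl_le zc_le_zl le_normalizer_zl zc_le o2_isPGroup le_normalizer_o2 le_o2
  normalizer_le_normalizer_zc)
open Cfsg.Agent.Omega.NOThreeL (mem_normalizer_of_conj_eq le_normalizer_of mem_sup_of_comm)
open Cfsg.Agent.Omega.NOThreeL.RTools.SpForm (Tr chi chi_eq_one chi_of_mem chi_of_not Pt)
open scoped Pointwise

universe u

variable {G : Type u} [Group G]

/-- the transvection property of `t` at `p` for `B` on `U` -/
def Tv (U : Subgroup G) (B : G → G → ℤˣ) (p t : G) : Prop :=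
  ∀ m ∈ U, (B p m = 1 → t * m * t⁻¹ = m) ∧ (B p m = -1 → t * m * t⁻¹ = m * p)

namespace HypK

variable [Finite G] {S : Sylow 2 G} {P H : Subgroup G} {k : ℕ} {z n : Fin k → G} {e w : G}

/-- the case `|Φ| = 2` -/
def NY (_D : HypK S P H z n e w) : Prop :=
  ∀ i, ∀ h ∈ H, h * z i = z i * h → ∀ y ∈ Uk H z, y * n i = n i * y → (h * y * h⁻¹) * n i = n i * (h * y * h⁻¹)

variable (D : HypK S P H z n e w)
include D

theorem nU {h x : G} (hh : h ∈ H) (hx : x ∈ Uk H z) : h * x * h⁻¹ ∈ Uk H z :=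
  conj_mem_of_mem (le_normalizer_Uk H z hh) hx

theorem nU' {h x : G} (hh : h ∈ H) (hx : x ∈ Uk H z) : h⁻¹ * x * h ∈ Uk H z := by
  have := D.nU (H.inv_mem hh) hx
  rwa [inv_inv] at this

theorem zU1 (i : Fin k) : z i ∈ Uk H z := z_mem_Uk H z i

theorem nH (i : Fin k) : n i ∈ H := D.VH (D.nV i)

/-- the action of `n i` on the whole of `U_H` -/
theorem n_act {f : G} (hf : f ∈ zl (S : Subgroup G) H) (i : Fin k) :
    (f * n i = n i * f ∧ n i * f * (n i)⁻¹ = f) ∨ (f * n i ≠ n i * f ∧ n i * f * (n i)⁻¹ = f * z i) := by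
  rcases D.Un f hf i with h | h
  · left
    have h1 : f * n i = n i * f := mul_inv_eq_iff_eq_mul.1 h
    exact ⟨h1, by rw [← h1, mul_inv_cancel_right]⟩
  · right
    have h1 : f * n i = z i * n i * f := mul_inv_eq_iff_eq_mul.1 h
    have h2 : n i * f = f * z i * n i := by
      have h3 : z i * f = f * z i := D.commU (D.zU i) hf
      calc n i * f = (z i * z i) * n i * f := by rw [D.z_sq, one_mul]
        _ = z i * (z i * n i * f) := by group
        _ = z i * (f * n i) := by rw [← h1]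
        _ = f * z i * n i := by rw [← mul_assoc, h3]
    refine ⟨fun h3 => ?_, by rw [h2, mul_inv_cancel_right]⟩
    rw [h1] at h3
    have h4 : z i * (n i * f) = 1 * (n i * f) := by rw [one_mul, ← mul_assoc]; exact h3
    exact D.z1 i (mul_right_cancel h4)

theorem tr_z (hY : D.NY) (i : Fin k) :
    Tr (z i) (n i) (Uk H z) (Uk H z ⊓ centralizer ({n i} : Set G)) H where
  sq x hx := D.Uk_sq hx
  comm x hx y hy := D.Uk_comm hx hy
  nU h hh x hx := D.nU hh hx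
  YU := inf_le_left
  eY := mem_inf.2 ⟨D.zU1 i, mem_centralizer_singleton_iff.2 (D.zn i)⟩
  nY h hh hhe y hy := by
    obtain ⟨h1, h2⟩ := mem_inf.1 hy
    refine mem_inf.2 ⟨D.nU hh h1, mem_centralizer_singleton_iff.2 ?_⟩
    exact hY i h hh hhe y h1 (mem_centralizer_singleton_iff.1 h2)
  aH := D.nH i
  a1 y hy := (mem_centralizer_singleton_iff.1 (mem_inf.1 hy).2).symm
  a2 x hx hxY := by
    rcases D.n_act (D.Uk_le hx) i with ⟨h1, -⟩ | ⟨-, h1⟩
    · exact absurd (mem_inf.2 ⟨hx, mem_centralizer_singleton_iff.2 h1⟩) hxY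
    · exact h1
  idx x hx y hy hxY hyY := by
    refine mem_inf.2 ⟨(Uk H z).mul_mem hx hy, mem_centralizer_singleton_iff.2 ?_⟩
    have hx1 : n i * x * (n i)⁻¹ = x * z i := by
      rcases D.n_act (D.Uk_le hx) i with ⟨h1, -⟩ | ⟨-, h1⟩
      · exact absurd (mem_inf.2 ⟨hx, mem_centralizer_singleton_iff.2 h1⟩) hxY
      · exact h1
    have hy1 : n i * y * (n i)⁻¹ = y * z i := by
      rcases D.n_act (D.Uk_le hy) i with ⟨h1, -⟩ | ⟨-, h1⟩
      · exact absurd (mem_inf.2 ⟨hy, mem_centralizer_singleton_iff.2 h1⟩) hyY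
      · exact h1
    have h2 : n i * (x * y) * (n i)⁻¹ = x * y := by
      calc n i * (x * y) * (n i)⁻¹ = (n i * x * (n i)⁻¹) * (n i * y * (n i)⁻¹) := by group
        _ = x * (z i * y) * z i := by rw [hx1, hy1]; group
        _ = x * (y * z i) * z i := by rw [D.Uk_comm (D.zU1 i) hy]
        _ = x * y * (z i * z i) := by group
        _ = x * y := by rw [D.z_sq, mul_one]
    exact (mul_inv_eq_iff_eq_mul.1 h2).symm
  gen := by
    refine closure_mono ?_
    rintro _ ⟨j, h, hh, rfl⟩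
    obtain ⟨s, hs, hsz⟩ := D.Str i j
    exact ⟨h * s, H.mul_mem hh (D.SH hs), by rw [← hsz]; group⟩
  ne := by
    obtain ⟨f, hf, h1⟩ := D.exists_f i
    refine ⟨f, hf, fun h2 => ?_⟩
    have h3 := mem_centralizer_singleton_iff.1 (mem_inf.1 h2).2
    rw [h3, mul_inv_cancel_right] at h1
    exact D.z1 i (mul_eq_right.1 h1.symm)

/-- **the form** -/
theorem exists_form (hY : D.NY) : ∃ B : G → G → ℤˣ,
    Form0 (Uk H z) (PPk H z) B ∧
    (∀ h ∈ H, ∀ u ∈ Uk H z, ∀ v ∈ Uk H z, B (h * u * h⁻¹) (h * v * h⁻¹) = B u v) ∧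
    (∀ i, ∀ v ∈ Uk H z, B (z i) v = 1 ↔ v * n i = n i * v) ∧
    (∀ i, ∀ h ∈ H, Tv (Uk H z) B (h * z i * h⁻¹) (h * n i * h⁻¹)) := by
  obtain ⟨i0, -, -, -⟩ := D.exists_i
  obtain ⟨B, hm, hs, h0, hi, he⟩ := (D.tr_z hY i0).exists_form
  have hcom : ∀ i, ∀ v ∈ Uk H z, B (z i) v = 1 ↔ v * n i = n i * v := by
    intro i v hv
    obtain ⟨s, hs', hsz⟩ := D.Str i0 i
    have hsH := D.SH hs'
    have hv' := D.nU' hsH hv
    have h1 : B (z i) v = B (z i0) (s⁻¹ * v * s) := by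
      rw [← hsz, ← hi s hsH _ (D.zU1 i0) _ hv']
      congr 1
      group
    rw [h1, he _ hv', chi_eq_one, mem_inf, mem_centralizer_singleton_iff, and_iff_right hv']
    have h2 : s⁻¹ * v * s * n i0 = n i0 * (s⁻¹ * v * s) ↔ v * (s * n i0 * s⁻¹) = (s * n i0 * s⁻¹) * v := by
      constructor
      · intro h
        calc v * (s * n i0 * s⁻¹) = s * (s⁻¹ * v * s * n i0) * s⁻¹ := by group
          _ = s * (n i0 * (s⁻¹ * v * s)) * s⁻¹ := by rw [h]
          _ = _ := by group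
      · intro h
        calc s⁻¹ * v * s * n i0 = s⁻¹ * (v * (s * n i0 * s⁻¹)) * s := by group
          _ = s⁻¹ * ((s * n i0 * s⁻¹) * v) * s := by rw [h]
          _ = _ := by group
    rw [h2]
    rcases D.S_n hs' hsz with h3 | h3
    · rw [h3]
    · rw [h3]
      have h4 := D.Uk_comm (D.zU1 i) hv
      constructor
      · intro h
        have h5 : z i * (v * n i) = z i * (n i * v) := by rw [← mul_assoc, h4, mul_assoc, h, mul_assoc]
        exact mul_left_cancel h5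
      · intro h
        rw [← mul_assoc, ← h4, mul_assoc, h, mul_assoc]
  have htv : ∀ i, ∀ h ∈ H, Tv (Uk H z) B (h * z i * h⁻¹) (h * n i * h⁻¹) := by
    intro i h hh m hmU
    have hm' := D.nU' hh hmU
    have h1 : B (h * z i * h⁻¹) m = B (z i) (h⁻¹ * m * h) := by
      rw [← hi h hh _ (D.zU1 i) _ hm']
      congr 1
      group
    have e1 : (h * n i * h⁻¹) * m * (h * n i * h⁻¹)⁻¹ = h * (n i * (h⁻¹ * m * h) * (n i)⁻¹) * h⁻¹ := by group
    rw [h1, e1]
    have h2 := hcom i _ hm'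
    rcases D.n_act (D.Uk_le hm') i with ⟨h3, h4⟩ | ⟨h3, h4⟩
    · rw [h4]
      refine ⟨fun _ => by group, fun h5 => ?_⟩
      rw [h2.2 h3] at h5
      exact absurd h5 (by decide)
    · rw [h4]
      refine ⟨fun h5 => absurd (h2.1 h5) h3, fun _ => by group⟩
  refine ⟨B, ⟨fun u hu => D.Uk_sq hu, fun u hu v hv => D.Uk_comm hu hv, fun p hp => PPk_sub hp, le_rfl, hm, hs, h0,
    ?_⟩, hi, hcom, htv⟩
  rintro _ ⟨i, h, hh, rfl⟩ q hq h1
  have h2 := (htv i h hh q (PPk_sub hq)).2 h1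
  have hpU : h * z i * h⁻¹ ∈ Uk H z := D.nU hh (D.zU1 i)
  rw [D.Uk_comm hpU (PPk_sub hq), ← h2]
  exact PPk_conj (H.mul_mem (H.mul_mem hh (D.nH i)) (H.inv_mem hh)) hq

/-- two conjugates of `n`'s with the same centre act in the same way on `U_H` -/
theorem same_act {B : G → G → ℤˣ} (htv : ∀ i, ∀ h ∈ H, Tv (Uk H z) B (h * z i * h⁻¹) (h * n i * h⁻¹)) {i j : Fin k}
    {h h' : G} (hh : h ∈ H) (hh' : h' ∈ H) (he : h * z i * h⁻¹ = h' * z j * h'⁻¹) {f : G}
    (hf : f ∈ zl (S : Subgroup G) H) :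
    (h * n i * h⁻¹) * f * (h * n i * h⁻¹)⁻¹ = (h' * n j * h'⁻¹) * f * (h' * n j * h'⁻¹)⁻¹ := by
  have h1H : h * n i * h⁻¹ ∈ H := H.mul_mem (H.mul_mem hh (D.nH i)) (H.inv_mem hh)
  have h2H : h' * n j * h'⁻¹ ∈ H := H.mul_mem (H.mul_mem hh' (D.nH j)) (H.inv_mem hh')
  have h1 : (h' * n j * h'⁻¹)⁻¹ * (h * n i * h⁻¹) ∈ H ⊓ centralizer (Uk H z : Set G) := by
    refine mem_inf.2 ⟨H.mul_mem (H.inv_mem h2H) h1H, mem_centralizer_iff.2 fun m hm => ?_⟩
    have h3 := htv i h hh m hm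
    have h4 := htv j h' hh' m hm
    rw [he] at h3
    have h5 : (h * n i * h⁻¹) * m * (h * n i * h⁻¹)⁻¹ = (h' * n j * h'⁻¹) * m * (h' * n j * h'⁻¹)⁻¹ := by
      rcases Int.units_eq_one_or (B (h' * z j * h'⁻¹) m) with h6 | h6
      · rw [h3.1 h6, h4.1 h6]
      · rw [h3.2 h6, h4.2 h6]
    have h6 : (h * n i * h⁻¹) * m = (h' * n j * h'⁻¹) * m * (h' * n j * h'⁻¹)⁻¹ * (h * n i * h⁻¹) :=
      mul_inv_eq_iff_eq_mul.1 h5
    calc m * ((h' * n j * h'⁻¹)⁻¹ * (h * n i * h⁻¹))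
        = (h' * n j * h'⁻¹)⁻¹ * ((h' * n j * h'⁻¹) * m * (h' * n j * h'⁻¹)⁻¹ * (h * n i * h⁻¹)) := by group
      _ = (h' * n j * h'⁻¹)⁻¹ * ((h * n i * h⁻¹) * m) := by rw [h6]
      _ = _ := by group
  have h2 := mem_centralizer_iff.1 (D.cent_U h1) f hf
  calc (h * n i * h⁻¹) * f * (h * n i * h⁻¹)⁻¹
      = (h' * n j * h'⁻¹) * (((h' * n j * h'⁻¹)⁻¹ * (h * n i * h⁻¹)) * f) * (h * n i * h⁻¹)⁻¹ := by group
    _ = (h' * n j * h'⁻¹) * (f * ((h' * n j * h'⁻¹)⁻¹ * (h * n i * h⁻¹))) * (h * n i * h⁻¹)⁻¹ := by rw [h2]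
    _ = _ := by group

/-- the action of a conjugate of `n i` on `U_H` -/
theorem cn_act {f h : G} (hf : f ∈ zl (S : Subgroup G) H) (hh : h ∈ H) (i : Fin k) :
    (h * n i * h⁻¹) * f * (h * n i * h⁻¹)⁻¹ = f ∨ (h * n i * h⁻¹) * f * (h * n i * h⁻¹)⁻¹ = f * (h * z i * h⁻¹) := by
  have hf' : h⁻¹ * f * h ∈ zl (S : Subgroup G) H := by
    have h1 := conj_mem_of_mem (le_normalizer_zl (S : Subgroup G) H (inv_mem hh)) hf
    rwa [inv_inv] at h1
  have e1 : (h * n i * h⁻¹) * f * (h * n i * h⁻¹)⁻¹ = h * (n i * (h⁻¹ * f * h) * (n i)⁻¹) * h⁻¹ := by group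
  rw [e1]
  rcases D.n_act hf' i with ⟨-, h4⟩ | ⟨-, h4⟩
  · left; rw [h4]; group
  · right; rw [h4]; group

/-- (#): `t` at `p` fixes `ζ ∈ Z - C(H)` ⟹ `p ⊥ z_i` -/
theorem hash_aux {B : G → G → ℤˣ} (F : Form0 (Uk H z) (PPk H z) B)
    (hi : ∀ h ∈ H, ∀ u ∈ Uk H z, ∀ v ∈ Uk H z, B (h * u * h⁻¹) (h * v * h⁻¹) = B u v)
    (htv : ∀ i, ∀ h ∈ H, Tv (Uk H z) B (h * z i * h⁻¹) (h * n i * h⁻¹)) {ζ : G}
    (hζ : ζ ∈ zc (S : Subgroup G)) (hζ1 : ¬ H ≤ centralizer ({ζ} : Set G)) {j : Fin k} {h : G} (hh : h ∈ H)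
    (hc : (h * n j * h⁻¹) * ζ = ζ * (h * n j * h⁻¹)) (i : Fin k) : B (h * z j * h⁻¹) (z i) = 1 := by
  by_contra hB
  have hB := ne_one hB
  set t := h * n j * h⁻¹ with ht
  set p := h * z j * h⁻¹ with hp
  have htH : t ∈ H := H.mul_mem (H.mul_mem hh (D.nH j)) (H.inv_mem hh)
  have hpU : p ∈ Uk H z := D.nU hh (D.zU1 j)
  have hziU := D.zU1 (i := i)
  set O := o2 (H ⊓ centralizer ({ζ} : Set G)) with hO
  have hnO : n i ∈ O := D.V_le_o2 hζ hζ1 (D.nV i)
  have htK : t ∈ H ⊓ centralizer ({ζ} : Set G) := mem_inf.2 ⟨htH, mem_centralizer_singleton_iff.2 hc⟩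
  have htn : t * n i * t⁻¹ ∈ O := conj_mem_of_mem (le_normalizer_o2 _ htK) hnO
  set x := t * n i * t⁻¹ * n i with hx
  have hxO : x ∈ O := O.mul_mem htn hnO
  -- the action of `x`
  have h1 : Tv (Uk H z) B (z i) (n i) := by
    have := htv i 1 H.one_mem
    simpa using this
  have h2 : Tv (Uk H z) B (t * z i * t⁻¹) (t * n i * t⁻¹) := htv i t htH
  have h3 : Tv (Uk H z) B p t := htv j h hh
  have htz : t * z i * t⁻¹ = z i * p := (h3 _ hziU).2 hB
  rw [htz] at h2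
  have hBzp : B (z i) p = -1 := by rw [F.symm _ hziU _ hpU]; exact hB
  have hzpU : z i * p ∈ Uk H z := (Uk H z).mul_mem hziU hpU
  have hzp := D.Uk_comm hziU hpU
  have hsq := D.z_sq i
  have hpp := D.Uk_sq hpU
  -- `z ↦ p ↦ zp ↦ z`
  have conj_x : ∀ m, x * m * x⁻¹ = (t * n i * t⁻¹) * (n i * m * (n i)⁻¹) * (t * n i * t⁻¹)⁻¹ := fun m => by
    rw [hx]; group
  have a1 : x * z i * x⁻¹ = p := by
    rw [conj_x, (h1 _ hziU).1 (F.self _ hziU), (h2 _ hziU).2 (by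
      rw [F.mul_left hziU hpU hziU, F.self _ hziU, hB, one_mul])]
    rw [← mul_assoc, hsq, one_mul]
  have a2 : x * p * x⁻¹ = p * z i := by
    rw [conj_x, (h1 _ hpU).2 hBzp, (h2 _ ((Uk H z).mul_mem hpU hziU)).1 (by
      rw [F.mul_left hziU hpU ((Uk H z).mul_mem hpU hziU), F.mul _ hziU _ hpU _ hziU, F.mul _ hpU _ hpU _ hziU,
        F.self _ hziU, F.self _ hpU, hBzp, hB]; decide)]
  have a3 : x * (p * z i) * x⁻¹ = z i := by
    have e1 : x * (p * z i) * x⁻¹ = (x * p * x⁻¹) * (x * z i * x⁻¹) := by group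
    rw [e1, a1, a2, mul_assoc, hzp, ← mul_assoc, hpp, one_mul]
  have a4 : Commute (x ^ 3) (z i) := by
    have e1 : x ^ 3 * z i * (x ^ 3)⁻¹ = x * (x * (x * z i * x⁻¹) * x⁻¹) * x⁻¹ := by
      have e0 : x ^ 3 = x * x * x := by rw [pow_succ, pow_two]
      rw [e0]; group
    have e2 : x ^ 3 * z i * (x ^ 3)⁻¹ = z i := by rw [e1, a1, a2, a3]
    exact mul_inv_eq_iff_eq_mul.1 e2
  obtain ⟨m, hm⟩ := (o2_isPGroup (H ⊓ centralizer ({ζ} : Set G))) ⟨x, hxO⟩
  have hm' : x ^ 2 ^ m = 1 := by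
    have := congrArg Subtype.val hm
    simpa using this
  have a5 : Commute x (z i) := by
    have hcop : Nat.Coprime (2 ^ m) 3 := Nat.Coprime.pow_left m (by norm_num)
    have h4 : (1 : ℤ) = (2 ^ m : ℕ) * Nat.gcdA (2 ^ m) 3 + (3 : ℕ) * Nat.gcdB (2 ^ m) 3 := by
      have := Nat.gcd_eq_gcd_ab (2 ^ m) 3
      rw [hcop] at this
      exact_mod_cast this
    have h5 : x = (x ^ 3) ^ (Nat.gcdB (2 ^ m) 3) := by
      calc x = x ^ (1 : ℤ) := (zpow_one x).symm
        _ = x ^ ((2 ^ m : ℕ) * Nat.gcdA (2 ^ m) 3 + (3 : ℕ) * Nat.gcdB (2 ^ m) 3 : ℤ) := by rw [← h4]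
        _ = _ := by rw [zpow_add, zpow_mul, zpow_mul, zpow_natCast, hm', one_zpow, one_mul, zpow_natCast]
    rw [h5]
    exact a4.zpow_left _
  have h6 : p = z i := by rw [← a1, a5.eq, mul_inv_cancel_right]
  rw [h6, F.self _ hziU] at hB
  exact absurd hB (by decide)

/-- some `ζ ∈ Z` is not centralised by `H` -/
theorem exists_zeta : ∃ ζ ∈ zc (S : Subgroup G), ¬ H ≤ centralizer ({ζ} : Set G) := by
  by_contra hcon
  push Not at hcon
  have h1 : H ≤ normalizer (zc (S : Subgroup G) : Set G) := by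
    refine le_normalizer_of fun h hh x hx => ?_
    have h2 := mem_centralizer_singleton_iff.1 (hcon x hx hh)
    rw [h2, mul_inv_cancel_right]
    exact hx
  have h2 : zl (S : Subgroup G) H ≤ zc (S : Subgroup G) := zl_le le_rfl h1
  apply D.ne
  intro v hv
  rw [mem_centralizer_iff]
  intro f hf
  exact (zcomm (h2 hf) (D.VS hv)).symm

/-- **(#)** -/
theorem hash {B : G → G → ℤˣ} (F : Form0 (Uk H z) (PPk H z) B)
    (hi : ∀ h ∈ H, ∀ u ∈ Uk H z, ∀ v ∈ Uk H z, B (h * u * h⁻¹) (h * v * h⁻¹) = B u v)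
    (htv : ∀ i, ∀ h ∈ H, Tv (Uk H z) B (h * z i * h⁻¹) (h * n i * h⁻¹)) :
    ∃ φ : G → ℤˣ, (∀ p ∈ PPk H z, ∀ q ∈ PPk H z, B p q = -1 → φ (p * q) = φ p * φ q) ∧
      ∀ p ∈ PPk H z, φ p = 1 → ∀ i, B p (z i) = 1 := by
  classical
  obtain ⟨ζ, hζ, hζ1⟩ := D.exists_zeta
  have hζU : ζ ∈ zl (S : Subgroup G) H := ZU hζ
  let Q : G → Prop := fun p => ∃ i, ∃ h ∈ H, p = h * z i * h⁻¹ ∧ (h * n i * h⁻¹) * ζ = ζ * (h * n i * h⁻¹)
  -- `Q` does not depend on the representation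
  have hQ : ∀ i, ∀ h ∈ H, Q (h * z i * h⁻¹) ↔ (h * n i * h⁻¹) * ζ * (h * n i * h⁻¹)⁻¹ = ζ := by
    intro i h hh
    constructor
    · rintro ⟨j, h', hh', h1, h2⟩
      rw [D.same_act htv hh hh' h1 hζU, h2, mul_inv_cancel_right]
    · intro h1
      exact ⟨i, h, hh, rfl, mul_inv_eq_iff_eq_mul.1 h1⟩
  refine ⟨fun p => if Q p then 1 else -1, ?_, ?_⟩
  · rintro _ ⟨i, h, hh, rfl⟩ _ ⟨j, h', hh', rfl⟩ hB
    set t := h * n i * h⁻¹ with ht
    set t' := h' * n j * h'⁻¹ with ht'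
    set p := h * z i * h⁻¹ with hp
    set q := h' * z j * h'⁻¹ with hq
    have htH : t ∈ H := H.mul_mem (H.mul_mem hh (D.nH i)) (H.inv_mem hh)
    have hpU : p ∈ Uk H z := D.nU hh (D.zU1 i)
    have hqU : q ∈ Uk H z := D.nU hh' (D.zU1 j)
    have hpU' := D.Uk_le hpU
    have hqU' := D.Uk_le hqU
    have htq : t * q * t⁻¹ = q * p := (htv i h hh q hqU).2 hB
    have hpq : p * q = (t * h') * z j * (t * h')⁻¹ := by
      have e1 : (t * h') * z j * (t * h')⁻¹ = t * q * t⁻¹ := by rw [hq]; group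
      rw [e1, htq, D.Uk_comm hpU hqU]
    have htt : t⁻¹ = t := by
      have h1 : t * t = 1 := by
        rw [ht]
        calc h * n i * h⁻¹ * (h * n i * h⁻¹) = h * (n i * n i) * h⁻¹ := by group
          _ = 1 := by rw [D.n_sq]; group
      exact inv_eq_of_mul_eq_one_left h1
    have hpp := D.Uk_sq hpU
    -- `t' p t'⁻¹ = p q`
    have ht'p : t' * p * t'⁻¹ = p * q := (htv j h' hh' p hpU).2 (by rw [F.symm _ hqU _ hpU]; exact hB)
    have h3 : Q (p * q) ↔ t' * (t * ζ * t⁻¹) * t'⁻¹ = t * ζ * t⁻¹ := by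
      rw [hpq, hQ j _ (H.mul_mem htH hh')]
      have e1 : (t * h') * n j * (t * h')⁻¹ = t * t' * t⁻¹ := by rw [ht']; group
      rw [e1]
      constructor
      · intro h4
        have e2 : t' * (t * ζ * t⁻¹) * t'⁻¹ = t⁻¹ * ((t * t' * t⁻¹) * ζ * (t * t' * t⁻¹)⁻¹) * t := by
          conv_rhs => rw [show (t * t' * t⁻¹) * ζ * (t * t' * t⁻¹)⁻¹ = t * t' * (t⁻¹ * ζ * t) * t'⁻¹ * t⁻¹ by group]
          rw [htt]
          conv_rhs => rw [show t * (t * t' * (t * ζ * t) * t'⁻¹ * t) * t = (t * t) * t' * (t * ζ * t) * t'⁻¹ * (t * t) by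
            group]
          have h5 : t * t = 1 := by
            calc t * t = t⁻¹ * t := by rw [htt]
              _ = 1 := inv_mul_cancel t
          rw [h5, one_mul, mul_one]
        rw [e2, h4, htt]
      · intro h4
        have e2 : (t * t' * t⁻¹) * ζ * (t * t' * t⁻¹)⁻¹ = t * (t' * (t⁻¹ * ζ * t) * t'⁻¹) * t⁻¹ := by group
        have e3 : t⁻¹ * ζ * t = t * ζ * t⁻¹ := by rw [htt]
        rw [e2, e3, h4]
        have h5 : t * t = 1 := by
          calc t * t = t⁻¹ * t := by rw [htt]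
            _ = 1 := inv_mul_cancel t
        calc t * (t * ζ * t⁻¹) * t⁻¹ = (t * t) * ζ * (t⁻¹ * t⁻¹) := by group
          _ = ζ := by rw [htt, h5, one_mul, mul_one]
    have h4 : Q q ↔ t' * ζ * t'⁻¹ = ζ := hQ j h' hh'
    have h5 : Q p ↔ t * ζ * t⁻¹ = ζ := hQ i h hh
    have hp1 : p ≠ 1 := by
      intro h6
      rw [h6, F.one_left hqU] at hB
      exact absurd hB (by decide)
    have hq1 : q ≠ 1 := by
      intro h6
      rw [h6, F.one_right hpU] at hB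
      exact absurd hB (by decide)
    show (if Q (p * q) then (1 : ℤˣ) else -1) = (if Q p then 1 else -1) * (if Q q then 1 else -1)
    by_cases hQp : Q p
    · have h6 := h5.1 hQp
      rw [h6] at h3
      have h7 : Q (p * q) ↔ Q q := h3.trans h4.symm
      rw [if_pos hQp, one_mul]
      by_cases hQq : Q q
      · rw [if_pos hQq, if_pos (h7.2 hQq)]
      · rw [if_neg hQq, if_neg (fun h8 => hQq (h7.1 h8))]
    · have h6 : t * ζ * t⁻¹ = ζ * p :=
        (D.cn_act hζU hh i).resolve_left fun h7 => hQp (h5.2 h7)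
      rw [h6] at h3
      have e1 : t' * (ζ * p) * t'⁻¹ = (t' * ζ * t'⁻¹) * (p * q) := by rw [← ht'p]; group
      have h7 : Q (p * q) ↔ ¬ Q q := by
        rw [h3, e1, h4]
        rcases D.cn_act hζU hh' j with h8 | h8
        · rw [h8]
          constructor
          · intro h9
            exfalso
            have h10 : ζ * p * q = ζ * p * 1 := by rw [mul_one, mul_assoc]; exact h9
            exact hq1 (mul_left_cancel h10)
          · intro h9; exact absurd rfl h9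
        · rw [h8]
          constructor
          · intro _ h9
            exact hq1 (mul_eq_left.1 h9)
          · intro _
            rw [mul_assoc ζ, ← mul_assoc _ p q, ← D.Uk_comm hpU hqU, mul_assoc p q q, D.Uk_sq hqU, mul_one]
      rw [if_neg hQp]
      by_cases hQq : Q q
      · rw [if_pos hQq, if_neg (fun h8 => (h7.1 h8) hQq)]; rfl
      · rw [if_neg hQq, if_pos (h7.2 hQq)]; decide
  · intro p hp hφ i
    have hQp : Q p := by
      by_contra h1
      simp only [if_neg h1] at hφ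
      exact absurd hφ (by decide)
    obtain ⟨j, h, hh, rfl, h2⟩ := hQp
    exact D.hash_aux F hi htv hζ hζ1 hh h2 i

end HypK

end Cfsg.Agent.Omega.NOThreeL.RTools.Many
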