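import Cfsg.Agent.Omega.NOThreeL.RTools.Many.SLEnd
import Cfsg.Agent.Omega.NOThreeL.RTools.Many.Frame

/-!
# NO-3L, box R ∩ (A), `q = 2`, all `k` (#18037 (2)): the case SL does not occur (helper850)

* `HypK.norm_Y` : `C_H(z_i)` normalises `C_{U₁}(n_i)`.
-/

set_option autoImplicit false
set_option linter.unusedSectionVars false
set_option Elab.async false

namespace Cfsg.Agent.Omega.NOThreeL.RTools.Many

open Subgroup Cfsg Cfsg.Agent.Omega.MinPar Cfsg.Agent.Omega.NOThreeL.RTools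
open Cfsg.Agent.ZN (zc zl o2)
open Cfsg.Agent.Omega.Frame Cfsg.Agent.Omega.FrameNOFF
open Cfsg.Agent.Omega.NOThreeL (le_normalizer_of)
open Cfsg.Agent.Omega.Node.NO3L Cfsg.Agent.Omega.NOThreeL.Basic
open Cfsg.Agent.MinSimple.VModule (zl_le zc_le_zl le_normalizer_zl zc_le o2_isPGroup le_normalizer_o2 le_o2)
open Cfsg.Agent.Omega.NOThreeL.ThmL (act act_apply z2 Y)
open scoped Pointwise

universe u

variable {G : Type u} [Group G]

/-! ### An elementary abelian subgroup as a module -/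

/-- `A` is elementary abelian and normalised by `H`. -/
class MdInv (H A : Subgroup G) : Prop where
  ab : ∀ u ∈ A, ∀ v ∈ A, u * v = v * u
  sq : ∀ u ∈ A, u * u = 1
  nrm : ∀ h ∈ H, ∀ u ∈ A, h * u * h⁻¹ ∈ A

/-- `A` written additively. -/
def Md (_H A : Subgroup G) : Type u := ↥A

namespace Md

variable {H A : Subgroup G}

/-- the element of `G` -/
def val (m : Md H A) : G := ((show ↥A from m : ↥A) : G)

variable (H) in
/-- the element of the module -/
def mk (a : G) (ha : a ∈ A) : Md H A := (⟨a, ha⟩ : ↥A)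

theorem val_mem (m : Md H A) : m.val ∈ A := (show ↥A from m).2

@[simp] theorem val_mk (a : G) (ha : a ∈ A) : (mk H a ha).val = a := rfl

theorem ext {m n : Md H A} (h : m.val = n.val) : m = n := Subtype.ext h

theorem mk_val (m : Md H A) : mk H m.val m.val_mem = m := ext rfl

instance [Finite G] : Finite (Md H A) := Finite.of_injective (fun m : Md H A => m.val) fun _ _ h => ext h

variable [i : MdInv H A]

instance : Add (Md H A) := ⟨fun m n => mk H (m.val * n.val) (A.mul_mem m.val_mem n.val_mem)⟩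

instance : Zero (Md H A) := ⟨mk H 1 A.one_mem⟩

instance : Neg (Md H A) := ⟨fun m => mk H m.val⁻¹ (A.inv_mem m.val_mem)⟩

instance : AddCommGroup (Md H A) where
  add_assoc a b c := ext (mul_assoc a.val b.val c.val)
  zero_add a := ext (one_mul a.val)
  add_zero a := ext (mul_one a.val)
  nsmul := nsmulRec
  zsmul := zsmulRec
  neg_add_cancel a := ext (inv_mul_cancel a.val)
  add_comm a b := ext (i.ab _ a.val_mem _ b.val_mem)

theorem val_add (m n : Md H A) : (m + n).val = m.val * n.val := rfl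

theorem val_zero : (0 : Md H A).val = 1 := rfl

theorem val_neg (m : Md H A) : (-m).val = m.val⁻¹ := rfl

instance : Module (ZMod 2) (Md H A) := AddCommGroup.zmodModule (n := 2) fun v => by
  rw [two_nsmul]
  exact ext (i.sq _ v.val_mem)

instance : DistribMulAction ↥H (Md H A) where
  smul h m := mk H (h * m.val * (h : G)⁻¹) (i.nrm h h.2 _ m.val_mem)
  one_smul m := ext (by
    change ((1 : ↥H) : G) * m.val * ((1 : ↥H) : G)⁻¹ = m.val
    rw [OneMemClass.coe_one, one_mul, inv_one, mul_one])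
  mul_smul x y m := ext (by
    change ((x * y : ↥H) : G) * m.val * ((x * y : ↥H) : G)⁻¹ = x * (y * m.val * (y : G)⁻¹) * (x : G)⁻¹
    rw [Subgroup.coe_mul]; group)
  smul_zero x := ext (by
    change (x : G) * 1 * (x : G)⁻¹ = 1
    rw [mul_one, mul_inv_cancel])
  smul_add x m n := ext (by
    change (x : G) * (m.val * n.val) * (x : G)⁻¹ = (x * m.val * (x : G)⁻¹) * (x * n.val * (x : G)⁻¹)
    group)

theorem val_smul (h : ↥H) (m : Md H A) : (h • m).val = h * m.val * (h : G)⁻¹ := rfl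

theorem val_sub (m n : Md H A) : (m - n).val = m.val * n.val⁻¹ := by
  rw [sub_eq_add_neg, val_add, val_neg]

/-- a fixed element -/
theorem smul_eq_iff (h : ↥H) (m : Md H A) : h • m = m ↔ (h : G) * m.val = m.val * h := by
  constructor
  · intro h1
    have h2 := congrArg val h1
    rw [val_smul, mul_inv_eq_iff_eq_mul] at h2
    exact h2
  · intro h1
    apply ext
    rw [val_smul, h1, mul_inv_cancel_right]

theorem val_sum {k : ℕ} (f : Fin k → Md H A) : (∑ i, f i).val = (List.ofFn fun i => (f i).val).prod := by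
  rw [← List.sum_ofFn]
  induction k with
  | zero => rfl
  | succ k ih =>
    rw [List.ofFn_succ, List.sum_cons, List.ofFn_succ, List.prod_cons, val_add, ih]

open Classical in
/-- the functional of an element acting as a transvection -/
noncomputable def fnl (a c : G) (h : ∀ u ∈ A, a * u * a⁻¹ = u ∨ a * u * a⁻¹ = u * c) (hc : c ∈ A) :
    Md H A →+ ZMod 2 where
  toFun m := if a * m.val = m.val * a then 0 else 1
  map_zero' := by
    change (if a * 1 = 1 * a then (0 : ZMod 2) else 1) = 0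
    rw [if_pos (by rw [mul_one, one_mul])]
  map_add' m n := by
    change (if a * (m.val * n.val) = m.val * n.val * a then (0 : ZMod 2) else 1) =
      (if a * m.val = m.val * a then 0 else 1) + (if a * n.val = n.val * a then 0 else 1)
    have key : ∀ x : G, a * x = x * a ↔ a * x * a⁻¹ = x := fun x => mul_inv_eq_iff_eq_mul.symm
    have e1 : a * (m.val * n.val) * a⁻¹ = (a * m.val * a⁻¹) * (a * n.val * a⁻¹) := by group
    rw [key, key, key, e1]
    have hcm : c * n.val = n.val * c := i.ab _ hc _ n.val_mem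
    have hcc : c * c = 1 := i.sq _ hc
    by_cases h1 : a * m.val * a⁻¹ = m.val
    · by_cases h2 : a * n.val * a⁻¹ = n.val
      · rw [if_pos h1, if_pos h2, if_pos (by rw [h1, h2]), add_zero]
      · rw [if_pos h1, if_neg h2, if_neg (by rw [h1]; exact fun h3 => h2 (mul_left_cancel h3)), zero_add]
    · by_cases h2 : a * n.val * a⁻¹ = n.val
      · rw [if_neg h1, if_pos h2, if_neg (by rw [h2]; exact fun h3 => h1 (mul_right_cancel h3)), add_zero]
      · have h3 := (h _ m.val_mem).resolve_left h1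
        have h4 := (h _ n.val_mem).resolve_left h2
        rw [if_neg h1, if_neg h2, if_pos ?_]
        · decide
        · rw [h3, h4]
          calc m.val * c * (n.val * c) = m.val * (c * n.val) * c := by group
            _ = m.val * n.val * (c * c) := by rw [hcm]; group
            _ = m.val * n.val := by rw [hcc, mul_one]

open Classical in
theorem fnl_eq_zero {a c : G} {h : ∀ u ∈ A, a * u * a⁻¹ = u ∨ a * u * a⁻¹ = u * c} {hc : c ∈ A} {m : Md H A} :
    fnl a c h hc m = 0 ↔ a * m.val = m.val * a := by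
  change (if a * m.val = m.val * a then (0 : ZMod 2) else 1) = 0 ↔ _
  constructor
  · intro h1
    by_contra h2
    rw [if_neg h2] at h1
    exact absurd h1 (by decide)
  · intro h1
    rw [if_pos h1]

theorem fnl_smul {a c : G} {h : ∀ u ∈ A, a * u * a⁻¹ = u ∨ a * u * a⁻¹ = u * c} {hc : c ∈ A} {x : ↥H}
    (hx : (x : G) = a) (m : Md H A) : x • m = m + fnl a c h hc m • mk H c hc := by
  apply ext
  rw [val_smul, val_add, hx]
  rcases z2 (fnl a c h hc m) with h1 | h1
  · rw [h1, zero_smul, val_zero, mul_one, mul_inv_eq_iff_eq_mul]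
    exact fnl_eq_zero.mp h1
  · rw [h1, one_smul, val_mk]
    refine (h _ m.val_mem).resolve_left fun h2 => ?_
    rw [mul_inv_eq_iff_eq_mul, ← fnl_eq_zero (h := h) (hc := hc), h1] at h2
    exact absurd h2 (by decide)

/-- inclusion -/
def incl {B : Subgroup G} [MdInv H B] (hAB : A ≤ B) : Md H A →+ Md H B where
  toFun m := mk H m.val (hAB m.val_mem)
  map_zero' := rfl
  map_add' _ _ := rfl

@[simp] theorem val_incl {B : Subgroup G} [MdInv H B] (hAB : A ≤ B) (m : Md H A) : (incl hAB m).val = m.val := rfl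

end Md

/-! ### The plug -/

open SLMod

namespace HypK

variable [Finite G] {S : Sylow 2 G} {P H : Subgroup G} {k : ℕ} {z n : Fin k → G} {e w : G}
  (D : HypK S P H z n e w)
include D

theorem md₁ : MdInv H (Uk H z) :=
  ⟨fun _ hu _ hv => D.Uk_comm hu hv, fun _ hu => D.Uk_sq hu,
    fun _ hh _ hu => conj_mem_of_mem (le_normalizer_Uk H z hh) hu⟩

theorem md₂ : MdInv H (zl (S : Subgroup G) H) :=
  ⟨fun _ hu _ hv => D.commU hu hv, fun _ hu => D.sqU hu,
    fun _ hh _ hu => conj_mem_of_mem (le_normalizer_zl (S : Subgroup G) H hh) hu⟩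

theorem n_act₀ (i : Fin k) {u : G} (hu : u ∈ zl (S : Subgroup G) H) :
    n i * u * (n i)⁻¹ = u ∨ n i * u * (n i)⁻¹ = u * z i := by
  have h0 : n i * u * (n i)⁻¹ = cm (n i) u * u := by rw [cm_def]; group
  rcases D.cm_n hu i with h | h
  · left; rw [h0, h, one_mul]
  · right; rw [h0, h, D.commU (D.zU i) hu]

theorem n_act₁ (i : Fin k) : ∀ u ∈ Uk H z, n i * u * (n i)⁻¹ = u ∨ n i * u * (n i)⁻¹ = u * z i :=
  fun _ hu => D.n_act₀ i (D.Uk_le hu)

theorem n_act₂ (i : Fin k) : ∀ u ∈ zl (S : Subgroup G) H, n i * u * (n i)⁻¹ = u ∨ n i * u * (n i)⁻¹ = u * z i :=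
  fun _ hu => D.n_act₀ i hu

theorem nH₀ (i : Fin k) : n i ∈ H := D.VH (D.nV i)

theorem nNN (i : Fin k) : n i ∈ NN (S : Subgroup G) P H := le_NN _ _ _ (D.nV i)

theorem s_comm {s : G} (hs : s ∈ (S : Subgroup G)) {i j : Fin k} (h : s * z i * s⁻¹ = z j) {u : G}
    (hu : u ∈ zl (S : Subgroup G) H) : (s * n i * s⁻¹) * u = u * (s * n i * s⁻¹) ↔ n j * u = u * n j := by
  rcases D.S_n hs h with h1 | h1
  · rw [h1]
  · rw [h1]
    have h2 : z j * u = u * z j := D.commU (D.zU j) hu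
    constructor
    · intro h3
      calc n j * u = (z j)⁻¹ * (z j * n j * u) := by group
        _ = (z j)⁻¹ * (u * z j) * n j := by rw [h3]; group
        _ = u * n j := by rw [← h2]; group
    · intro h3
      calc z j * n j * u = z j * (n j * u) := by group
        _ = (z j * u) * n j := by rw [h3]; group
        _ = u * (z j * n j) := by rw [h2]; group

theorem normalN : ((NN (S : Subgroup G) P H).subgroupOf H).Normal :=
  ⟨fun x hx g => by
    rw [mem_subgroupOf] at hx ⊢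
    exact conj_mem_of_mem (le_normalizer_NN _ _ _ g.2) hx⟩

/-- not all of `Z` is centralised by `H` -/
theorem exists_z : ∃ x ∈ zc (S : Subgroup G), ¬ H ≤ centralizer ({x} : Set G) := by
  by_contra hcon
  push Not at hcon
  apply D.ne
  have h1 : zl (S : Subgroup G) H ≤ zc (S : Subgroup G) := by
    refine zl_le (fun x hx => hx) (le_normalizer_of fun h hh x hx => ?_)
    have h2 := mem_centralizer_iff.mp (hcon x hx hh) x rfl
    rw [← h2, mul_inv_cancel_right]
    exact hx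
  intro v hv
  rw [mem_centralizer_iff]
  intro f hf
  exact (zcomm (h1 hf) (D.VS hv)).symm

section modules

variable [MdInv H (Uk H z)] [MdInv H (zl (S : Subgroup G) H)]

omit D [Finite G] [MdInv H (zl (S : Subgroup G) H)] in
variable (H z) in
/-- `z i` in the module -/
def zz (i : Fin k) : Md H (Uk H z) := Md.mk H (z i) (z_mem_Uk H z i)

omit [MdInv H (Uk H z)] [MdInv H (zl (S : Subgroup G) H)] in
/-- `n i` in `H` -/
def nn (i : Fin k) : ↥H := ⟨n i, D.nH₀ i⟩

/-- the functional of `n i` on `U₁` -/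
noncomputable def ph₁ (i : Fin k) : Md H (Uk H z) →+ ZMod 2 := Md.fnl (n i) (z i) (D.n_act₁ i) (z_mem_Uk H z i)

/-- the functional of `n i` on `U` -/
noncomputable def ph₂ (i : Fin k) : Md H (zl (S : Subgroup G) H) →+ ZMod 2 :=
  Md.fnl (n i) (z i) (D.n_act₂ i) (D.zU i)

theorem tr₁ (i : Fin k) (u : Md H (Uk H z)) : D.nn i • u = u + D.ph₁ i u • zz H z i := Md.fnl_smul rfl u

theorem tr₂ (i : Fin k) (u : Md H (zl (S : Subgroup G) H)) :
    D.nn i • u = u + D.ph₂ i u • Md.incl D.Uk_le (zz H z i) := Md.fnl_smul rfl u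

theorem ph₁_zero {i : Fin k} {u : Md H (Uk H z)} : D.ph₁ i u = 0 ↔ n i * u.val = u.val * n i := Md.fnl_eq_zero

theorem ph₁_self (i : Fin k) : D.ph₁ i (zz H z i) = 0 := by
  rw [D.ph₁_zero]
  exact (D.zn i).symm

theorem ph₁_ne (i : Fin k) : D.ph₁ i ≠ 0 := by
  intro h0
  obtain ⟨f, hf, h1⟩ := D.exists_f i
  have h2 : D.ph₁ i (Md.mk H f hf) = 0 := by rw [h0]; rfl
  rw [D.ph₁_zero, Md.val_mk] at h2
  rw [← h2, mul_inv_cancel_right] at h1
  exact D.z1 i (right_eq_mul.mp h1)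

theorem cj (i j : Fin k) : ∃ x : ↥H, zz H z j = x • zz H z i ∧ D.ph₁ j = act x (D.ph₁ i) := by
  obtain ⟨s, hs, h⟩ := D.Str i j
  refine ⟨⟨s, D.SH hs⟩, Md.ext ?_, ?_⟩
  · rw [Md.val_smul]
    exact h.symm
  · ext u
    have h1 : D.ph₁ j u = 0 ↔ act (⟨s, D.SH hs⟩ : ↥H) (D.ph₁ i) u = 0 := by
      rw [act_apply, D.ph₁_zero, D.ph₁_zero, ← D.s_comm hs h (D.Uk_le u.val_mem), Md.val_smul,
        InvMemClass.coe_inv, inv_inv]
      change _ ↔ n i * (s⁻¹ * u.val * s) = s⁻¹ * u.val * s * n i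
      constructor
      · intro h2
        calc n i * (s⁻¹ * u.val * s) = s⁻¹ * (s * n i * s⁻¹ * u.val) * s := by group
          _ = s⁻¹ * u.val * s * n i := by rw [h2]; group
      · intro h2
        calc s * n i * s⁻¹ * u.val = s * (n i * (s⁻¹ * u.val * s)) * s⁻¹ := by group
          _ = u.val * (s * n i * s⁻¹) := by rw [h2]; group
    rcases z2 (D.ph₁ j u) with h2 | h2
    · rw [h2, h1.mp h2]
    · rcases z2 (act (⟨s, D.SH hs⟩ : ↥H) (D.ph₁ i) u) with h3 | h3
      · rw [h1.mpr h3] at h2; exact absurd h2 (by decide)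
      · rw [h2, h3]

theorem mem_Fx {m : Md H (Uk H z)} : m ∈ FxN (Md H (Uk H z)) ((NN (S : Subgroup G) P H).subgroupOf H) ↔
    ∀ x ∈ NN (S : Subgroup G) P H, x * m.val = m.val * x := by
  constructor
  · intro h x hx
    exact (Md.smul_eq_iff _ _).mp (h ⟨x, D.NN_le_H hx⟩ (mem_subgroupOf.mpr hx))
  · intro h x hx
    exact (Md.smul_eq_iff _ _).mpr (h x (mem_subgroupOf.mp hx))

/-- the group generated by the transvections -/
theorem gen (i₀ : Fin k) : ∀ x ∈ (NN (S : Subgroup G) P H).subgroupOf H,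
    ∃ n' ∈ Subgroup.closure {y : ↥H | ∃ x : ↥H, ∀ u : Md H (Uk H z),
      y • u = u + act x (D.ph₁ i₀) u • (x • zz H z i₀)}, ∀ u : Md H (Uk H z), x • u = n' • u := by
  set T' := Subgroup.closure {y : ↥H | ∃ x : ↥H, ∀ u : Md H (Uk H z),
      y • u = u + act x (D.ph₁ i₀) u • (x • zz H z i₀)} with hT'
  have hn : ∀ t ∈ T', ∀ x : ↥H, x * t * x⁻¹ ∈ T' := by
    intro t ht x
    induction ht using Subgroup.closure_induction with
    | mem y hy =>
      obtain ⟨b, hb⟩ := hy
      refine subset_closure ⟨x * b, fun u => ?_⟩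
      rw [conj_tr hb x, mul_smul]
      congr 2
      rw [act_apply, act_apply, act_apply, mul_inv_rev, mul_smul]
    | one => rw [mul_one, mul_inv_cancel]; exact one_mem _
    | mul a b _ _ ha hb =>
      have e1 : x * (a * b) * x⁻¹ = (x * a * x⁻¹) * (x * b * x⁻¹) := by group
      rw [e1]
      exact mul_mem ha hb
    | inv a _ ha =>
      have e1 : x * a⁻¹ * x⁻¹ = (x * a * x⁻¹)⁻¹ := by group
      rw [e1]
      exact inv_mem ha
  let K' : Subgroup G :=
    { carrier := {g | ∃ hg : g ∈ H, ∃ n' ∈ T', ∀ u : Md H (Uk H z), (⟨g, hg⟩ : ↥H) • u = n' • u}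
      one_mem' := ⟨one_mem _, 1, one_mem _, fun _ => rfl⟩
      mul_mem' := by
        rintro a b ⟨ha, x, hx, h1⟩ ⟨hb, y, hy, h2⟩
        refine ⟨mul_mem ha hb, x * y, mul_mem hx hy, fun u => ?_⟩
        have e1 : (⟨a * b, mul_mem ha hb⟩ : ↥H) = ⟨a, ha⟩ * ⟨b, hb⟩ := rfl
        rw [e1, mul_smul, mul_smul, h2, h1]
      inv_mem' := by
        rintro a ⟨ha, x, hx, h1⟩
        refine ⟨inv_mem ha, x⁻¹, inv_mem hx, fun u => ?_⟩
        have e1 : (⟨a⁻¹, inv_mem ha⟩ : ↥H) = (⟨a, ha⟩ : ↥H)⁻¹ := rfl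
        rw [e1, inv_smul_eq_iff, h1, smul_inv_smul] }
  have hV : zl (S : Subgroup G) P ≤ K' := by
    have htriv : ∀ x ∈ zl (S : Subgroup G) H, x ∈ K' := by
      intro x hx
      refine ⟨D.US.trans D.SH hx, 1, one_mem _, fun u => ?_⟩
      rw [one_smul, Md.smul_eq_iff]
      exact D.commU hx (D.Uk_le u.val_mem)
    have h0 : closure (Set.range z ∪ Set.range n) ≤ K' := by
      rw [closure_le]
      rintro _ (⟨i, rfl⟩ | ⟨i, rfl⟩)
      · exact htriv _ (D.zU i)
      · obtain ⟨x, h1, h2⟩ := D.cj i₀ i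
        refine ⟨D.nH₀ i, D.nn i, subset_closure ⟨x, fun u => ?_⟩, fun u => rfl⟩
        rw [D.tr₁, h1, h2]
    intro v hv
    obtain ⟨x, hx, ε, hε, rfl⟩ := D.cov v hv
    exact mul_mem (h0 hx) (htriv _ (ZU (mem_inf.mp hε).1))
  have hN : NN (S : Subgroup G) P H ≤ K' := by
    refine NN_le fun x hx => ?_
    intro y hy
    rw [mem_pointwise_smul_iff_inv_smul_mem] at hy
    obtain ⟨hg, t, ht, h1⟩ := hV hy
    have e0 : y = x * ((MulAut.conj x)⁻¹ • y) * x⁻¹ := by simp [mul_assoc]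
    have hyH : y ∈ H := by
      rw [e0]
      exact mul_mem (mul_mem hx hg) (inv_mem hx)
    refine ⟨hyH, ⟨x, hx⟩ * t * ⟨x, hx⟩⁻¹, hn t ht _, fun u => ?_⟩
    have e1 : (⟨y, hyH⟩ : ↥H) = ⟨x, hx⟩ * ⟨_, hg⟩ * (⟨x, hx⟩ : ↥H)⁻¹ := Subtype.ext e0
    rw [e1, mul_smul, mul_smul, h1, mul_smul, mul_smul]
  rintro x hx
  obtain ⟨hg, t, ht, h1⟩ := hN (mem_subgroupOf.mp hx)
  exact ⟨t, ht, h1⟩

theorem dat {i₀ : Fin k} {h y : G} (hh : h ∈ H) (hz : h * z i₀ = z i₀ * h) (hy : y ∈ Uk H z)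
    (hn : n i₀ * y = y * n i₀) (hb : n i₀ * (h * y * h⁻¹) ≠ (h * y * h⁻¹) * n i₀) :
    Dat ((NN (S : Subgroup G) P H).subgroupOf H) (zz H z i₀) (D.ph₁ i₀) where
  ne h0 := D.z1 i₀ (congrArg Md.val h0)
  span := by
    rw [eq_top_iff]
    rintro m -
    have key : ∀ x ∈ Uk H z, ∃ hx : x ∈ Uk H z, Md.mk H x hx ∈
        AddSubgroup.closure {m : Md H (Uk H z) | ∃ x : ↥H, x • zz H z i₀ = m} := by
      intro x hx
      refine closure_induction (p := fun x _ => ∃ hx : x ∈ Uk H z, Md.mk H x hx ∈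
        AddSubgroup.closure {m : Md H (Uk H z) | ∃ x : ↥H, x • zz H z i₀ = m}) ?_ ?_ ?_ ?_ hx
      · rintro x ⟨i, g, hg, rfl⟩
        obtain ⟨s, h1, -⟩ := D.cj i₀ i
        refine ⟨PPk_sub ⟨i, g, hg, rfl⟩, AddSubgroup.subset_closure ⟨⟨g, hg⟩ * s, Md.ext ?_⟩⟩
        rw [mul_smul, ← h1]
        rfl
      · exact ⟨one_mem _, AddSubgroup.zero_mem _⟩
      · rintro x y - - ⟨hx, h1⟩ ⟨hy, h2⟩
        exact ⟨mul_mem hx hy, AddSubgroup.add_mem _ h1 h2⟩
      · rintro x - ⟨hx, h1⟩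
        exact ⟨inv_mem hx, AddSubgroup.neg_mem _ h1⟩
    obtain ⟨hx, h1⟩ := key m.val m.val_mem
    exact h1
  tr := ⟨D.nn i₀, mem_subgroupOf.mpr (D.nNN i₀), D.tr₁ i₀⟩
  fe := D.ph₁_self i₀
  f0 := D.ph₁_ne i₀
  gen := D.gen i₀
  d := by
    intro x h1 h2 u
    rw [Md.smul_eq_iff]
    have h3 := D.triv (I := Uk H z ⊓ centralizer (NN (S : Subgroup G) P H : Set G)) inf_le_left
      (le_normalizer_of fun g hg y hy => by
        refine mem_inf.mpr ⟨conj_mem_of_mem (le_normalizer_Uk H z hg) (mem_inf.mp hy).1, ?_⟩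
        rw [mem_centralizer_iff]
        intro m hm
        have h4 := mem_centralizer_iff.mp (mem_inf.mp hy).2 _
          (conj_mem_of_mem (le_normalizer_NN (S : Subgroup G) P H (inv_mem hg)) hm)
        rw [inv_inv] at h4
        calc m * (g * y * g⁻¹) = g * (g⁻¹ * m * g * y) * g⁻¹ := by group
          _ = g * y * g⁻¹ * m := by rw [h4]; group) x.2
      (fun y hy => by
        have h4 := D.mem_Fx.mp (h1 (Md.mk H y hy))
        rw [Md.val_sub, Md.val_smul, Md.val_mk] at h4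
        refine mem_inf.mpr ⟨mul_mem (conj_mem_of_mem (le_normalizer_Uk H z x.2) hy) (inv_mem hy), ?_⟩
        rw [mem_centralizer_iff]
        exact h4)
      (fun y hy => by
        have h4 := h2 (Md.mk H y (mem_inf.mp hy).1) (D.mem_Fx.mpr fun m hm =>
          mem_centralizer_iff.mp (mem_inf.mp hy).2 m hm)
        rw [Md.smul_eq_iff, Md.val_mk] at h4
        rw [cm_def, h4]; group) u.val u.val_mem
    rw [cm_def, mul_inv_eq_one, mul_inv_eq_iff_eq_mul] at h3
    exact h3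
  four := by
    have hz' : h⁻¹ * z i₀ * h = z i₀ := by rw [mul_assoc, ← hz, inv_mul_cancel_left]
    refine ⟨act (⟨h, hh⟩ : ↥H)⁻¹ (D.ph₁ i₀), ⟨?_, (⟨h, hh⟩ : ↥H)⁻¹ * D.nn i₀ * (⟨h, hh⟩ : ↥H)⁻¹⁻¹,
      fun u => ?_⟩, act_ne (D.ph₁_ne i₀) _, fun h0 => ?_⟩
    · rw [act_apply, inv_inv]
      have h1 : (⟨h, hh⟩ : ↥H) • zz H z i₀ = zz H z i₀ := (Md.smul_eq_iff _ _).mpr hz
      rw [h1]
      exact D.ph₁_self i₀
    · rw [conj_tr (D.tr₁ i₀)]
      congr 2
      rw [inv_smul_eq_iff]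
      exact ((Md.smul_eq_iff _ _).mpr hz).symm
    · have h1 := DFunLike.congr_fun h0 (Md.mk H y hy)
      have h2 : D.ph₁ i₀ (Md.mk H y hy) = 0 := D.ph₁_zero.mpr hn
      rw [act_apply, inv_inv, h2, D.ph₁_zero] at h1
      exact hb h1

/-- the product of the `z i` -/
theorem val_e : (∑ i, zz H z i).val = e := by
  rw [Md.val_sum, D.eprod]
  rfl

theorem full {i₀ : Fin k} {h y : G} (hh : h ∈ H) (hz : h * z i₀ = z i₀ * h) (hy : y ∈ Uk H z)
    (hn : n i₀ * y = y * n i₀) (hb : n i₀ * (h * y * h⁻¹) ≠ (h * y * h⁻¹) * n i₀) {x : G}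
    (hx : x ∈ zc (S : Subgroup G)) (hxH : ¬ H ≤ centralizer ({x} : Set G)) :
    Full ((NN (S : Subgroup G) P H).subgroupOf H) ((CZ (S : Subgroup G)).subgroupOf H)
      (Md.incl D.Uk_le : Md H (Uk H z) →+ Md H (zl (S : Subgroup G) H)) (zz H z) D.ph₁ D.nn i₀ (D.ph₂ i₀)
      (Md.mk H x (ZU hx)) where
  dat := D.dat hh hz hy hn hb
  inj a b hab := Md.ext (by
    have h1 := congrArg Md.val hab
    rwa [Md.val_incl, Md.val_incl] at h1)
  eqv _ _ := rfl
  cent := by
    intro g hg u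
    rw [Md.smul_eq_iff]
    have h1 : (g : G) ∈ H ⊓ centralizer (Uk H z : Set G) := by
      refine mem_inf.mpr ⟨g.2, ?_⟩
      rw [mem_centralizer_iff]
      intro f hf
      exact ((Md.smul_eq_iff _ _).mp (hg (Md.mk H f hf))).symm
    exact (mem_centralizer_iff.mp (D.cent_U h1) u.val u.val_mem).symm
  tr2 := ⟨D.nn i₀, mem_subgroupOf.mpr (D.nNN i₀), D.tr₁ i₀, D.tr₂ i₀⟩
  cj i := D.cj i₀ i
  zinj a b hab := D.disj a b (z a) (Or.inl rfl) (Or.inl (congrArg Md.val hab))
  ti := D.tr₁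
  NC := by
    intro g
    obtain ⟨m, hm, c, hc, h1⟩ := D.exists_nc g.2
    exact ⟨⟨m, D.NN_le_H hm⟩, mem_subgroupOf.mpr hm, ⟨c, D.CH hc⟩, mem_subgroupOf.mpr hc, Subtype.ext h1⟩
  Ce := by
    intro c hc
    rw [Md.smul_eq_iff, D.val_e]
    have h1 := C_cent D.eZ (mem_subgroupOf.mp hc)
    rwa [mul_inv_eq_iff_eq_mul] at h1
  hash := by
    intro g hg i
    rw [Md.smul_eq_iff, Md.val_mk] at hg
    have hgK : (g : G) ∈ H ⊓ centralizer ({x} : Set G) := by
      refine mem_inf.mpr ⟨g.2, ?_⟩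
      rw [mem_centralizer_iff]
      intro f hf
      rw [Set.mem_singleton_iff.mp hf]
      exact hg.symm
    have h1 := D.V_le_o2 hx hxH (D.nV i)
    have h2 : (g : G) * n i * (g : G)⁻¹ * (n i)⁻¹ ∈ o2 (H ⊓ centralizer ({x} : Set G)) :=
      mul_mem (conj_mem_of_mem (le_normalizer_o2 _ hgK) h1) (inv_mem h1)
    obtain ⟨m, hm⟩ := (o2_isPGroup (H ⊓ centralizer ({x} : Set G))) ⟨_, h2⟩
    refine ⟨m, fun u => ?_⟩
    have h3 : (g * D.nn i * g⁻¹ * (D.nn i)⁻¹) ^ (2 ^ m) = 1 := by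
      apply Subtype.ext
      have h4 := congrArg Subtype.val hm
      exact h4
    rw [h3, one_smul]
  W := by
    rintro ⟨g, hg, hne⟩
    have hH : ¬ H ≤ centralizer ({e} : Set G) := by
      intro h0
      apply hne
      rw [Md.smul_eq_iff, D.val_e]
      exact (mem_centralizer_iff.mp (h0 g.2) e rfl).symm
    refine ⟨{ carrier := {m | m.val ∈ Wl (S : Subgroup G) H e}
              zero_mem' := by
                change (1 : G) ∈ Wl (S : Subgroup G) H e
                exact one_mem _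
              add_mem' := fun {a b} ha hb => by
                change a.val * b.val ∈ Wl (S : Subgroup G) H e
                exact mul_mem ha hb
              neg_mem' := fun {a} ha => by
                change a.val⁻¹ ∈ Wl (S : Subgroup G) H e
                exact inv_mem ha }, ?_, ?_, ?_⟩
    · intro c hc m hm
      rw [Md.smul_eq_iff, D.val_e] at hc
      refine conj_mem_of_mem (K_norm_Wl (mem_inf.mpr ⟨c.2, ?_⟩)) hm
      rw [mem_centralizer_iff]
      intro f hf
      rw [Set.mem_singleton_iff.mp hf]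
      exact hc.symm
    · intro i m hm
      rw [D.ph₁_zero]
      exact mem_centralizer_iff.mp (D.Wl_cent_V D.eZ hH hm) _ (D.nV i)
    · intro hfix
      exfalso
      obtain ⟨g', hg', h1, h2⟩ := D.exists_ne D.eZ hH
      apply h2
      have h3 := hfix ⟨g', hg'⟩ (by
        change ((⟨g', hg'⟩ : ↥H) • ∑ i, zz H z i).val ∈ Wl (S : Subgroup G) H e
        rw [Md.val_smul, D.val_e]
        exact h1)
      have h4 := congrArg Md.val h3
      rw [Md.val_smul, D.val_e] at h4
      exact h4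

end modules

/-- **The case SL does not occur**: `C_H(z_i)` normalises `C_{U₁}(n_i)`. -/
theorem norm_Y (i : Fin k) {h : G} (hh : h ∈ H) (hz : h * z i = z i * h) {y : G} (hy : y ∈ Uk H z)
    (hn : n i * y = y * n i) : n i * (h * y * h⁻¹) = (h * y * h⁻¹) * n i := by
  by_contra hb
  obtain ⟨x, hx, hxH⟩ := D.exists_z
  have := D.md₁
  have := D.md₂
  have := D.normalN
  exact (D.full hh hz hy hn hb hx hxH).false

end HypK

end Cfsg.Agent.Omega.NOThreeL.RTools.Many
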