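import Cfsg.Agent.Omega.NOThreeL.RTools.Many.SLMod

/-!
# NO-3L, box R ∩ (A), `q = 2`, all `k`, the case SL (#18037 (2)): the end in module language (helper850)

`Full` : `M = U₁ → M₂ = U`, points `z i`, transvections `t i` with functional `φ i`, `X = N C`, `C` fixes `∑ z i`,
`ζ ∈ M₂` with (#).  `Full.false` : contradiction.
-/

set_option autoImplicit false
set_option linter.unusedSectionVars false

namespace Cfsg.Agent.Omega.NOThreeL.RTools.Many.SLMod

open Cfsg.Agent.Omega.NOThreeL.ThmL Cfsg.Agent.Omega.NOThreeL.IndepTwo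

variable {X M M₂ : Type*} [Group X] [AddCommGroup M] [Module (ZMod 2) M] [DistribMulAction X M]
  [AddCommGroup M₂] [Module (ZMod 2) M₂] [DistribMulAction X M₂]

namespace Dat

variable {N : Subgroup X} [N.Normal] {e : M} {f : M →+ ZMod 2} (D : Dat N e f)
include D

/-- a functional of the block which is `1` on the point -/
theorem exists_val_one [Finite M] {p : M} (hp : Pt X e p) : ∃ g, InB N e p g ∧ g p = 1 := by
  obtain ⟨ψ, hψ, h1⟩ := exists_LN (D.ne_Fx hp)
  obtain ⟨a, ha, b, hb, hab⟩ := D.data.exists_add ⟨ψ, hψ⟩ (evN N p)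
  refine ⟨a, ⟨a.2, ha⟩, ?_⟩
  have h2 : evN N p b = 0 := D.data.apply_CC hp.mem (Data.Comp.refl hp.mem) hb
  have h3 : evN N p ⟨ψ, hψ⟩ = 1 := h1
  rw [hab, map_add, h2, add_zero] at h3
  exact h3

/-- two points of a block are separated by the block -/
theorem exists_val [Finite M] {p q : M} (hp : Pt X e p) (hq : Pt X e q) (hpq : Cp N e p q) (hne : p ≠ q) :
    ∃ g, InB N e p g ∧ g p = 1 ∧ g q = 0 := by
  have h0 : p - q ∉ FxN M N := fun h => hne (D.uniq hq hp h)
  obtain ⟨ψ, hψ, h1⟩ := exists_LN h0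
  obtain ⟨a, ha, b, hb, hab⟩ := D.data.exists_add ⟨ψ, hψ⟩ (evN N p)
  have ha' : InB N e p (a : M →+ ZMod 2) := ⟨a.2, ha⟩
  have h2 : (b : M →+ ZMod 2) p = 0 := D.data.apply_CC hp.mem (Data.Comp.refl hp.mem) hb
  have h3 : (b : M →+ ZMod 2) q = 0 := D.data.apply_CC hp.mem hpq hb
  have h4 : ψ = (a : M →+ ZMod 2) + (b : M →+ ZMod 2) := congrArg Subtype.val hab
  rw [h4, AddMonoidHom.add_apply, map_sub, map_sub, h2, h3, sub_zero, add_zero] at h1
  obtain ⟨β, hβ, hβ1⟩ := D.exists_val_one hp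
  rcases z2 ((a : M →+ ZMod 2) p) with h5 | h5 <;> rcases z2 ((a : M →+ ZMod 2) q) with h6 | h6
  · rw [h5, h6] at h1; exact absurd h1 (by decide)
  · rcases z2 (β q) with h7 | h7
    · exact ⟨β, hβ, hβ1, h7⟩
    · refine ⟨β + a, hβ.add ha', ?_, ?_⟩
      · rw [AddMonoidHom.add_apply, hβ1, h5, add_zero]
      · rw [AddMonoidHom.add_apply, h7, h6]; decide
  · exact ⟨a, ha', h5, h6⟩
  · rw [h5, h6] at h1; exact absurd h1 (by decide)

/-- the sum of two points of a block is a point -/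
theorem pt_add [Finite M] {p q : M} (hp : Pt X e p) (hq : Pt X e q) (hpq : Cp N e p q) (hne : p ≠ q)
    {g : M →+ ZMod 2} (hg : InB N e p g) (g0 : g ≠ 0) (gp : g p = 0) (gq : g q = 0) :
    Pt X e (p + q) ∧ Cp N e p (p + q) := by
  have E := D.data
  have h1 : evN N p ≠ evN N q := fun h => hne (D.uniq hq hp (evN_eq.mp h))
  have h2 := Data.comp_add E hp.mem hpq h1
  rw [add_comm, ← evN_add] at h2
  obtain ⟨x, hx⟩ := h2.1
  have hr : Pt X e (x • e) := ⟨x, rfl⟩
  have hpr : Cp N e p (x • e) := by unfold Cp; rw [← hx]; exact h2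
  -- exact transvections
  have hrI : p + q - x • e ∈ FxN M N := evN_eq.mp hx
  have gr : g (x • e) = 0 := by
    have h3 := hg.memLN _ hrI
    rw [map_sub, map_add, gp, gq, add_zero, zero_sub, neg_eq_zero] at h3
    exact h3
  obtain ⟨a, ha, ha'⟩ := D.exact hp hg gp
  obtain ⟨b, hb, hb'⟩ := D.exact hq ((D.inB_iff hp hpq).mp hg) gq
  obtain ⟨c, hc, hc'⟩ := D.exact hr ((D.inB_iff hp hpr).mp hg) gr
  have e1 : ∀ u : M, (a * b) • u = u + g u • (p + q) := by
    intro u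
    rw [mul_smul, hb', smul_add, smul_zmod, ha', ha' q, gq, zero_smul, add_zero, smul_add, add_assoc]
  obtain ⟨u, hu⟩ := exists_one_of g0
  have h3 := D.eq_of_ind (N.mul_mem ha hb) hc (t := fun u => u + g u • (x • e)) (by
    intro u
    rw [e1]
    have h4 : u + g u • (p + q) - (u + g u • x • e) = g u • (p + q - x • e) := by rw [smul_sub]; abel
    rw [h4]
    rcases z2 (g u) with h | h
    · rw [h, zero_smul]; exact (FxN M N).zero_mem
    · rw [h, one_smul]; exact hrI) (fun u => by rw [hc', sub_self]; exact (FxN M N).zero_mem) u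
  rw [e1, hc', hu, one_smul, one_smul] at h3
  have h4 := add_left_cancel h3
  rw [h4]
  exact ⟨hr, hpr⟩

/-- transitivity on the pairs (centre, functional) -/
theorem exists_conj [Finite M] {p : M} (hp : Pt X e p) {g : M →+ ZMod 2} (hg : InB N e p g) (g0 : g ≠ 0)
    (gp : g p = 0) : ∃ b : X, b • e = p ∧ act b f = g := by
  obtain ⟨x, rfl⟩ := hp
  have hp : Pt X e (x • e) := ⟨x, rfl⟩
  obtain ⟨b, hb, h⟩ := D.move hp (D.inB_act x) hg (act_ne D.f0 x) g0 (by rw [act_smul, D.fe]) gp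
  have h1 : b • x • e = x • e := D.uniq hp (hp.smul b) hb
  refine ⟨b * x, by rw [mul_smul, h1], ?_⟩
  rw [← h]
  ext u
  rw [act_apply, act_apply, act_apply, mul_inv_rev, mul_smul]

end Dat

/-- All the data. -/
structure Full (N C : Subgroup X) (j : M →+ M₂) {k : ℕ} (z : Fin k → M) (φ : Fin k → (M →+ ZMod 2))
    (t : Fin k → X) (i₀ : Fin k) (F : M₂ →+ ZMod 2) (ζ : M₂) : Prop where
  dat : Dat N (z i₀) (φ i₀)
  inj : Function.Injective j
  eqv : ∀ (x : X) (u : M), j (x • u) = x • j u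
  cent : ∀ x : X, (∀ u : M, x • u = u) → ∀ u : M₂, x • u = u
  tr2 : ∃ n ∈ N, (∀ u : M, n • u = u + φ i₀ u • z i₀) ∧ ∀ u : M₂, n • u = u + F u • j (z i₀)
  cj : ∀ i, ∃ x : X, z i = x • z i₀ ∧ φ i = act x (φ i₀)
  zinj : Function.Injective z
  ti : ∀ i, ∀ u : M, t i • u = u + φ i u • z i
  NC : ∀ x : X, ∃ n ∈ N, ∃ c ∈ C, x = n * c
  Ce : ∀ c ∈ C, c • (∑ i, z i) = ∑ i, z i
  hash : ∀ y : X, y • ζ = ζ → ∀ i, ∃ m : ℕ, ∀ u : M, ((y * t i * y⁻¹ * (t i)⁻¹) ^ (2 ^ m)) • u = u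
  W : (∃ n ∈ N, n • (∑ i, z i) ≠ ∑ i, z i) → ∃ W : AddSubgroup M,
    (∀ x : X, x • (∑ i, z i) = ∑ i, z i → ∀ w ∈ W, x • w ∈ W) ∧ (∀ i, ∀ w ∈ W, φ i w = 0) ∧
    ((∀ x : X, x • (∑ i, z i) ∈ W → x • (∑ i, z i) = ∑ i, z i) → ∀ x : X, x • (∑ i, z i) = ∑ i, z i)

namespace Full

variable {N C : Subgroup X} [N.Normal] {j : M →+ M₂} {k : ℕ} {z : Fin k → M} {φ : Fin k → (M →+ ZMod 2)}
  {t : Fin k → X} {i₀ : Fin k} {F : M₂ →+ ZMod 2} {ζ : M₂} (A : Full N C j z φ t i₀ F ζ)
include A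

theorem pt (i : Fin k) : Pt X (z i₀) (z i) := by
  obtain ⟨x, hx, -⟩ := A.cj i
  exact ⟨x, hx⟩

theorem inB (i : Fin k) : InB N (z i₀) (z i) (φ i) := by
  obtain ⟨x, hx, hx'⟩ := A.cj i
  rw [hx, hx']
  exact A.dat.inB_act x

theorem φ_ne (i : Fin k) : φ i ≠ 0 := by
  obtain ⟨x, hx, hx'⟩ := A.cj i
  rw [hx']
  exact act_ne A.dat.f0 x

theorem φ_self (i : Fin k) : φ i (z i) = 0 := by
  obtain ⟨x, hx, hx'⟩ := A.cj i
  rw [hx', hx, act_smul, A.dat.fe]

omit A in
/-- the transvection `(g, v)` moves `ζ` by `c v`. -/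
def SS (j : M →+ M₂) (ζ : M₂) (X : Type*) [Group X] [DistribMulAction X M] [DistribMulAction X M₂]
    (g : M →+ ZMod 2) (v : M) (c : ZMod 2) : Prop :=
  ∃ y : X, (∀ u : M, y • u = u + g u • v) ∧ y • ζ = ζ + c • j v

theorem ss_exists [Finite M] {p : M} (hp : Pt X (z i₀) p) {g : M →+ ZMod 2} (hg : InB N (z i₀) p g)
    (g0 : g ≠ 0) (gp : g p = 0) : ∃ c, SS j ζ X g p c := by
  obtain ⟨b, hb, h⟩ := A.dat.exists_conj hp hg g0 gp
  obtain ⟨n, -, h1, h2⟩ := A.tr2
  refine ⟨act b F ζ, b * n * b⁻¹, fun u => ?_, ?_⟩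
  · rw [conj_tr h1, h, hb]
  · rw [conj_tr h2, ← A.eqv, hb]

/-- elements acting equally on `M` act equally on `M₂` -/
theorem eq₂ {y y' : X} (h : ∀ u : M, y • u = y' • u) (u : M₂) : y • u = y' • u := by
  have h1 := A.cent (y'⁻¹ * y) (fun u => by rw [mul_smul, h, inv_smul_smul]) u
  rwa [mul_smul, inv_smul_eq_iff] at h1

omit A in
theorem ss_add {g g' : M →+ ZMod 2} {v : M} {c c' : ZMod 2} (A : Full N C j z φ t i₀ F ζ) (h : SS j ζ X g v c)
    (h' : SS j ζ X g' v c') (gv : g v = 0) : SS j ζ X (g + g') v (c + c') := by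
  obtain ⟨y, hy, h1⟩ := h
  obtain ⟨y', hy', h1'⟩ := h'
  have hv : y • v = v := by rw [hy, gv, zero_smul, add_zero]
  refine ⟨y * y', fun u => ?_, ?_⟩
  · rw [mul_smul, hy', smul_add, smul_zmod, hv, hy, AddMonoidHom.add_apply, add_smul, add_assoc]
  · rw [mul_smul, h1', smul_add, smul_zmod, ← A.eqv, hv, h1, add_smul, add_assoc]

theorem ss_unique {g : M →+ ZMod 2} {v : M} {c c' : ZMod 2} (hv : v ≠ 0) (h : SS j ζ X g v c)
    (h' : SS j ζ X g v c') : c = c' := by
  obtain ⟨y, hy, h1⟩ := h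
  obtain ⟨y', hy', h1'⟩ := h'
  have h2 := A.eq₂ (y := y) (y' := y') (fun u => by rw [hy, hy']) ζ
  rw [h1, h1'] at h2
  have h3 := add_left_cancel h2
  have hj : j v ≠ 0 := fun h => hv (A.inj (h.trans (map_zero j).symm))
  rcases z2 c with h4 | h4 <;> rcases z2 c' with h5 | h5 <;> rw [h4, h5] at h3 ⊢
  · rw [zero_smul, one_smul] at h3; exact absurd h3.symm hj
  · rw [zero_smul, one_smul] at h3; exact absurd h3 hj

theorem ss_indep [Finite M] {p q : M} (hp : Pt X (z i₀) p) (hq : Pt X (z i₀) q) (hpq : Cp N (z i₀) p q)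
    {g : M →+ ZMod 2} (hg : InB N (z i₀) p g) (g0 : g ≠ 0) (gp : g p = 0) (gq : g q = 0) {c c' : ZMod 2}
    (h : SS j ζ X g p c) (h' : SS j ζ X g q c') : c = c' := by
  have D := A.dat
  by_cases hne : p = q
  · subst hne
    exact A.ss_unique (D.ne_zero hp) h h'
  obtain ⟨hr, hpr⟩ := D.pt_add hp hq hpq hne hg g0 gp gq
  have gr : g (p + q) = 0 := by rw [map_add, gp, gq, add_zero]
  obtain ⟨c'', y'', hy'', h1''⟩ := A.ss_exists hr ((D.inB_iff hp hpr).mp hg) g0 gr
  obtain ⟨y, hy, h1⟩ := h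
  obtain ⟨y', hy', h1'⟩ := h'
  have hyq : y • q = q := by rw [hy, gq, zero_smul, add_zero]
  have h2 := A.eq₂ (y := y * y') (y' := y'') (fun u => by
    rw [mul_smul, hy', smul_add, smul_zmod, hyq, hy, hy'', smul_add, add_assoc]) ζ
  rw [mul_smul, h1', smul_add, smul_zmod, ← A.eqv, hyq, h1, h1'', add_assoc] at h2
  have h3 := add_left_cancel h2
  have h4 : c • p + c' • q = c'' • (p + q) := by
    apply A.inj
    rw [map_add]
    have e1 : ∀ (a : ZMod 2) (m : M), j (a • m) = a • j m := by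
      intro a m
      rcases z2 a with h | h
      · rw [h, zero_smul, zero_smul, map_zero]
      · rw [h, one_smul, one_smul]
    rw [e1, e1, e1, h3]
  have hp0 := D.ne_zero hp
  have hq0 := D.ne_zero hq
  rcases z2 c with h5 | h5 <;> rcases z2 c' with h6 | h6 <;> rcases z2 c'' with h7 | h7 <;>
    rw [h5, h6, h7] at h4
  · rw [h5, h6]
  · rw [h5, h6]
  · rw [zero_smul, one_smul, zero_smul, zero_add] at h4; exact absurd h4 hq0
  · rw [zero_smul, one_smul, one_smul, zero_add] at h4; exact absurd (right_eq_add.mp h4) hp0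
  · rw [zero_smul, one_smul, zero_smul, add_zero] at h4; exact absurd h4 hp0
  · rw [zero_smul, one_smul, one_smul, add_zero] at h4; exact absurd (left_eq_add.mp h4) hq0
  · rw [h5, h6]
  · rw [h5, h6]

/-- (#) -/
theorem ss_one [Finite M] {l : Fin k} {g : M →+ ZMod 2} (hg : InB N (z i₀) (z l) g) (gl : g (z l) = 1)
    {v : M} (hv : Pt X (z i₀) v) (hlv : Cp N (z i₀) (z l) v) (gv : g v = 0) {c : ZMod 2}
    (h : SS j ζ X g v c) : c = 1 := by
  have D := A.dat
  rcases z2 c with hc | hc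
  · exfalso
    have g0 : g ≠ 0 := fun h0 => by rw [h0, AddMonoidHom.zero_apply] at gl; exact absurd gl (by decide)
    obtain ⟨v', hv', hlv', gv', -, hφ⟩ := D.exists_pt (A.pt l) hg InB.zero (A.inB l) (A.φ_ne l)
      (fun h => by rw [← h, A.φ_self] at gl; exact absurd gl (by decide)) (A.φ_ne l)
      (fun h => by rw [add_zero] at h; rw [← h, A.φ_self] at gl; exact absurd gl (by decide))
    obtain ⟨c', h'⟩ := A.ss_exists hv' ((D.inB_iff (A.pt l) hlv').mp hg) g0 gv'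
    have hvv' : Cp N (z i₀) v v' := D.cp_trans hv (D.cp_symm (A.pt l) hlv) hlv'
    have hcc := A.ss_indep hv hv' hvv' ((D.inB_iff (A.pt l) hlv).mp hg) g0 gv gv' h h'
    obtain ⟨y, hy, hyζ⟩ := h'
    rw [← hcc, hc, zero_smul, add_zero] at hyζ
    obtain ⟨m, hm⟩ := A.hash y hyζ l
    exact EndData.S3 hy (A.ti l) gv' (A.φ_self l) gl hφ (hm v')
  · exact hc

/-- different `z i` are in different blocks -/
theorem not_cp [Finite M] {i l : Fin k} (hil : i ≠ l) : ¬ Cp N (z i₀) (z i) (z l) := by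
  intro hC
  have D := A.dat
  have hp := A.pt i
  have hq := A.pt l
  have hne : z i ≠ z l := fun h => hil (A.zinj h)
  obtain ⟨g, hg, g1, g2⟩ := D.exists_val hp hq hC hne
  obtain ⟨g', hg', g1', g2'⟩ := D.exists_val hq hp (D.cp_symm hp hC) hne.symm
  have hg'' := (D.inB_iff hp hC).mpr hg'
  -- a common zero
  obtain ⟨x, hx, -⟩ := A.cj i
  obtain ⟨f2, hf2, hf20, hf2f⟩ := D.four
  have hf2L := D.exact_LN hf2
  -- the two functionals at `z i`
  have k1 : InB N (z i₀) (z i) (act x (φ i₀)) := by rw [hx]; exact D.inB_act x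
  have k1z : act x (φ i₀) (z i) = 0 := by rw [hx, act_smul, D.fe]
  have k2 : InB N (z i₀) (z i) (act x f2) := by
    rw [hx]
    refine D.inB_of_Y ⟨x, rfl⟩ (act_mem_LN x hf2L) ?_
    obtain ⟨h0, y, hy⟩ := hf2
    rw [mem_YN]
    refine ⟨?_, x * y * x⁻¹, fun u => ?_⟩
    · change act x f2 (x • z i₀) = 0
      rw [act_smul, h0]
    · change (x * y * x⁻¹) • u - (u + act x f2 u • x • z i₀) ∈ FxN M N
      rw [conj_tr hy, sub_self]
      exact (FxN M N).zero_mem
  have k2z : act x f2 (z i) = 0 := by rw [hx, act_smul, apply_eq_zero hf2]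
  obtain ⟨h, hh, h0, hz, hne'⟩ : ∃ h, InB N (z i₀) (z i) h ∧ h ≠ 0 ∧ h (z i) = 0 ∧ h ≠ g' := by
    by_cases h3 : act x (φ i₀) = g'
    · refine ⟨_, k2, act_ne hf20 x, k2z, fun h4 => hf2f ?_⟩
      have h5 := congrArg (act x⁻¹) (h4.trans h3.symm)
      rwa [Data.act_inv_act, Data.act_inv_act] at h5
    · exact ⟨_, k1, act_ne D.f0 x, k1z, h3⟩
  obtain ⟨v, hv, hpv, gv, gv', -⟩ := D.exists_pt hp hg hg'' hh h0
    (fun h4 => by rw [h4, g1] at hz; exact absurd hz (by decide)) hne'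
    (fun h4 => by
      rw [h4, AddMonoidHom.add_apply, g1, g2'] at hz
      exact absurd hz (by decide))
  have g0 : g ≠ 0 := fun h0 => by rw [h0, AddMonoidHom.zero_apply] at g1; exact absurd g1 (by decide)
  have g0' : g' ≠ 0 := fun h0 => by rw [h0, AddMonoidHom.zero_apply] at g1'; exact absurd g1' (by decide)
  obtain ⟨c, hc⟩ := A.ss_exists hv ((D.inB_iff hp hpv).mp hg) g0 gv
  obtain ⟨c', hc'⟩ := A.ss_exists hv ((D.inB_iff hp hpv).mp hg'') g0' gv'
  have h1 := A.ss_one hg g1 hv hpv gv hc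
  have h2 := A.ss_one (l := l) hg' g1' hv (D.cp_trans hq (D.cp_symm hp hC) hpv) gv' hc'
  have h3 := A.ss_one (l := i) (hg.add hg'') (by rw [AddMonoidHom.add_apply, g1, g2']; decide) hv hpv
    (by rw [AddMonoidHom.add_apply, gv, gv', add_zero]) (ss_add A hc hc' gv)
  rw [h1, h2] at h3
  exact absurd h3 (by decide)

/-- the sum of the `z i` evaluated at a functional of the block of `z l` -/
theorem sum_apply [Finite M] {l : Fin k} (x : X) {p : M} (hp : Pt X (z i₀) p) (h : Cp N (z i₀) p (x • z l))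
    {g : M →+ ZMod 2} (hg : InB N (z i₀) p g) : g (x • ∑ i, z i) = g (x • z l) := by
  have D := A.dat
  rw [Finset.smul_sum, map_sum, Finset.sum_eq_single l]
  · intro i _ hil
    refine D.inB_apply hp ((A.pt i).smul x) (fun h1 => A.not_cp hil ?_) hg
    have h2 := D.cp_act (D.cp_trans ((A.pt i).smul x) (D.cp_symm hp h1) h) x⁻¹
    rwa [inv_smul_smul, inv_smul_smul] at h2
  · intro h1
    exact absurd (Finset.mem_univ l) h1

/-- every block contains some `z i` -/
theorem exists_cp [Finite M] {p : M} (hp : Pt X (z i₀) p) : ∃ i, Cp N (z i₀) (z i) p := by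
  have D := A.dat
  obtain ⟨x, rfl⟩ := hp
  obtain ⟨n, hn, c, hc, rfl⟩ := A.NC x
  have hq : Pt X (z i₀) (c • z i₀) := ⟨c, rfl⟩
  obtain ⟨i, hi⟩ : ∃ i, Cp N (z i₀) (z i) (c • z i₀) := by
    by_contra hcon
    push Not at hcon
    obtain ⟨g, hg, g1⟩ := D.exists_val_one hq
    have h1 := A.sum_apply c hq (cp_self hq) hg
    rw [A.Ce c hc, g1, map_sum, Finset.sum_eq_zero] at h1
    · exact absurd h1 (by decide)
    · intro i _
      exact D.inB_apply hq (A.pt i) (fun h2 => hcon i (D.cp_symm hq h2)) hg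
  refine ⟨i, ?_⟩
  have h1 := D.cp_N hq hn
  rw [mul_smul]
  exact D.cp_trans (A.pt i) hi h1
where
  cp_self {q : M} (hq : Pt X (z i₀) q) : Cp N (z i₀) q q := Data.Comp.refl hq.mem

/-- **The case SL is impossible.** -/
theorem false [Finite M] : False := by
  have D := A.dat
  set s := ∑ i, z i with hs
  have hrefl : ∀ {q : M}, Pt X (z i₀) q → Cp N (z i₀) q q := fun hq => Data.Comp.refl hq.mem
  -- `s ∉ I`
  have hsI : s ∉ FxN M N := by
    intro h
    obtain ⟨g, hg, g1⟩ := D.exists_val_one (A.pt i₀)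
    have h1 := A.sum_apply (l := i₀) 1 (A.pt i₀) (by rw [one_smul]; exact hrefl (A.pt i₀)) hg
    rw [one_smul, one_smul, g1, ← hs, hg.memLN _ h] at h1
    exact absurd h1 (by decide)
  have hmv : ∃ n ∈ N, n • s ≠ s := by
    by_contra hcon
    push Not at hcon
    exact hsI hcon
  obtain ⟨W, hW, hφW, hfix⟩ := A.W hmv
  -- the functionals of the block of `z i` killing `z i` kill `W`
  have claimW : ∀ i, ∀ g, InB N (z i₀) (z i) g → g (z i) = 0 → ∀ w ∈ W, g w = 0 := by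
    intro i g hg gi w hw
    by_cases g0 : g = 0
    · rw [g0]; rfl
    obtain ⟨v, hv, hiv, gv, fv⟩ := D.exists_both (A.pt i) hg (A.inB i) g0 (A.φ_ne i)
    have hin := hg.add (A.inB i)
    obtain ⟨n, hn, hn'⟩ := D.exact hv ((D.inB_iff (A.pt i) hiv).mp hin)
      (by rw [AddMonoidHom.add_apply, gv, fv]; decide)
    have hz : ∀ l, n • z l = z l := by
      intro l
      rw [hn']
      have h1 : (g + φ i) (z l) = 0 := by
        by_cases hl : i = l
        · rw [← hl, AddMonoidHom.add_apply, gi, A.φ_self, add_zero]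
        · exact D.inB_apply (A.pt i) (A.pt l) (A.not_cp hl) hin
      rw [h1, zero_smul, add_zero]
    have hns : n • s = s := by
      rw [hs, Finset.smul_sum]
      exact Finset.sum_congr rfl fun l _ => hz l
    have h2 := hφW i _ (hW n hns w hw)
    rw [hn', map_add, AddMonoidHom.add_apply] at h2
    have h3 : φ i ((g w + φ i w) • v) = g w + φ i w := by
      rcases z2 (g w + φ i w) with h | h
      · rw [h, zero_smul, map_zero]
      · rw [h, one_smul, fv]
    rw [h3, hφW i w hw] at h2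
    rwa [zero_add, add_zero] at h2
  refine hsI fun n _ => hfix (fun x hx => ?_) n
  -- `x • s ∈ W`
  have hσ : ∀ i, ∃ l, x • z l = z i := by
    intro i
    obtain ⟨l, hl⟩ := A.exists_cp ((A.pt i).smul x⁻¹)
    have h1 := D.cp_act hl x
    rw [smul_inv_smul] at h1
    have hxl := (A.pt l).smul x
    refine ⟨l, ?_⟩
    by_contra hne
    obtain ⟨g, hg, g1, g2⟩ := D.exists_val hxl (A.pt i) h1 hne
    have h2 := claimW i g ((D.inB_iff hxl h1).mp hg) g2 _ hx
    rw [A.sum_apply x hxl (hrefl hxl) hg, g1] at h2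
    exact absurd h2 (by decide)
  choose σ hσ using hσ
  have hinj : Function.Injective σ := fun a b hab => A.zinj (by rw [← hσ a, ← hσ b, hab])
  have hbij : Function.Bijective σ := Finite.injective_iff_bijective.mp hinj
  rw [Finset.smul_sum, ← (Equiv.ofBijective σ hbij).sum_comp (fun l => x • z l)]
  exact Finset.sum_congr rfl fun i _ => hσ i

end Full

end Cfsg.Agent.Omega.NOThreeL.RTools.Many.SLMod
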