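import Cfsg.Agent.Omega.NOThreeL.RTools.SLCase

/-!
# NO-3L, box R ∩ (A), `q = 2`, all `k`, the case SL (#18037 (2)), the module `U₁` (helper850)

`X` (`= H`) acts on the finite `F_2`-space `M` (`= U₁`), `N ⊴ X` acts as the group generated by the conjugates of
one transvection `u ↦ u + f(u) e`, `M = ⟨e^X⟩`, `I = FxN N M` is the set of fixed points of `N`.
The dual `LN N M` of `M / I` is a sum of blocks (THEOREM L).

* `Dat.move`, `Dat.exact`, `Dat.uniq`, `Dat.move'`.
-/

set_option autoImplicit false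
set_option linter.unusedSectionVars false

namespace Cfsg.Agent.Omega.NOThreeL.RTools.Many.SLMod

open Cfsg.Agent.Omega.NOThreeL.ThmL Cfsg.Agent.Omega.NOThreeL.IndepTwo

variable {X M : Type*} [Group X] [AddCommGroup M] [Module (ZMod 2) M] [DistribMulAction X M]

omit [Module (ZMod 2) M] in
variable (M) in
/-- The fixed points of `N`. -/
def FxN (N : Subgroup X) : AddSubgroup M where
  carrier := {m | ∀ x ∈ N, x • m = m}
  zero_mem' x _ := smul_zero x
  add_mem' ha hb x hx := by rw [smul_add, ha x hx, hb x hx]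
  neg_mem' ha x hx := by rw [smul_neg, ha x hx]

omit [Module (ZMod 2) M] in
theorem mem_FxN {N : Subgroup X} {m : M} : m ∈ FxN M N ↔ ∀ x ∈ N, x • m = m := Iff.rfl

omit [Module (ZMod 2) M] in
theorem smul_FxN {N : Subgroup X} [hN : N.Normal] {m : M} (x : X) (hm : m ∈ FxN M N) : x • m ∈ FxN M N := by
  intro n hn
  have h1 := hm (x⁻¹ * n * x) (by
    have := hN.conj_mem n hn x⁻¹
    rwa [inv_inv] at this)
  rw [mul_smul, mul_smul, inv_smul_eq_iff] at h1
  exact h1

variable (M) in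
/-- The functionals killing the fixed points of `N`. -/
def LN (N : Subgroup X) : Submodule (ZMod 2) (M →+ ZMod 2) where
  carrier := {φ | ∀ i ∈ FxN M N, φ i = 0}
  zero_mem' _ _ := rfl
  add_mem' ha hb i hi := by rw [AddMonoidHom.add_apply, ha i hi, hb i hi, add_zero]
  smul_mem' c φ hφ i hi := by
    rcases z2 c with rfl | rfl
    · rw [zero_smul]; rfl
    · rw [one_smul]; exact hφ i hi

instance finLN [Finite M] (N : Subgroup X) : Finite ↥(LN M N) :=
  Finite.of_injective (fun g : ↥(LN M N) => ((g : M →+ ZMod 2) : M → ZMod 2))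
    (fun _ _ h => Subtype.ext (DFunLike.coe_injective h))

omit [Module (ZMod 2) M] in
theorem act_mem_LN {N : Subgroup X} [N.Normal] (x : X) {φ : M →+ ZMod 2} (h : φ ∈ LN M N) :
    act x φ ∈ LN M N := fun i hi => by
  rw [act_apply]
  exact h _ (smul_FxN x⁻¹ hi)

instance instAct (N : Subgroup X) [N.Normal] : DistribMulAction X ↥(LN M N) where
  smul x φ := ⟨act x (φ : M →+ ZMod 2), act_mem_LN x φ.2⟩
  one_smul φ := by
    apply Subtype.ext
    change act (1 : X) (φ : M →+ ZMod 2) = φ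
    ext u; simp
  mul_smul x y φ := by
    apply Subtype.ext
    change act (x * y) (φ : M →+ ZMod 2) = act x (act y φ)
    ext u; simp [mul_smul]
  smul_zero x := by
    apply Subtype.ext
    change act x (0 : M →+ ZMod 2) = 0
    ext u; simp
  smul_add x φ ψ := by
    apply Subtype.ext
    change act x ((φ : M →+ ZMod 2) + (ψ : M →+ ZMod 2)) = act x (φ : M →+ ZMod 2) + act x (ψ : M →+ ZMod 2)
    ext u; simp

variable {N : Subgroup X} [N.Normal]

omit [Module (ZMod 2) M] in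
theorem coe_smul' (x : X) (φ : ↥(LN M N)) : ((x • φ : ↥(LN M N)) : M →+ ZMod 2) = act x (φ : M →+ ZMod 2) :=
  rfl

variable (N) in
/-- Evaluation at `m`. -/
def evN (m : M) : ↥(LN M N) →+ ZMod 2 where
  toFun φ := (φ : M →+ ZMod 2) m
  map_zero' := rfl
  map_add' _ _ := rfl

omit [Module (ZMod 2) M] [N.Normal] in
@[simp] theorem evN_apply (m : M) (φ : ↥(LN M N)) : evN N m φ = (φ : M →+ ZMod 2) m := rfl

omit [Module (ZMod 2) M] [N.Normal] in
theorem evN_add (a b : M) : evN N (a + b) = evN N a + evN N b := by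
  ext φ
  exact map_add (φ : M →+ ZMod 2) a b

omit [Module (ZMod 2) M] in
theorem evN_act (x : X) (m : M) : act x (evN N m) = evN N (x • m) := by
  ext φ
  rw [act_apply, evN_apply, evN_apply, coe_smul', act_apply, inv_inv]

omit [N.Normal] in
/-- separation -/
theorem exists_LN {m : M} (hm : m ∉ FxN M N) : ∃ φ ∈ LN M N, φ m = 1 := by
  have hp : m ∉ (AddSubgroup.toZModSubmodule 2 (FxN M N)) := hm
  obtain ⟨φ, hφm, hφp⟩ := Submodule.exists_dual_map_eq_bot_of_notMem hp inferInstance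
  refine ⟨φ.toAddMonoidHom, fun i hi => ?_, (z2 _).resolve_left hφm⟩
  have : φ i ∈ (AddSubgroup.toZModSubmodule 2 (FxN M N)).map φ := ⟨i, hi, rfl⟩
  rw [hφp] at this
  exact (Submodule.mem_bot _).mp this

omit [N.Normal] in
theorem mem_FxN_of {m : M} (h : ∀ φ ∈ LN M N, φ m = 0) : m ∈ FxN M N := by
  by_contra hm
  obtain ⟨φ, hφ, h1⟩ := exists_LN hm
  rw [h φ hφ] at h1
  exact absurd h1 (by decide)

omit [N.Normal] in
theorem evN_eq {a b : M} : evN N a = evN N b ↔ a - b ∈ FxN M N := by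
  constructor
  · intro h
    refine mem_FxN_of fun φ hφ => ?_
    rw [map_sub, sub_eq_zero]
    exact DFunLike.congr_fun h ⟨φ, hφ⟩
  · intro h
    ext φ
    have := φ.2 _ h
    rw [map_sub, sub_eq_zero] at this
    exact this

/-- `Y` of the dual: transvections of `M / I`. -/
theorem mem_YN {e : M} {f : ↥(LN M N)} :
    f ∈ Y X (evN N e) ↔ (f : M →+ ZMod 2) e = 0 ∧
      ∃ x : X, ∀ u : M, x • u - (u + (f : M →+ ZMod 2) u • e) ∈ FxN M N := by
  have aux : ∀ (φ : M →+ ZMod 2) (u : M), φ (u + (f : M →+ ZMod 2) u • e) = φ u + φ e * (f : M →+ ZMod 2) u := by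
    intro φ u
    rw [map_add]
    rcases z2 ((f : M →+ ZMod 2) u) with h | h <;> simp [h]
  constructor
  · rintro ⟨h0, x, hx⟩
    refine ⟨h0, x⁻¹, fun u => mem_FxN_of fun φ hφ => ?_⟩
    have h1 := congrArg (fun ψ : ↥(LN M N) => (ψ : M →+ ZMod 2) u) (hx ⟨φ, hφ⟩)
    simp only [coe_smul', act_apply, evN_apply, Submodule.coe_add, Submodule.coe_smul,
      AddMonoidHom.add_apply, AddMonoidHom.smul_apply, smul_eq_mul] at h1
    rw [map_sub, aux, h1, sub_self]
  · rintro ⟨h0, x, hx⟩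
    refine ⟨h0, x⁻¹, fun φ => ?_⟩
    apply Subtype.ext
    ext u
    have h1 := φ.2 _ (hx u)
    rw [map_sub, aux, sub_eq_zero] at h1
    rw [coe_smul', act_apply, inv_inv, h1]
    rfl

/-- separation in the dual -/
theorem sep {L : Type*} [AddCommGroup L] [Module (ZMod 2) L] (A : AddSubgroup L) {h : L} (hh : h ∉ A) :
    ∃ φ : L →+ ZMod 2, φ h = 1 ∧ ∀ a ∈ A, φ a = 0 := by
  have hp : h ∉ (AddSubgroup.toZModSubmodule 2 A) := hh
  obtain ⟨φ, hφm, hφp⟩ := Submodule.exists_dual_map_eq_bot_of_notMem hp inferInstance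
  refine ⟨φ.toAddMonoidHom, (z2 _).resolve_left hφm, fun i hi => ?_⟩
  have : φ i ∈ (AddSubgroup.toZModSubmodule 2 A).map φ := ⟨i, hi, rfl⟩
  rw [hφp] at this
  exact (Submodule.mem_bot _).mp this

/-- The data. -/
structure Dat (N : Subgroup X) (e : M) (f : M →+ ZMod 2) : Prop where
  ne : e ≠ 0
  span : AddSubgroup.closure {m : M | ∃ x : X, x • e = m} = ⊤
  tr : ∃ n ∈ N, ∀ u : M, n • u = u + f u • e
  fe : f e = 0
  f0 : f ≠ 0
  gen : ∀ n ∈ N, ∃ n' ∈ Subgroup.closure {y : X | ∃ x : X, ∀ u : M, y • u = u + act x f u • (x • e)},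
    ∀ u : M, n • u = n' • u
  d : ∀ x : X, (∀ u : M, x • u - u ∈ FxN M N) → (∀ u ∈ FxN M N, x • u = u) → ∀ u : M, x • u = u
  four : ∃ g : M →+ ZMod 2, e ∈ Y X g ∧ g ≠ 0 ∧ g ≠ f

omit [N.Normal] in
theorem act_ne {f : M →+ ZMod 2} (hf : f ≠ 0) (x : X) : act x f ≠ 0 := by
  intro h0
  apply hf
  have h1 := congrArg (act x⁻¹) h0
  rw [Data.act_inv_act] at h1
  rw [h1]
  ext u; simp

omit [N.Normal] in
theorem exists_one_of {f : M →+ ZMod 2} (hf : f ≠ 0) : ∃ u, f u = 1 := by
  by_contra hcon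
  push Not at hcon
  exact hf (by ext u; exact (z2 _).resolve_right (hcon u))

omit [N.Normal] in
/-- conjugate of a transvection -/
theorem conj_tr {f : M →+ ZMod 2} {e : M} {n : X} (h : ∀ u : M, n • u = u + f u • e) (b : X) (u : M) :
    (b * n * b⁻¹) • u = u + act b f u • (b • e) := by
  rw [mul_smul, mul_smul, h, smul_add, smul_inv_smul, smul_zmod]
  rfl

namespace Dat

variable {e : M} {f : M →+ ZMod 2} (D : Dat N e f)
include D

theorem centre_ne (x : X) : x • e ≠ 0 := by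
  rw [smul_ne_zero_iff_ne]
  exact D.ne

/-- the conjugates are in `N` -/
theorem trN (x : X) : ∃ n ∈ N, ∀ u : M, n • u = u + act x f u • (x • e) := by
  obtain ⟨n, hn, h⟩ := D.tr
  exact ⟨x * n * x⁻¹, (inferInstance : N.Normal).conj_mem n hn x, conj_tr h x⟩

theorem f_LN : f ∈ LN M N := by
  obtain ⟨n, hn, h⟩ := D.tr
  intro i hi
  have h1 := h i
  rw [hi n hn] at h1
  rcases z2 (f i) with h2 | h2
  · exact h2
  · rw [h2, one_smul] at h1
    exact absurd (left_eq_add.mp h1) D.ne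

theorem e_not_mem : e ∉ FxN M N := by
  intro h
  have hall : ∀ m : M, m ∈ FxN M N := by
    intro m
    have hm : m ∈ AddSubgroup.closure {m : M | ∃ x : X, x • e = m} := by rw [D.span]; trivial
    refine (AddSubgroup.closure_le _).mpr ?_ hm
    rintro _ ⟨x, rfl⟩
    exact smul_FxN x h
  apply D.f0
  ext u
  exact D.f_LN u (hall u)

theorem orbit_not_mem (x : X) : x • e ∉ FxN M N := fun h => D.e_not_mem (by
  have h1 := smul_FxN x⁻¹ h
  rwa [inv_smul_smul] at h1)

omit D in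
/-- a functional with centre a point is in `LN` -/
theorem mem_LN_of {g : M →+ ZMod 2} {p : M} (hp : p ∉ FxN M N) {x : X} (hx : ∀ u : M, x • u - (u + g u • p) ∈ FxN M N)
    (hxI : ∀ i ∈ FxN M N, x • i ∈ FxN M N) : g ∈ LN M N := by
  intro i hi
  rcases z2 (g i) with h2 | h2
  · exact h2
  · have h1 := hx i
    rw [h2, one_smul] at h1
    exfalso
    apply hp
    have h3 := (FxN M N).sub_mem (hxI i hi) h1
    have h4 := (FxN M N).sub_mem h3 hi
    have h5 : x • i - (x • i - (i + p)) - i = p := by abel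
    rwa [h5] at h4

/-- submodules -/
theorem sub_or {K : AddSubgroup M} (hK : ∀ (x : X), ∀ n ∈ K, x • n ∈ K) : K ≤ FxN M N ∨ K = ⊤ := by
  by_cases h : K ≤ FxN M N
  · exact Or.inl h
  right
  obtain ⟨m, hm, hmI⟩ := Set.not_subset.mp h
  -- a conjugate of the transvection moves `m`
  have h1 : ∃ x : X, act x f m = 1 := by
    by_contra hcon
    push Not at hcon
    apply hmI
    intro n hn
    obtain ⟨n', hn', h2⟩ := D.gen n hn
    rw [h2]
    have h3 : Subgroup.closure {y : X | ∃ x : X, ∀ u : M, y • u = u + act x f u • (x • e)} ≤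
        MulAction.stabilizer X m := (Subgroup.closure_le _).mpr (by
      rintro y ⟨x, hy⟩
      change y • m = m
      rw [hy, (z2 _).resolve_right (hcon x), zero_smul, add_zero])
    exact h3 hn'
  obtain ⟨x, hx⟩ := h1
  obtain ⟨n, hn, hn'⟩ := D.trN x
  have h3 : x • e ∈ K := by
    have h4 := K.sub_mem (hK n m hm) hm
    rwa [hn', hx, one_smul, add_sub_cancel_left] at h4
  rw [eq_top_iff, ← D.span, AddSubgroup.closure_le]
  rintro _ ⟨w, rfl⟩
  have h5 := hK (w * x⁻¹) _ h3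
  rwa [mul_smul, inv_smul_smul] at h5

theorem irr [Finite M] (K : AddSubgroup ↥(LN M N)) (hK : ∀ (x : X), ∀ n ∈ K, x • n ∈ K) : K = ⊥ ∨ K = ⊤ := by
  classical
  let K' : AddSubgroup M :=
    { carrier := {m | ∀ f ∈ K, (f : M →+ ZMod 2) m = 0}
      zero_mem' := fun f _ => map_zero _
      add_mem' := fun {a b} ha hb f hf => by rw [map_add, ha f hf, hb f hf, add_zero]
      neg_mem' := fun {a} ha f hf => by rw [map_neg, ha f hf, neg_zero] }
  have hK' : ∀ (x : X), ∀ n ∈ K', x • n ∈ K' := by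
    intro x n hn f hf
    have h1 := hn _ (hK x⁻¹ f hf)
    rw [coe_smul', act_apply, inv_inv] at h1
    exact h1
  rcases D.sub_or hK' with h | h
  · right
    rw [eq_top_iff]
    intro φ _
    let W : Submodule (ZMod 2) (Module.Dual (ZMod 2) M) :=
      { carrier := {g | ∃ f ∈ K, (f : M →+ ZMod 2) = g.toAddMonoidHom}
        zero_mem' := ⟨0, K.zero_mem, rfl⟩
        add_mem' := by
          rintro a b ⟨f, hf, hfa⟩ ⟨g, hg, hgb⟩
          exact ⟨f + g, K.add_mem hf hg, by rw [Submodule.coe_add, hfa, hgb]; rfl⟩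
        smul_mem' := by
          rintro c g ⟨f, hf, hfg⟩
          rcases z2 c with rfl | rfl
          · exact ⟨0, K.zero_mem, by rw [zero_smul]; rfl⟩
          · exact ⟨f, hf, by rw [one_smul, hfg]⟩ }
    have hW : W.dualCoannihilator.dualAnnihilator = W := Subspace.dualCoannihilator_dualAnnihilator_eq
    have h1 : ((φ : M →+ ZMod 2).toZModLinearMap 2 : Module.Dual (ZMod 2) M) ∈ W := by
      rw [← hW, Submodule.mem_dualAnnihilator]
      intro m hm
      rw [Submodule.mem_dualCoannihilator] at hm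
      have h2 : m ∈ K' := fun f hf => hm ((f : M →+ ZMod 2).toZModLinearMap 2) ⟨f, hf, rfl⟩
      exact φ.2 _ (h h2)
    obtain ⟨f, hf, hfφ⟩ := h1
    have h2 : f = φ := Subtype.ext hfφ
    rwa [← h2]
  · left
    rw [eq_bot_iff]
    intro f hf
    rw [AddSubgroup.mem_bot]
    apply Subtype.ext
    ext m
    have : m ∈ K' := by rw [h]; trivial
    exact this f hf

theorem evN_ne (x : X) : evN N (x • e) ≠ 0 := by
  intro h
  apply D.orbit_not_mem x
  refine mem_FxN_of fun φ hφ => ?_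
  exact DFunLike.congr_fun h (⟨φ, hφ⟩ : ↥(LN M N))

end Dat

variable (N) in
/-- the points of `M / I` as functionals on the dual -/
def Ph (e : M) : Set (↥(LN M N) →+ ZMod 2) := {φ | ∃ x : X, φ = evN N (x • e)}

namespace Dat

variable {e : M} {f : M →+ ZMod 2} (D : Dat N e f)
include D

theorem exact_LN {g : M →+ ZMod 2} (h : e ∈ Y X g) : g ∈ LN M N := by
  obtain ⟨h0, x, hx⟩ := h
  exact mem_LN_of D.e_not_mem (x := x) (fun u => by rw [hx, sub_self]; exact (FxN M N).zero_mem)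
    (fun i hi => smul_FxN x hi)

theorem f_Y : e ∈ Y X f := by
  obtain ⟨n, -, h⟩ := D.tr
  exact ⟨D.fe, n, h⟩

/-- THEOREM L's data on the dual of `M / I`. -/
theorem data [Finite M] : Data (X := X) (Ph N e) where
  inv := by
    rintro x φ ⟨y, rfl⟩
    exact ⟨x * y, by rw [evN_act, mul_smul]⟩
  trans := by
    rintro φ ⟨x, rfl⟩ ψ ⟨y, rfl⟩
    exact ⟨y * x⁻¹, by rw [evN_act, mul_smul, inv_smul_smul]⟩
  ne := by
    rintro φ ⟨x, rfl⟩
    exact D.evN_ne x
  nonempty := ⟨_, 1, rfl⟩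
  irr := D.irr
  four := by
    rintro φ ⟨x, rfl⟩
    obtain ⟨g, hg, hg0, hgf⟩ := D.four
    have hY : ∀ {g : M →+ ZMod 2} (h : e ∈ Y X g), (⟨g, D.exact_LN h⟩ : ↥(LN M N)) ∈ Y X (evN N e) := by
      rintro g ⟨h0, y, hy⟩
      rw [mem_YN]
      refine ⟨h0, y, fun u => ?_⟩
      rw [hy, sub_self]
      exact (FxN M N).zero_mem
    refine ⟨x • ⟨f, D.exact_LN D.f_Y⟩, ?_, x • ⟨g, D.exact_LN hg⟩, ?_, ?_, ?_, ?_⟩
    · rw [← evN_act]; exact smul_mem_Y (hY D.f_Y) x
    · rw [← evN_act]; exact smul_mem_Y (hY hg) x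
    · rw [smul_ne_zero_iff_ne]
      exact fun h => D.f0 (congrArg Subtype.val h)
    · rw [smul_ne_zero_iff_ne]
      exact fun h => hg0 (congrArg Subtype.val h)
    · exact fun h => hgf (congrArg Subtype.val (MulAction.injective x h)).symm

end Dat

/-! ### Points and blocks -/

/-- `p` is a point. -/
def Pt (X : Type*) [Group X] {M : Type*} [AddCommGroup M] [DistribMulAction X M] (e p : M) : Prop :=
  ∃ x : X, p = x • e

variable (N) in
/-- `p` and `q` are in one block. -/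
def Cp (e p q : M) : Prop := Data.Comp X (Ph N e) (evN N p) (evN N q)

variable (N) in
/-- The functional `g` belongs to the block of `p`. -/
def InB (e p : M) (g : M →+ ZMod 2) : Prop :=
  ∃ h : g ∈ LN M N, (⟨g, h⟩ : ↥(LN M N)) ∈ Data.MM X (Ph N e) (evN N p)

theorem Pt.smul {e p : M} (h : Pt X e p) (x : X) : Pt X e (x • p) := by
  obtain ⟨y, rfl⟩ := h
  exact ⟨x * y, by rw [mul_smul]⟩

theorem Pt.mem {e p : M} (h : Pt X e p) : evN N p ∈ Ph N e := by
  obtain ⟨x, rfl⟩ := h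
  exact ⟨x, rfl⟩

theorem InB.memLN {e p : M} {g : M →+ ZMod 2} (h : InB N e p g) : g ∈ LN M N := h.1

theorem InB.add {e p : M} {g g' : M →+ ZMod 2} (h : InB N e p g) (h' : InB N e p g') : InB N e p (g + g') := by
  obtain ⟨h1, h2⟩ := h
  obtain ⟨h3, h4⟩ := h'
  exact ⟨(LN M N).add_mem h1 h3, AddSubgroup.add_mem _ h2 h4⟩

theorem InB.zero {e p : M} : InB N e p 0 := ⟨(LN M N).zero_mem, AddSubgroup.zero_mem _⟩

namespace Dat

variable {e : M} {f : M →+ ZMod 2} (D : Dat N e f)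
include D

theorem ne_Fx {p : M} (hp : Pt X e p) : p ∉ FxN M N := by
  obtain ⟨x, rfl⟩ := hp
  exact D.orbit_not_mem x

theorem ne_zero {p : M} (hp : Pt X e p) : p ≠ 0 := fun h => D.ne_Fx hp (h ▸ (FxN M N).zero_mem)

omit D in
theorem cp_refl {p : M} (hp : Pt X e p) : Cp N e p p := Data.Comp.refl hp.mem

theorem cp_symm [Finite M] {p q : M} (hp : Pt X e p) (h : Cp N e p q) : Cp N e q p := D.data.comp_symm hp.mem h

theorem cp_trans [Finite M] {p q r : M} (hp : Pt X e p) (h : Cp N e p q) (h' : Cp N e q r) : Cp N e p r :=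
  D.data.comp_trans hp.mem h h'

theorem cp_act [Finite M] {p q : M} (h : Cp N e p q) (x : X) : Cp N e (x • p) (x • q) := by
  have h1 := D.data.comp_act h x
  rw [evN_act, evN_act] at h1
  exact h1

theorem inB_of_Y {p : M} (hp : Pt X e p) {g : M →+ ZMod 2} (hg : g ∈ LN M N)
    (h : (⟨g, hg⟩ : ↥(LN M N)) ∈ Y X (evN N p)) : InB N e p g :=
  ⟨hg, Data.Y_le_MM (Data.Comp.refl hp.mem) h⟩

/-- the conjugates of `f` -/
theorem act_Y (x : X) : (⟨act x f, act_mem_LN x D.f_LN⟩ : ↥(LN M N)) ∈ Y X (evN N (x • e)) := by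
  rw [mem_YN]
  obtain ⟨n, -, h⟩ := D.trN x
  refine ⟨?_, n, fun u => ?_⟩
  · change act x f (x • e) = 0
    rw [act_smul, D.fe]
  · change n • u - (u + act x f u • x • e) ∈ FxN M N
    rw [h, sub_self]
    exact (FxN M N).zero_mem

theorem inB_act (x : X) : InB N e (x • e) (act x f) := D.inB_of_Y ⟨x, rfl⟩ _ (D.act_Y x)

/-- `N` fixes the blocks. -/
theorem cp_N [Finite M] {p : M} (hp : Pt X e p) {n : X} (hn : n ∈ N) : Cp N e p (n • p) := by
  have E := D.data
  obtain ⟨n', hn', h⟩ := D.gen n hn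
  rw [h]
  clear h hn
  -- a generator
  have step : ∀ (y : X) (p : M), Pt X e p →
      y ∈ {y : X | ∃ x : X, ∀ u : M, y • u = u + act x f u • (x • e)} → Cp N e p (y • p) := by
    rintro y p hp ⟨x, hy⟩
    rw [hy]
    rcases z2 (act x f p) with h1 | h1
    · rw [h1, zero_smul, add_zero]
      exact cp_refl hp
    · rw [h1, one_smul, add_comm]
      unfold Cp
      rw [evN_add]
      have h2 : Data.Comp X (Ph N e) (evN N p) (evN N (x • e)) := ⟨⟨x, rfl⟩, Or.inr ⟨_, D.act_Y x, h1⟩⟩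
      refine Data.comp_add E hp.mem h2 ?_
      intro h3
      have h4 := DFunLike.congr_fun h3 (⟨act x f, act_mem_LN x D.f_LN⟩ : ↥(LN M N))
      change act x f p = act x f (x • e) at h4
      rw [h1, act_smul, D.fe] at h4
      exact absurd h4 (by decide)
  induction hn' using Subgroup.closure_induction generalizing p with
  | mem x hx => exact step x p hp hx
  | one => rw [one_smul]; exact cp_refl hp
  | mul a b _ _ ha hb =>
    have h1 := hb hp
    have h2 := ha (hp.smul b)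
    rw [mul_smul]
    exact D.cp_trans hp h1 h2
  | inv a _ ha =>
    have h1 := ha (hp.smul a⁻¹)
    rw [smul_inv_smul] at h1
    exact D.cp_symm (hp.smul a⁻¹) h1

/-- **points from functionals on the dual** -/
theorem exists_pt [Finite M] {p : M} (hp : Pt X e p) {g1 g2 h : M →+ ZMod 2} (h1 : InB N e p g1)
    (h2 : InB N e p g2) (hh : InB N e p h) (n0 : h ≠ 0) (n1 : h ≠ g1) (n2 : h ≠ g2) (n3 : h ≠ g1 + g2) :
    ∃ q, Pt X e q ∧ Cp N e p q ∧ g1 q = 0 ∧ g2 q = 0 ∧ h q = 1 := by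
  have E := D.data
  obtain ⟨h1, h1'⟩ := h1
  obtain ⟨h2, h2'⟩ := h2
  obtain ⟨hh, hh'⟩ := hh
  let A : Submodule (ZMod 2) ↥(LN M N) := AddSubgroup.toZModSubmodule 2 (Data.CC X (Ph N e) (evN N p)) ⊔
    Submodule.span (ZMod 2) {(⟨g1, h1⟩ : ↥(LN M N)), ⟨g2, h2⟩}
  have hA : (⟨h, hh⟩ : ↥(LN M N)) ∉ A := by
    intro hmem
    obtain ⟨c, hc, s, hs, hcs⟩ := Submodule.mem_sup.mp hmem
    obtain ⟨a, b, hab⟩ := Submodule.mem_span_pair.mp hs
    have hc' : c ∈ Data.CC X (Ph N e) (evN N p) := hc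
    have hsM : s ∈ Data.MM X (Ph N e) (evN N p) := by
      rw [← hab]
      refine AddSubgroup.add_mem _ ?_ ?_
      · rcases z2 a with h | h
        · rw [h, zero_smul]; exact AddSubgroup.zero_mem _
        · rw [h, one_smul]; exact h1'
      · rcases z2 b with h | h
        · rw [h, zero_smul]; exact AddSubgroup.zero_mem _
        · rw [h, one_smul]; exact h2'
    have hcM : c ∈ Data.MM X (Ph N e) (evN N p) := by
      have h3 : c = ⟨h, hh⟩ - s := by rw [← hcs]; abel
      rw [h3]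
      exact AddSubgroup.sub_mem _ hh' hsM
    have hc0 : c = 0 := E.eq_zero_of_MM hp.mem hcM fun g hg => E.apply_CC hp.mem hg hc'
    rw [hc0, zero_add, ← hab] at hcs
    have h4 : (a • g1 + b • g2 : M →+ ZMod 2) = h := congrArg Subtype.val hcs
    rcases z2 a with ha | ha <;> rcases z2 b with hb | hb <;> rw [ha, hb] at h4
    · rw [zero_smul, zero_smul, add_zero] at h4; exact n0 h4.symm
    · rw [zero_smul, one_smul, zero_add] at h4; exact n2 h4.symm
    · rw [zero_smul, one_smul, add_zero] at h4; exact n1 h4.symm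
    · rw [one_smul, one_smul] at h4; exact n3 h4.symm
  obtain ⟨φ, hφ1, hφ0⟩ := Submodule.exists_dual_map_eq_bot_of_notMem hA inferInstance
  have hφ : ∀ a ∈ A, φ a = 0 := fun a ha => by
    have : φ a ∈ A.map φ := ⟨a, ha, rfl⟩
    rw [hφ0] at this
    exact (Submodule.mem_bot _).mp this
  have hφ1' : φ ⟨h, hh⟩ = 1 := (z2 _).resolve_left hφ1
  have hC : Data.Comp X (Ph N e) (evN N p) φ.toAddMonoidHom := by
    refine E.comp_of_CC hp.mem (fun h0 => hφ1 (DFunLike.congr_fun h0 _)) fun m hm => ?_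
    exact hφ m ((le_sup_left : AddSubgroup.toZModSubmodule 2 (Data.CC X (Ph N e) (evN N p)) ≤ A) hm)
  obtain ⟨x, hx⟩ := hC.1
  refine ⟨x • e, ⟨x, rfl⟩, ?_, ?_, ?_, ?_⟩
  · unfold Cp; rw [← hx]; exact hC
  · have h3 : φ.toAddMonoidHom ⟨g1, h1⟩ = 0 := hφ _ ((le_sup_right : Submodule.span (ZMod 2) _ ≤ A)
      (Submodule.subset_span (by simp)))
    rw [hx] at h3
    exact h3
  · have h3 : φ.toAddMonoidHom ⟨g2, h2⟩ = 0 := hφ _ ((le_sup_right : Submodule.span (ZMod 2) _ ≤ A)
      (Submodule.subset_span (by simp)))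
    rw [hx] at h3
    exact h3
  · have h3 : φ.toAddMonoidHom ⟨h, hh⟩ = 1 := hφ1'
    rw [hx] at h3
    exact h3

theorem exists_both [Finite M] {p : M} (hp : Pt X e p) {g h : M →+ ZMod 2} (hg : InB N e p g)
    (hh : InB N e p h) (g0 : g ≠ 0) (h0 : h ≠ 0) : ∃ q, Pt X e q ∧ Cp N e p q ∧ g q = 1 ∧ h q = 1 := by
  by_cases hgh : g = h
  · subst hgh
    obtain ⟨q, hq, h1, -, -, h2⟩ := D.exists_pt hp InB.zero InB.zero hg g0 g0 g0 (by rwa [add_zero])
    exact ⟨q, hq, h1, h2, h2⟩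
  · obtain ⟨q, hq, h1, h2, -, h3⟩ := D.exists_pt hp (hg.add hh) InB.zero hg g0
      (fun h => h0 (left_eq_add.mp h)) g0 (fun h => h0 (by rw [add_zero] at h; exact left_eq_add.mp h))
    refine ⟨q, hq, h1, h3, ?_⟩
    rw [AddMonoidHom.add_apply, h3] at h2
    rcases z2 (h q) with h4 | h4
    · rw [h4] at h2; exact absurd h2 (by decide)
    · exact h4

theorem MM_eq [Finite M] {p q : M} (hp : Pt X e p) (h : Cp N e p q) :
    Data.MM X (Ph N e) (evN N p) = Data.MM X (Ph N e) (evN N q) := by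
  have E := D.data
  unfold Data.MM
  congr 1
  ext m
  constructor
  · rintro ⟨k, h1, h2⟩
    exact ⟨k, E.comp_trans h.1 (E.comp_symm hp.mem h) h1, h2⟩
  · rintro ⟨k, h1, h2⟩
    exact ⟨k, E.comp_trans hp.mem h h1, h2⟩

theorem inB_iff [Finite M] {p q : M} (hp : Pt X e p) (h : Cp N e p q) {g : M →+ ZMod 2} :
    InB N e p g ↔ InB N e q g := by
  unfold InB
  rw [D.MM_eq hp h]

/-- functionals of one block vanish on the other blocks -/
theorem inB_apply [Finite M] {p q : M} (hp : Pt X e p) (hq : Pt X e q) (h : ¬ Cp N e p q) {g : M →+ ZMod 2}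
    (hg : InB N e p g) : g q = 0 := by
  obtain ⟨h1, h2⟩ := hg
  exact D.data.apply_MM hp.mem hq.mem h h2

/-- all transvections of `M / I` with functional in the block are induced by `X` -/
theorem exists_ind [Finite M] {p : M} (hp : Pt X e p) {g : M →+ ZMod 2} (hg : InB N e p g) (h0 : g p = 0) :
    ∃ x : X, ∀ u : M, x • u - (u + g u • p) ∈ FxN M N := by
  obtain ⟨h1, h2⟩ := hg
  exact (mem_YN.mp (D.data.mem_Y_of_MM hp.mem h2 h0)).2

omit D in
theorem mem_inv {b : X} {m : M} (h : b • m - m ∈ FxN M N) : b⁻¹ • m - m ∈ FxN M N := by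
  have h1 := smul_FxN b⁻¹ h
  rw [smul_sub, inv_smul_smul] at h1
  have h2 : b⁻¹ • m - m = -(m - b⁻¹ • m) := by abel
  rw [h2]
  exact (FxN M N).neg_mem h1

theorem move [Finite M] {p : M} (hp : Pt X e p) {g h : M →+ ZMod 2} (hg : InB N e p g) (hh : InB N e p h)
    (g0 : g ≠ 0) (h0 : h ≠ 0) (gp : g p = 0) (hhp : h p = 0) : ∃ b : X, b • p - p ∈ FxN M N ∧ act b g = h := by
  obtain ⟨v, hv, hpv, hgv, hhv⟩ := D.exists_both hp hg hh g0 h0
  obtain ⟨x, hx⟩ := D.exists_ind hv ((D.inB_iff hp hpv).mp (hg.add hh))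
    (by rw [AddMonoidHom.add_apply, hgv, hhv]; decide)
  refine ⟨x⁻¹, mem_inv ?_, ?_⟩
  · have h1 := hx p
    rwa [AddMonoidHom.add_apply, gp, hhp, add_zero, zero_smul, add_zero] at h1
  · ext u
    rw [act_apply, inv_inv]
    have h1 := hg.memLN _ (hx u)
    rw [map_sub, sub_eq_zero, map_add] at h1
    rw [h1, AddMonoidHom.add_apply]
    have h2 : g ((g u + h u) • v) = g u + h u := by
      rcases z2 (g u + h u) with h | h
      · rw [h, zero_smul, map_zero]
      · rw [h, one_smul, hgv]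
    rw [h2, ← add_assoc, CharTwo.add_self_eq_zero, zero_add]

/-- an element of `N` is determined by its action on `M / I` -/
theorem eq_of_ind {n n' : X} (hn : n ∈ N) (hn' : n' ∈ N) {t : M → M} (h : ∀ u : M, n • u - t u ∈ FxN M N)
    (h' : ∀ u : M, n' • u - t u ∈ FxN M N) (u : M) : n • u = n' • u := by
  have h1 : ∀ u : M, (n'⁻¹ * n) • u - u ∈ FxN M N := by
    intro u
    have h2 : (n'⁻¹ * n) • u - u = n'⁻¹ • ((n • u - t u) - (n' • u - t u)) := by
      rw [sub_sub_sub_cancel_right, mul_smul, smul_sub, inv_smul_smul]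
    have h3 := (FxN M N).sub_mem (h u) (h' u)
    rw [h2]
    exact smul_FxN _ h3
  have h2 := D.d _ h1 (fun u hu => hu _ (N.mul_mem (N.inv_mem hn') hn)) u
  rwa [mul_smul, inv_smul_eq_iff] at h2

omit D in
variable (N) in
/-- `u ↦ u + g(u) (p + r)` is induced by `N`, `r ∈ I`. -/
def PPr (p : M) (g : M →+ ZMod 2) (r : M) : Prop := r ∈ FxN M N ∧ ∃ n ∈ N, ∀ u : M, n • u = u + g u • (p + r)

omit D in
theorem ind_of {p : M} {g : M →+ ZMod 2} {r : M} (hr : r ∈ FxN M N) {n : X}
    (hn : ∀ u : M, n • u = u + g u • (p + r)) (u : M) : n • u - (u + g u • p) ∈ FxN M N := by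
  rw [hn, smul_add]
  have h1 : u + (g u • p + g u • r) - (u + g u • p) = g u • r := by abel
  rw [h1]
  rcases z2 (g u) with h | h
  · rw [h, zero_smul]; exact (FxN M N).zero_mem
  · rw [h, one_smul]; exact hr

theorem r_unique {p : M} {g : M →+ ZMod 2} (hg0 : g ≠ 0) {r r' : M} (h : PPr N p g r) (h' : PPr N p g r') :
    r = r' := by
  obtain ⟨hr, n, hn, hj⟩ := h
  obtain ⟨hr', n', hn', hj'⟩ := h'
  obtain ⟨u, hu⟩ := exists_one_of hg0
  have h1 := D.eq_of_ind hn hn' (t := fun u => u + g u • p) (ind_of hr hj) (ind_of hr' hj') u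
  rw [hj, hj', hu, one_smul, one_smul] at h1
  exact add_left_cancel (add_left_cancel h1)

omit D in
theorem conj0 {p : M} {g : M →+ ZMod 2} {b : X} (h : PPr N p g 0) (hb : b • p - p ∈ FxN M N) :
    PPr N p (act b g) (b • p - p) := by
  obtain ⟨-, n, hn, hj⟩ := h
  refine ⟨hb, b * n * b⁻¹, (inferInstance : N.Normal).conj_mem n hn b, fun u => ?_⟩
  have h1 : ∀ u : M, n • u = u + g u • p := fun u => by rw [hj, add_zero]
  rw [conj_tr h1, add_sub_cancel]

omit D in
theorem exists_diff {g g' : M →+ ZMod 2} (hg0 : g ≠ 0) (hne : g ≠ g') : ∃ u, g u = 1 ∧ g' u = 0 := by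
  by_contra hcon
  push Not at hcon
  -- `g u = 1` implies `g' u = 1`
  have h1 : ∀ u, g u = 1 → g' u = 1 := fun u hu => (z2 _).resolve_left (hcon u hu)
  obtain ⟨u0, hu0⟩ := exists_one_of hg0
  apply hne
  ext u
  rcases z2 (g u) with h | h
  · have h2 := h1 (u0 + u) (by rw [map_add, hu0, h, add_zero])
    rw [map_add, h1 u0 hu0] at h2
    rw [h]
    rcases z2 (g' u) with h3 | h3
    · exact h3.symm
    · rw [h3] at h2; exact absurd h2 (by decide)
  · rw [h, h1 u h]

/-- additivity -/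
theorem add_r {p : M} {g g' : M →+ ZMod 2} {r r' r'' : M} (h : PPr N p g r) (h' : PPr N p g' r')
    (h'' : PPr N p (g + g') r'') (hg : g p = 0) (hne : g ≠ g') (hg0 : g ≠ 0) : r = r'' := by
  obtain ⟨hr, n, hn, hj⟩ := h
  obtain ⟨hr', n', hn', hj'⟩ := h'
  obtain ⟨hr'', n'', hn'', hj''⟩ := h''
  have e1 : ∀ u : M, (n * n') • u = u + g u • (p + r) + g' u • (p + r') := by
    intro u
    rw [mul_smul, hj' u, smul_add, smul_zmod, hj u]
    have h1 : n • (p + r') = p + r' := by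
      rw [smul_add, hr' n hn, hj p, hg, zero_smul, add_zero]
    rw [h1]
  have h3 : ∀ (a : ZMod 2) {i : M}, i ∈ FxN M N → a • i ∈ FxN M N := by
    intro a i hi
    rcases z2 a with h | h
    · rw [h, zero_smul]; exact (FxN M N).zero_mem
    · rw [h, one_smul]; exact hi
  have h1 : ∀ u : M, (n * n') • u - (u + (g + g') u • p) ∈ FxN M N := by
    intro u
    rw [e1, AddMonoidHom.add_apply, add_smul, smul_add, smul_add]
    have h2 : u + (g u • p + g u • r) + (g' u • p + g' u • r') - (u + (g u • p + g' u • p)) =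
        g u • r + g' u • r' := by abel
    rw [h2]
    exact (FxN M N).add_mem (h3 _ hr) (h3 _ hr')
  obtain ⟨u, hu, hu'⟩ := exists_diff hg0 hne
  have hu'' : (g + g') u = 1 := by rw [AddMonoidHom.add_apply, hu, hu', add_zero]
  have h2 := D.eq_of_ind (N.mul_mem hn hn') hn'' (t := fun u => u + (g + g') u • p) h1 (ind_of hr'' hj'') u
  rw [e1, hj'', hu, hu', hu'', zero_smul, add_zero, one_smul, one_smul] at h2
  exact add_left_cancel (add_left_cancel h2)

/-- **all transvections with centre `p` and functional in the block are induced by `N`** -/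
theorem exact [Finite M] {p : M} (hp : Pt X e p) {g : M →+ ZMod 2} (hg : InB N e p g) (gp : g p = 0) :
    ∃ n ∈ N, ∀ u : M, n • u = u + g u • p := by
  obtain ⟨x, rfl⟩ := hp
  have hp : Pt X e (x • e) := ⟨x, rfl⟩
  by_cases g0 : g = 0
  · exact ⟨1, N.one_mem, fun u => by rw [g0, one_smul, AddMonoidHom.zero_apply, zero_smul, add_zero]⟩
  set h := act x f with hdef
  have hh : InB N e (x • e) h := D.inB_act x
  have hh0 : h ≠ 0 := act_ne D.f0 x
  have hhp : h (x • e) = 0 := by rw [hdef, act_smul, D.fe]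
  have hP : PPr N (x • e) h 0 := by
    obtain ⟨n, hn, hn'⟩ := D.trN x
    exact ⟨(FxN M N).zero_mem, n, hn, fun u => by rw [add_zero]; exact hn' u⟩
  have ex : ∀ {g : M →+ ZMod 2}, InB N e (x • e) g → g ≠ 0 → g (x • e) = 0 → ∃ r, PPr N (x • e) g r := by
    intro g hg hg0 hge
    obtain ⟨b, hb, rfl⟩ := D.move hp hh hg hh0 hg0 hhp hge
    exact ⟨_, conj0 hP hb⟩
  have key : PPr N (x • e) g 0 := by
    obtain ⟨r, hr⟩ := ex hg g0 gp
    by_cases hne : g = h
    · rwa [hne]
    · have hs0 : h + g ≠ 0 := by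
        intro h0
        apply hne
        ext u
        have h2 := DFunLike.congr_fun h0 u
        rw [AddMonoidHom.add_apply, AddMonoidHom.zero_apply] at h2
        rcases z2 (h u) with h3 | h3 <;> rcases z2 (g u) with h4 | h4 <;> rw [h3, h4] at h2 ⊢
        · exact absurd h2 (by decide)
        · exact absurd h2 (by decide)
      obtain ⟨s, hs⟩ := ex (hh.add hg) hs0 (by rw [AddMonoidHom.add_apply, hhp, gp, add_zero])
      have h1 : (0 : M) = s := D.add_r hP hr hs hhp (fun h => hne h.symm) hh0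
      have h2 : r = s := D.add_r hr hP (by rwa [add_comm]) gp hne g0
      rwa [h2, ← h1] at hr
  obtain ⟨-, n, hn, hj⟩ := key
  exact ⟨n, hn, fun u => by rw [hj, add_zero]⟩

/-- **points are determined mod `I`** -/
theorem uniq [Finite M] {p q : M} (hp : Pt X e p) (hq : Pt X e q) (h : q - p ∈ FxN M N) : q = p := by
  obtain ⟨x, rfl⟩ := hp
  obtain ⟨y, rfl⟩ := hq
  have hp : Pt X e (x • e) := ⟨x, rfl⟩
  set b := y * x⁻¹ with hb
  have hbx : b • (x • e) = y • e := by rw [hb, mul_smul, inv_smul_smul]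
  have hb' : b • (x • e) - x • e ∈ FxN M N := by rwa [hbx]
  obtain ⟨n, hn, hn'⟩ := D.trN x
  have hP : PPr N (x • e) (act x f) 0 := ⟨(FxN M N).zero_mem, n, hn, fun u => by rw [add_zero]; exact hn' u⟩
  have h1 := conj0 hP hb'
  have hne : act b (act x f) ≠ 0 := act_ne (act_ne D.f0 x) b
  -- `act b (act x f)` is in the block
  have hin : InB N e (x • e) (act b (act x f)) := by
    have h2 : (⟨act y f, act_mem_LN y D.f_LN⟩ : ↥(LN M N)) ∈ Y X (evN N (x • e)) := by
      have h3 := D.act_Y y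
      rwa [evN_eq.mpr h] at h3
    have h4 : act b (act x f) = act y f := by
      ext u
      rw [act_apply, act_apply, act_apply, hb, mul_inv_rev, inv_inv, mul_smul, inv_smul_smul]
    rw [h4]
    exact D.inB_of_Y hp _ h2
  have hz : act b (act x f) (x • e) = 0 := by
    have h2 := hin.memLN _ (mem_inv hb')
    have h3 : act x f (x • e) = 0 := by rw [act_smul, D.fe]
    have h4 := (D.inB_act x).memLN _ (mem_inv hb')
    rw [map_sub, h3, sub_zero] at h4
    rw [act_apply]
    exact h4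
  obtain ⟨n', hn1, hn2⟩ := D.exact hp hin hz
  have h5 := D.r_unique hne h1 ⟨(FxN M N).zero_mem, n', hn1, fun u => by rw [add_zero]; exact hn2 u⟩
  rw [sub_eq_zero, hbx] at h5
  exact h5

end Dat

end Cfsg.Agent.Omega.NOThreeL.RTools.Many.SLMod
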