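import Cfsg.Agent.Omega.NOThreeL.RTools.Many.SpEnd
import Cfsg.Agent.Omega.NOThreeL.RTools.Many.Five
import Cfsg.Agent.Omega.NOThreeL.RTools.Many.Fr

/-!
# NO-3L, box R, case (A), `q = 2`, all `k`: the symplectic case is impossible

`SpK.false : SpK S P H z n e w B ω → False`.
-/

set_option autoImplicit false
set_option linter.unusedSectionVars false

namespace Cfsg.Agent.Omega.NOThreeL.RTools.Many

open Subgroup Cfsg Cfsg.Agent.Omega.MinPar Cfsg.Agent.Omega.NOThreeL.RTools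
open Cfsg.Agent.ZN (zc zl o2)

universe u

variable {G : Type u} [Group G]

theorem exists_conj_le' [Finite G] (S : Sylow 2 G) {N T : Subgroup G} (hS : (S : Subgroup G) ≤ N)
    (hT : IsPGroup 2 T) (hTN : T ≤ N) : ∃ n ∈ N, ∀ x ∈ T, n * x * n⁻¹ ∈ (S : Subgroup G) := by
  have hf : Fact (Nat.Prime 2) := ⟨Nat.prime_two⟩
  have h3 : IsPGroup 2 (T.subgroupOf N) := hT.comap_subtype
  obtain ⟨P, hP⟩ := h3.exists_le_sylow
  obtain ⟨g, hg⟩ := MulAction.exists_smul_eq N P (S.subtype hS)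
  refine ⟨g, g.2, fun t ht => ?_⟩
  have h1 : (⟨t, hTN ht⟩ : N) ∈ P := hP (Subgroup.mem_subgroupOf.2 ht)
  have h4 : g * (⟨t, hTN ht⟩ : N) * g⁻¹ ∈ (S.subtype hS : Subgroup N) := by
    rw [← hg]
    exact Subgroup.smul_mem_pointwise_smul _ (MulAut.conj g) _ h1
  exact h4

namespace SpK

variable [Finite G] {S : Sylow 2 G} {P H : Subgroup G} {k : ℕ} {z n : Fin k → G} {e w : G}
variable {B : G → G → ℤˣ} {ω : Fin k → G}
variable (D : SpK S P H z n e w B ω)
include D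

/-- the transvections at the points are induced by involutions of `H` -/
theorem tv {q : G} (hq : q ∈ PPk H z) : ∃ t ∈ H, t * t = 1 ∧
    ∀ m ∈ Uk H z, (B q m = 1 → t * m * t⁻¹ = m) ∧ (B q m = -1 → t * m * t⁻¹ = m * q) := by
  obtain ⟨i, h, hh, rfl⟩ := hq
  refine ⟨h * n i * h⁻¹, mul_mem (mul_mem hh (D.VH (D.nV i))) (inv_mem hh), ?_, fun m hm => ?_⟩
  · calc h * n i * h⁻¹ * (h * n i * h⁻¹) = h * (n i * n i) * h⁻¹ := by group
      _ = 1 := by rw [D.n_sq]; group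
  · have h1 := D.av i (D.conj_mem' hh hm)
    rw [D.B_conj hh (D.sys.zU i) hm]
    have e1 : h * n i * h⁻¹ * m * (h * n i * h⁻¹)⁻¹ = h * (n i * (h⁻¹ * m * h) * (n i)⁻¹) * h⁻¹ := by group
    rw [e1]
    refine ⟨fun h2 => ?_, fun h2 => ?_⟩
    · rw [h1.1 h2]; group
    · rw [h1.2 h2]; group

/-- `S` is Sylow in `C_H(e)` -/
theorem syl {t : G} (ht : t ∈ H) (hte : t * LP z = LP z * t) (htt : t * t = 1) :
    ∃ h ∈ H, h * LP z = LP z * h ∧ h * t * h⁻¹ ∈ (S : Subgroup G) := by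
  have he : LP z = e := D.eprod.symm
  rw [he] at hte ⊢
  have h1 : ∀ x : G, x ∈ centralizer ({e} : Set G) ↔ x * e = e * x := by
    intro x
    rw [mem_centralizer_iff]
    exact ⟨fun h => (h e rfl).symm, fun h y hy => by rw [Set.mem_singleton_iff.mp hy, h]⟩
  have h2 : IsPGroup 2 (zpowers t) := by
    intro x
    refine ⟨1, ?_⟩
    obtain ⟨y, hy⟩ := x
    obtain ⟨m, rfl⟩ := mem_zpowers_iff.mp hy
    apply Subtype.ext
    rw [pow_one]
    change (t ^ m) ^ 2 = 1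
    rw [← zpow_natCast, ← zpow_mul, mul_comm m, zpow_mul]
    have h3 : t ^ ((2 : ℕ) : ℤ) = 1 := by rw [zpow_natCast, pow_two, htt]
    rw [h3, one_zpow]
  obtain ⟨h, hh, h3⟩ := exists_conj_le' S (N := H ⊓ centralizer ({e} : Set G)) D.S_le_K h2 (by
    rw [zpowers_le]
    exact mem_inf.mpr ⟨ht, (h1 t).mpr hte⟩)
  exact ⟨h, (mem_inf.mp hh).1, (h1 h).mp (mem_inf.mp hh).2, h3 t (mem_zpowers t)⟩

/-- **the symplectic case is impossible** -/
protected theorem false : False :=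
  End.false (D.mkEnd (S₀ := (S : Subgroup G)) rfl (fun _ hq => D.tv hq) (fun _ h1 h2 h3 => D.syl h1 h2 h3)
    (fun _ hx _ hy => D.WW hx hy) (fun _ hh hT => D.frame hh hT))

end SpK

end Cfsg.Agent.Omega.NOThreeL.RTools.Many
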